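import Mathlib
import Cfsg.Agent.H02.FrobCompl
import Cfsg.Agent.H02.Thompson
import Cfsg.Agent.H02.MinNormal
import Cfsg.Agent.H24.Lift
import Cfsg.Agent.H07.Quat

/-!
# Frobenius complements I (helper18)

`H18.IsFC G` : `G` acts fixed-point-freely on a non-trivial finite group.
* constructors `IsFC.of_act`, `IsFC.of_frob`, `IsFC.of_lin`, `IsFC.of_inj`, `IsFC.sub`;
* `IsFC.isCyclic_of_comm`, `IsFC.cyc_or_quat`, `IsFC.zgroup_odd`, `IsFC.isCyclic_pq`;
* `IsFC.exists_rep` : a fixed-point-free complex representation; `IsFC.invol_eq`, `IsFC.invol_comm`.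
-/

set_option autoImplicit false

namespace H18
open Subgroup

/-- `G` acts fixed-point-freely on a non-trivial finite group -/
def IsFC (G : Type*) [Group G] : Prop :=
  ∃ (K : Type) (_ : Group K) (_ : Finite K) (_ : Nontrivial K) (φ : G →* MulAut K),
    ∀ g, g ≠ 1 → ∀ k, φ g k = k → k = 1

variable {G : Type*} [Group G]

namespace IsFC

theorem of_act {K : Type*} [Group K] [Finite K] [Nontrivial K] (φ : G →* MulAut K)
    (h : ∀ g, g ≠ 1 → ∀ k, φ g k = k → k = 1) : IsFC G := by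
  let e : Shrink.{0} K ≃* K := Shrink.mulEquiv
  refine ⟨Shrink.{0} K, inferInstance, Finite.of_equiv _ e.symm.toEquiv, e.toEquiv.nontrivial,
    (MulAut.congr e.symm).toMonoidHom.comp φ, fun g hg k hk => ?_⟩
  have : φ g (e k) = e k := by
    have := congrArg e hk
    simpa using this
  simpa using h g hg _ this

theorem of_inj {H : Type*} [Group H] (h : IsFC G) (f : H →* G) (hf : Function.Injective f) : IsFC H := by
  obtain ⟨K, _, _, _, φ, hφ⟩ := h
  exact ⟨K, inferInstance, inferInstance, inferInstance, φ.comp f,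
    fun g hg => hφ (f g) fun e => hg (hf (by rw [e, map_one]))⟩

theorem sub (h : IsFC G) (H : Subgroup G) : IsFC H := h.of_inj H.subtype H.subtype_injective

theorem of_equiv {H : Type*} [Group H] (h : IsFC G) (e : H ≃* G) : IsFC H := h.of_inj e e.injective

theorem of_normalizer {X : Type*} [Group X] [Finite X] {A K : Subgroup X} (hK : K ≠ ⊥)
    (hAK : A ≤ normalizer (K : Set X)) (hf : ∀ a ∈ A, a ≠ 1 → ∀ k ∈ K, a * k = k * a → k = 1) : IsFC A := by
  haveI := (K.nontrivial_iff_ne_bot).2 hK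
  refine of_act (K.normalizerMonoidHom.comp (inclusion hAK)) fun g hg k hk => Subtype.ext ?_
  refine hf g g.2 (fun e => hg (Subtype.ext e)) k k.2 ?_
  have : (g : X) * k * (g : X)⁻¹ = k := congrArg Subtype.val hk
  exact mul_inv_eq_iff_eq_mul.1 this

theorem of_frob (h : ∃ (L : Type) (_ : Group L) (_ : Finite L) (H : Subgroup L),
    Cfsg.IsFrobeniusComplement H ∧ Nonempty (G ≃* H)) : IsFC G := by
  obtain ⟨L, _, _, H, hH, ⟨e⟩⟩ := h
  obtain ⟨K, hK, hn, hc, -⟩ := H02.IsFrob.exists_kernel hH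
  refine (of_normalizer (K := K) (A := H) ?_ (by rw [normalizer_eq_top]; exact le_top) ?_).of_equiv e
  · rintro rfl
    exact hH.2.1 (by simpa using hc.sup_eq_top)
  · exact fun a ha h1 k hk e => H02.IsFrob.fpf_kernel hH ha h1 (hK ▸ hk) e

theorem of_lin {R V : Type*} [Semiring R] [AddCommGroup V] [Module R V] [Finite V] [Nontrivial V]
    (ρ : G →* (V ≃ₗ[R] V)) (h : ∀ v : V, v ≠ 0 → ∀ g : G, ρ g v = v → g = 1) : IsFC G := by
  let φ : G →* MulAut (Multiplicative V) :=
    { toFun := fun g => AddEquiv.toMultiplicative (ρ g).toAddEquiv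
      map_one' := by ext; simp
      map_mul' := fun a b => by ext; simp }
  refine of_act φ fun g hg k hk => ?_
  by_contra e
  exact hg (h k.toAdd e g hk)

/-- the ambient semidirect product -/
theorem amb.{u} {G : Type u} [Group G] [Finite G] (h : IsFC G) : ∃ (X : Type u) (_ : Group X) (_ : Finite X) (K : Subgroup X)
    (ι : G →* X), Function.Injective ι ∧ K ≠ ⊥ ∧ K.Normal ∧
      ∀ a ∈ ι.range, a ≠ 1 → K ⊓ centralizer {a} = ⊥ := by
  obtain ⟨K, _, _, _, φ, hφ⟩ := h
  refine ⟨K ⋊[φ] G, inferInstance, Finite.of_equiv _ SemidirectProduct.equivProd.symm,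
    (SemidirectProduct.inl : K →* _).range, SemidirectProduct.inr, SemidirectProduct.inr_injective, ?_, ?_, ?_⟩
  · obtain ⟨k, hk⟩ := exists_ne (1 : K)
    intro e
    have : (SemidirectProduct.inl k : K ⋊[φ] G) ∈ (⊥ : Subgroup _) := e ▸ ⟨k, rfl⟩
    exact hk (SemidirectProduct.inl_injective (by simpa using this))
  · rw [SemidirectProduct.range_inl_eq_ker_rightHom]; infer_instance
  · rintro _ ⟨g, rfl⟩ h1
    rw [eq_bot_iff]
    rintro _ ⟨⟨k, rfl⟩, hk⟩
    have hk' := mem_centralizer_singleton_iff.1 hk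
    have := congrArg SemidirectProduct.left hk'
    simp only [SemidirectProduct.mul_left, SemidirectProduct.left_inl, SemidirectProduct.right_inl, map_one,
      SemidirectProduct.left_inr, mul_one, SemidirectProduct.right_inr, one_mul] at this
    rw [hφ g (fun e => h1 (by rw [e, map_one])) k this.symm, map_one]
    exact one_mem _

variable [Finite G] (h : IsFC G)
include h

theorem isCyclic_aux (hA : IsMulCommutative G ∨ ∃ p q : ℕ, p.Prime ∧ q.Prime ∧ Nat.card G = p * q) :
    IsCyclic G := by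
  obtain ⟨X, _, _, K, ι, hι, hK, hn, hf⟩ := h.amb
  let e := MonoidHom.ofInjective hι
  have := H02.isCyclic_of_fpf (A := ι.range) hK (by rw [normalizer_eq_top]; exact le_top) hf (by
    rcases hA with hA | ⟨p, q, hp, hq, hA⟩
    · left
      exact ⟨⟨fun a b => by
        obtain ⟨a, rfl⟩ := e.surjective a
        obtain ⟨b, rfl⟩ := e.surjective b
        rw [← map_mul, ← map_mul, hA.is_comm.comm]⟩⟩
    · exact Or.inr ⟨p, q, hp, hq, by rw [← hA]; exact (Nat.card_congr e.toEquiv).symm⟩)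
  exact isCyclic_of_surjective e.symm e.symm.surjective

theorem isCyclic_of_comm (A : Subgroup G) (hA : ∀ a ∈ A, ∀ b ∈ A, a * b = b * a) : IsCyclic A :=
  (h.sub A).isCyclic_aux (Or.inl ⟨⟨fun a b => Subtype.ext (hA a a.2 b b.2)⟩⟩)

theorem isCyclic_pq (A : Subgroup G) {p q : ℕ} (hp : p.Prime) (hq : q.Prime) (hA : Nat.card A = p * q) :
    IsCyclic A := (h.sub A).isCyclic_aux (Or.inr ⟨p, q, hp, hq, hA⟩)

theorem cyc_or_quat_aux {p : ℕ} [Fact p.Prime] (hP : IsPGroup p G) :
    IsCyclic G ∨ (p = 2 ∧ ∃ n : ℕ, Nonempty (G ≃* QuaternionGroup (2 ^ n))) := by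
  obtain ⟨X, _, _, K, ι, hι, hK, hn, hf⟩ := h.amb
  let e := MonoidHom.ofInjective hι
  rcases H02.isCyclic_or_quaternion_of_fpf (P := ι.range) (hP.of_equiv e) hK
    (by rw [normalizer_eq_top]; exact le_top) hf with h1 | ⟨h1, n, ⟨f⟩⟩
  · exact Or.inl (isCyclic_of_surjective e.symm e.symm.surjective)
  · exact Or.inr ⟨h1, n, ⟨e.trans f⟩⟩

theorem cyc_or_quat {p : ℕ} [Fact p.Prime] {P : Subgroup G} (hP : IsPGroup p P) :
    IsCyclic P ∨ (p = 2 ∧ ∃ n : ℕ, Nonempty (P ≃* QuaternionGroup (2 ^ n))) :=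
  (h.sub P).cyc_or_quat_aux hP

theorem isCyclic_odd {p : ℕ} [Fact p.Prime] (h2 : p ≠ 2) {P : Subgroup G} (hP : IsPGroup p P) : IsCyclic P :=
  (h.cyc_or_quat hP).resolve_right fun e => h2 e.1

/-- a Frobenius complement with cyclic `2`-subgroups is a Z-group -/
theorem zgroup (h2 : ∀ P : Subgroup G, IsPGroup 2 P → IsCyclic P) : IsZGroup G :=
  ⟨fun p hp P => by
    haveI := Fact.mk hp
    by_cases e : p = 2
    · subst e; exact h2 P P.isPGroup'
    · exact h.isCyclic_odd e P.isPGroup'⟩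

theorem zgroup_odd (h2 : ¬ 2 ∣ Nat.card G) : IsZGroup G := h.zgroup fun P hP => by
  obtain ⟨n, hn⟩ := IsPGroup.iff_card.1 hP
  have := P.card_subgroup_dvd_card
  rcases n with _ | n
  · have : P = ⊥ := card_eq_one.1 (by simpa using hn)
    subst this; infer_instance
  · exact absurd ((hn ▸ dvd_pow_self 2 n.succ_ne_zero).trans this) h2

/-- commuting elements generate a cyclic group -/
theorem mem_zpowers_of_comm {a b : G} (hc : a * b = b * a) (ho : orderOf a ∣ orderOf b) : a ∈ zpowers b := by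
  haveI := h.isCyclic_of_comm (closure {a, b}) (by
    have := isMulCommutative_closure (k := ({a, b} : Set G)) (by
      rintro x (rfl | rfl) y (rfl | rfl) <;> simp [hc])
    exact fun x hx y hy => congrArg Subtype.val (this.is_comm.comm ⟨x, hx⟩ ⟨y, hy⟩))
  refine H07.le_of_card_dvd_of_isCyclic (Z := closure {a, b}) (A := zpowers a) ?_ ?_ ?_ (mem_zpowers a)
  · exact zpowers_le.2 (subset_closure (by simp))
  · exact zpowers_le.2 (subset_closure (by simp))
  · rwa [Nat.card_zpowers, Nat.card_zpowers]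

theorem exists_rep [Nontrivial G] : ∃ (n : ℕ) (ρ : Representation ℂ G (Fin (n + 1) → ℂ)),
    ∀ g, g ≠ 1 → IsUnit (ρ g - 1) := by
  classical
  obtain ⟨X, _, _, K, ι, hι, hK, hn, hf⟩ := h.amb
  have hne : ∀ g : G, g ≠ 1 → ι g ≠ 1 := fun g hg e => hg (hι (by rw [e, map_one]))
  obtain ⟨g, hg⟩ := exists_ne (1 : G)
  obtain ⟨q, hq, hq'⟩ := Nat.exists_prime_and_dvd (n := orderOf g) (by simpa using hg)
  haveI := Fact.mk hq
  obtain ⟨a, ha⟩ := exists_prime_orderOf_dvd_card' (G := G) q (hq'.trans (orderOf_dvd_natCard g))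
  have ha1 : a ≠ 1 := by rintro rfl; exact hq.ne_one (by simpa using ha.symm)
  haveI := H02.isNilpotent_of_fpf (K := K) (a := ι a) hq (by rw [normalizer_eq_top]; exact mem_top _)
    (by rw [← map_pow, ← ha, pow_orderOf_eq_one, map_one]) (hf _ ⟨a, rfl⟩ (hne a ha1))
  obtain ⟨V, hVn, hV0, hVK, -, hVc, p, hp, hVp⟩ := H02.exists_normal_elementary_le K hK
  haveI := Fact.mk hp
  haveI := (V.nontrivial_iff_ne_bot).2 hV0
  let φ : G →* MulAut V := MulAut.conjNormal.comp ι
  have hφ : ∀ g, g ≠ 1 → ∀ v, φ g v = v → v = 1 := fun g hg v hv => by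
    have h1 : ι g * v * (ι g)⁻¹ = v := congrArg Subtype.val hv
    have h2 : (v : X) ∈ K ⊓ centralizer {ι g} :=
      ⟨hVK v.2, mem_centralizer_singleton_iff.2 (mul_inv_eq_iff_eq_mul.1 h1).symm⟩
    rw [hf _ ⟨g, rfl⟩ (hne g hg)] at h2
    exact Subtype.ext h2
  have hVp' : ∀ v : V, v ^ p = 1 := fun v => Subtype.ext (hVp v v.2)
  have hpG : ¬ p ∣ Nat.card G := fun hd => by
    obtain ⟨b, hb⟩ := exists_prime_orderOf_dvd_card' (G := G) p hd
    have hb1 : b ≠ 1 := by rintro rfl; exact hp.ne_one (by simpa using hb.symm)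
    have hP : IsPGroup p (zpowers b) := IsPGroup.of_card (n := 1) (by rw [Nat.card_zpowers, hb, pow_one])
    letI : MulAction (zpowers b) V := MulAction.compHom V (φ.comp (zpowers b).subtype)
    have hV : IsPGroup p V := fun v => ⟨1, by rw [pow_one, hVp']⟩
    obtain ⟨m, hm0, hm⟩ := hV.nontrivial_iff_card.1 inferInstance
    obtain ⟨v, hv, hv1⟩ := hP.exists_fixed_point_of_prime_dvd_card_of_fixed_point V
      (by rw [hm]; exact dvd_pow_self p hm0.ne') (a := 1) (fun g => map_one (φ g))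
    exact hv1 (hφ b hb1 v (hv ⟨b, mem_zpowers b⟩)).symm
  obtain ⟨χ, ⟨n, ρ, rfl⟩, hχ⟩ := H24.exists_character_of_action hVp' hpG φ
  have key : ∀ g, g ≠ 1 → ∀ v, ρ g v = v → v = 0 := fun g hg v hv => by
    haveI := Fintype.ofFinite (zpowers g)
    obtain ⟨d, hd, hs⟩ := hχ (zpowers g)
    have h1 : Nat.card {v : V // ∀ h ∈ zpowers g, φ h v = v} = 1 := by
      rw [Nat.card_eq_one_iff_exists]
      exact ⟨⟨1, fun _ _ => map_one _⟩, fun v => Subtype.ext (hφ g hg _ (v.2 g (mem_zpowers g)))⟩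
    have h2 : d = 0 := by
      rw [h1] at hd
      exact (Nat.pow_eq_one.1 hd.symm).resolve_left hp.ne_one
    haveI : Invertible (Nat.card (zpowers g) : ℂ) := invertibleOfNonzero (by exact_mod_cast Nat.card_pos.ne')
    have h3 := Representation.card_inv_mul_sum_char_eq_finrank (ρ := ρ.comp (zpowers g).subtype)
    have h4 : ∑ x : zpowers g, Representation.character (ρ.comp (zpowers g).subtype) x = 0 := by
      rw [h2, Nat.cast_zero, mul_zero] at hs; exact hs
    rw [h4, mul_zero, eq_comm, Nat.cast_eq_zero, Submodule.finrank_eq_zero] at h3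
    have h5 : v ∈ Representation.invariants (ρ.comp (zpowers g).subtype) := by
      rw [Representation.mem_invariants]
      rintro ⟨x, hx⟩
      change ρ x v = v
      obtain ⟨m, rfl⟩ := mem_powers_iff_mem_zpowers.2 hx
      clear hx
      beta_reduce
      induction m with
      | zero => simp
      | succ m ih => rw [pow_succ, map_mul, Module.End.mul_apply, hv, ih]
    rw [h3] at h5
    exact h5
  have hn0 : n ≠ 0 := by
    rintro rfl
    obtain ⟨d, hd, hs⟩ := hχ ⊥
    have h1 : Nat.card {v : V // ∀ h ∈ (⊥ : Subgroup G), φ h v = v} = Nat.card V :=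
      Nat.card_congr (Equiv.subtypeUnivEquiv fun v h hh => by rw [mem_bot.1 hh, map_one]; rfl)
    have h2 : d = 0 := by
      have : ∀ x : G, ρ.character x = 0 := fun x => by
        rw [Representation.character, Subsingleton.elim (ρ x) 0, map_zero]
      simpa [this] using hs.symm
    rw [h1, h2, pow_zero] at hd
    exact (Finite.one_lt_card (α := V)).ne' hd
  obtain ⟨n, rfl⟩ := Nat.exists_eq_succ_of_ne_zero hn0
  refine ⟨n, ρ, fun g hg => ?_⟩
  rw [LinearMap.isUnit_iff_ker_eq_bot, eq_bot_iff]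
  intro v hv
  exact key g hg v (by simpa [sub_eq_zero] using hv)

omit [Finite G] h in
theorem rep_invol {R : Type*} [Ring R] (ρ : G →* R) (hρ : ∀ g, g ≠ 1 → IsUnit (ρ g - 1)) {z : G}
    (hz : z * z = 1) (h1 : z ≠ 1) : ρ z = -1 := by
  have h2 : (ρ z - 1) * (ρ z + 1) = 0 := by
    have : ρ z * ρ z = 1 := by rw [← map_mul, hz, map_one]
    linear_combination (norm := noncomm_ring) this
  exact eq_neg_of_add_eq_zero_left ((hρ z h1).mul_right_eq_zero.1 h2)

omit [Finite G] h in
theorem rep_inj {R : Type*} [Ring R] [Nontrivial R] (ρ : G →* R) (hρ : ∀ g, g ≠ 1 → IsUnit (ρ g - 1)) :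
    Function.Injective ρ := by
  rw [injective_iff_map_eq_one]
  intro g hg
  by_contra h1
  have := hρ g h1
  rw [hg, sub_self] at this
  exact not_isUnit_zero this

/-- there is at most one involution -/
theorem invol_eq {z t : G} (hz : z * z = 1) (h1 : z ≠ 1) (ht : t * t = 1) (h2 : t ≠ 1) : t = z := by
  haveI : Nontrivial G := ⟨z, 1, h1⟩
  obtain ⟨n, ρ, hρ⟩ := h.exists_rep
  exact rep_inj ρ hρ (by rw [rep_invol ρ hρ hz h1, rep_invol ρ hρ ht h2])

theorem invol_comm {z : G} (hz : z * z = 1) (g : G) : g * z = z * g := by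
  by_cases h1 : z = 1
  · simp [h1]
  have := h.invol_eq hz h1 (t := g * z * g⁻¹) (by rw [conj_mul, hz]; simp) (by
    intro e; exact h1 (by simpa [mul_inv_eq_iff_eq_mul] using e))
  exact mul_inv_eq_iff_eq_mul.1 this

end IsFC
end H18
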