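import Mathlib
import Cfsg.Agent.H18.FC1

/-!
# Frobenius complements II: two elements of order three (helper18)

* `H18.cos_sum` : the solutions of `ζ + ζ⁻¹ + η + η⁻¹ = 1` in roots of unity;
* `H18.pair3` : for `x`, `y` of order three in a fixed-point-free complex representation,
  `X = 2x+1`, `Y = 2y+1` satisfy `X = ±Y`, `XY+YX = ±2` or `(XY+YX)² = 20`.
-/

set_option autoImplicit false

namespace H18

/-- numerals as multiples of `1`, for use in `noncomm_ring [nsm R]` -/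
theorem nsm (R : Type*) [Ring R] (n : ℕ) [n.AtLeastTwo] :
    (no_index (OfNat.ofNat n) : R) = (OfNat.ofNat n : ℤ) • (1 : R) := by simp

theorem add_inv_real {z : ℂ} {n : ℕ} (hn : n ≠ 0) (hz : z ^ n = 1) :
    ∃ t : ℝ, z + z⁻¹ = t ∧ -2 ≤ t ∧ t ≤ 2 := by
  have h1 : ‖z‖ = 1 := Complex.norm_eq_one_of_pow_eq_one hz hn
  refine ⟨2 * z.re, ?_, ?_, ?_⟩
  · rw [Complex.inv_eq_conj h1, Complex.add_conj]
  · have := (abs_le.1 (Complex.abs_re_le_norm z)).1; linarith
  · have := (abs_le.1 (Complex.abs_re_le_norm z)).2; linarith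

theorem cos_sum {ζ η d : ℂ} {n : ℕ} (hn : n ≠ 0) (hζ : ζ ^ n = 1) (hη : η ^ n = 1)
    (h1 : ζ + ζ⁻¹ = 1 + d) (h2 : η + η⁻¹ = -d) :
    d = 0 ∨ d = -1 ∨ d ^ 2 + d - 1 = 0 ∨ d = 1 ∨ d = -2 := by
  have hi : ∀ z : ℂ, z ^ n = 1 → IsIntegral ℤ z := fun z hz =>
    IsIntegral.of_pow (Nat.pos_of_ne_zero hn) (hz ▸ isIntegral_one)
  let K := IntermediateField.adjoin ℚ ({ζ, η} : Set ℂ)
  haveI : FiniteDimensional ℚ K := IntermediateField.finiteDimensional_adjoin (by
    rintro x (rfl | rfl) <;> exact (hi _ ‹_›).tower_top)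
  haveI : NumberField K := ⟨⟩
  let z : K := ⟨ζ, IntermediateField.subset_adjoin _ _ (by simp)⟩
  let w : K := ⟨η, IntermediateField.subset_adjoin _ _ (by simp)⟩
  have hz : z ^ n = 1 := Subtype.ext hζ
  have hw : w ^ n = 1 := Subtype.ext hη
  let e : K := -(w + w⁻¹)
  have he : (e : ℂ) = d := by
    have : (e : ℂ) = -(η + η⁻¹) := rfl
    rw [this, h2, neg_neg]
  have hze : z + z⁻¹ = 1 + e := Subtype.ext (by
    have : ((z + z⁻¹ : K) : ℂ) = ζ + ζ⁻¹ := rfl
    rw [this, h1, ← he]; rfl)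
  have hwi : IsIntegral ℤ w := IsIntegral.of_pow (Nat.pos_of_ne_zero hn) (hw ▸ isIntegral_one)
  have hwi' : IsIntegral ℤ w⁻¹ :=
    IsIntegral.of_pow (Nat.pos_of_ne_zero hn) (by rw [inv_pow, hw, inv_one]; exact isIntegral_one)
  have hei : IsIntegral ℤ e := (hwi.add hwi').neg
  have hfi : IsIntegral ℤ (e ^ 2 + e - 1) := ((hei.pow 2).add hei).sub isIntegral_one
  have hx : (e ^ 2 + e - 1) ^ 2 * ((e ^ 2 + e - 1) ^ 2 - 1) = 0 := by
    by_contra h0
    have hlt : ∀ φ : K →+* ℂ, ‖φ ((e ^ 2 + e - 1) ^ 2 * ((e ^ 2 + e - 1) ^ 2 - 1))‖ < 1 := fun φ => by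
      obtain ⟨s, hs, hs1, hs2⟩ := add_inv_real hn (z := φ z) (by rw [← map_pow, hz, map_one])
      obtain ⟨t, ht, ht1, ht2⟩ := add_inv_real hn (z := φ w) (by rw [← map_pow, hw, map_one])
      have k1 : φ e = ((-t : ℝ) : ℂ) := by
        rw [Complex.ofReal_neg, ← ht]; simp [e]
      have k2 : s = 1 - t := by
        have := congrArg φ hze
        rw [map_add, map_inv₀, hs, map_add, map_one, k1] at this
        exact_mod_cast this
      have k3 : φ ((e ^ 2 + e - 1) ^ 2 * ((e ^ 2 + e - 1) ^ 2 - 1)) =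
          (((t ^ 2 - t - 1) ^ 2 * ((t ^ 2 - t - 1) ^ 2 - 1) : ℝ) : ℂ) := by
        simp only [map_mul, map_pow, map_sub, map_add, map_one, k1]; push_cast; ring
      rw [k3, Complex.norm_real, Real.norm_eq_abs, abs_lt]
      have k4 : -5 / 4 ≤ t ^ 2 - t - 1 := by nlinarith [sq_nonneg (t - 1 / 2)]
      have k5 : t ^ 2 - t - 1 ≤ 1 := by nlinarith
      generalize t ^ 2 - t - 1 = f at k4 k5
      have k6 : f ^ 2 ≤ 25 / 16 := by nlinarith
      have k7 := sq_nonneg f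
      generalize f ^ 2 = g at k6 k7
      constructor <;> nlinarith [sq_nonneg (g - 1 / 2)]
    obtain ⟨m, hm, hm1⟩ := NumberField.Embeddings.pow_eq_one_of_norm_le_one K ℂ h0
      ((hfi.pow 2).mul ((hfi.pow 2).sub isIntegral_one)) fun φ => (hlt φ).le
    exact (hlt K.val).ne (Complex.norm_eq_one_of_pow_eq_one (by rw [← map_pow, hm1, map_one]) hm.ne')
  have hx' : (d ^ 2 + d - 1) ^ 2 * (d * (d + 1) * (d - 1) * (d + 2)) = 0 := by
    have := congrArg (fun x : K => (x : ℂ)) hx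
    push_cast at this
    rw [he] at this
    linear_combination this
  simp only [mul_eq_zero, pow_eq_zero_iff two_ne_zero, add_eq_zero_iff_eq_neg, sub_eq_zero] at hx'
  rw [sub_eq_zero]
  tauto

variable {G R : Type*} [Group G] [Ring R] [Algebra ℂ R] (ρ : G →* R) (hρ : ∀ g, g ≠ 1 → IsUnit (ρ g - 1))

theorem rep_mul_inv (g : G) : ρ g * ρ g⁻¹ = 1 := by rw [← map_mul, mul_inv_cancel, map_one]
theorem rep_inv_mul (g : G) : ρ g⁻¹ * ρ g = 1 := by rw [← map_mul, inv_mul_cancel, map_one]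

theorem exists_spec (g : G) {t : ℂ} (h : t ∈ spectrum ℂ (ρ g + ρ g⁻¹)) :
    ∃ η ∈ spectrum ℂ (ρ g), η + η⁻¹ = t := by
  obtain ⟨s, hs⟩ := IsAlgClosed.exists_pow_nat_eq (t ^ 2 - 4) two_pos
  have h1 : (t + s) / 2 * ((t - s) / 2) = 1 := by linear_combination (-1 / 4) * hs
  by_contra hc
  push Not at hc
  have k1 : IsUnit (algebraMap ℂ R ((t + s) / 2) - ρ g) := by
    by_contra e
    exact hc _ e (by rw [inv_eq_of_mul_eq_one_right h1]; ring)
  have k2 : IsUnit (algebraMap ℂ R ((t - s) / 2) - ρ g) := by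
    by_contra e
    exact hc _ e (by rw [inv_eq_of_mul_eq_one_left h1]; ring)
  have k3 : IsUnit (ρ g⁻¹) := (Group.isUnit _).map ρ
  refine h ?_
  have k4 := (k3.mul (k1.mul k2)).neg
  have k5 : algebraMap ℂ R t = algebraMap ℂ R ((t + s) / 2) + algebraMap ℂ R ((t - s) / 2) := by
    rw [← map_add]; congr 1; ring
  have k6 : algebraMap ℂ R ((t + s) / 2) * algebraMap ℂ R ((t - s) / 2) = 1 := by rw [← map_mul, h1, map_one]
  have k7 := Algebra.commutes ((t + s) / 2) (ρ g)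
  have k8 := rep_inv_mul ρ g
  change IsUnit (algebraMap ℂ R t - (ρ g + ρ g⁻¹))
  rw [k5]
  generalize algebraMap ℂ R ((t + s) / 2) = a at *
  generalize algebraMap ℂ R ((t - s) / 2) = b at *
  convert k4 using 1
  linear_combination (norm := noncomm_ring) ρ g⁻¹ * k6 - ρ g⁻¹ * k7 - k8 * a - k8 * b + k8 * ρ g

theorem spec_pow {g : G} {η : ℂ} (h : η ∈ spectrum ℂ (ρ g)) {k : ℕ} (hk : g ^ k = 1) : η ^ k = 1 := by
  have := spectrum.pow_mem_pow _ k h
  rw [← map_pow, hk, map_one] at this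
  by_contra e
  refine this ?_
  change IsUnit (algebraMap ℂ R _ - 1)
  rw [← map_one (algebraMap ℂ R), ← map_sub]
  exact (IsUnit.mk0 _ (sub_ne_zero.2 e)).map _

include hρ

theorem spec_pow' {g : G} {η : ℂ} (h : η ∈ spectrum ℂ (ρ g)) {k : ℕ} (hk : η ^ k = 1) : g ^ k = 1 := by
  have := spectrum.pow_mem_pow _ k h
  rw [← map_pow, hk] at this
  by_contra e
  refine this ?_
  change IsUnit (algebraMap ℂ R _ - _)
  rw [map_one, ← neg_sub]
  exact (hρ _ e).neg

theorem spec_neg {g : G} {η : ℂ} (h : η ∈ spectrum ℂ (ρ g)) {k : ℕ} (hk : η ^ k = -1) :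
    ρ g ^ k = -1 ∧ (k ≠ 1 → η ≠ -1 → IsUnit (ρ g + 1)) := by
  have h1 : g ^ k * g ^ k = 1 := by
    rw [← pow_add]; exact spec_pow' ρ hρ h (by rw [pow_add, hk]; ring)
  have h2 : g ^ k ≠ 1 := fun e => by
    have := spec_pow ρ h e
    rw [hk] at this; norm_num at this
  have h3 := IsFC.rep_invol ρ hρ h1 h2
  refine ⟨by rw [← map_pow, h3], fun _ hη => ?_⟩
  have h4 : g ^ k * g ≠ 1 := fun e => by
    have := spec_pow ρ h (k := k + 1) (by rw [pow_succ, e])
    rw [pow_succ, hk] at this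
    exact hη (by linear_combination -this)
  have := (hρ _ h4).neg
  rwa [map_mul, h3, neg_one_mul, neg_sub, sub_neg_eq_add, add_comm] at this

omit [Algebra ℂ R]
theorem rep_three {x : G} (hx : orderOf x = 3) : ρ x * ρ x + ρ x + 1 = 0 := by
  have h1 : x ≠ 1 := by rintro rfl; simp at hx
  have h2 : ρ x * ρ x * ρ x = 1 := by
    rw [← map_mul, ← map_mul, ← pow_three', ← hx, pow_orderOf_eq_one, map_one]
  refine (hρ x h1).mul_right_eq_zero.1 ?_
  linear_combination (norm := noncomm_ring) h2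

theorem rep_three_inv {x : G} (hx : orderOf x = 3) : ρ x⁻¹ = -1 - ρ x := by
  have h1 := rep_three ρ hρ hx
  have h2 : ρ x⁻¹ * ρ x = 1 := by rw [← map_mul, inv_mul_cancel, map_one]
  have h3 : ρ x⁻¹ * (ρ x * ρ x + ρ x + 1) = 0 := by rw [h1, mul_zero]
  linear_combination (norm := noncomm_ring) h3 - h2 * ρ x - h2

theorem pair3 [Algebra ℂ R] [Finite G] [Nontrivial R] [FiniteDimensional ℂ R] {x y : G} (hx : orderOf x = 3)
    (hy : orderOf y = 3) {c : R} (hc : c = (2 * ρ x + 1) * (2 * ρ y + 1) + (2 * ρ y + 1) * (2 * ρ x + 1)) :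
    x = y ∨ x = y⁻¹ ∨ c = 2 ∨ c = -2 ∨ c * c = 20 := by
  obtain ⟨d, hd⟩ : ∃ d, d = ρ x * ρ y + ρ y * ρ x + ρ x + ρ y := ⟨_, rfl⟩
  have hcd : c = 4 * d + 2 := by rw [hc, hd]; noncomm_ring [nsm R]
  have e1 : ρ (x * y) + ρ (x * y)⁻¹ = 1 + d := by
    rw [mul_inv_rev, map_mul, map_mul, rep_three_inv ρ hρ hx, rep_three_inv ρ hρ hy, hd]; noncomm_ring
  have e2 : ρ (x * y⁻¹) + ρ (x * y⁻¹)⁻¹ = -d := by
    rw [mul_inv_rev, inv_inv, map_mul, map_mul, rep_three_inv ρ hρ hx, rep_three_inv ρ hρ hy, hd]; noncomm_ring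
  obtain ⟨t, ht⟩ := spectrum.nonempty_of_isAlgClosed_of_finiteDimensional ℂ d
  obtain ⟨ζ, hζ, k1⟩ := exists_spec ρ (x * y) (t := 1 + t) (by
    rw [e1]; intro e; apply ht
    change IsUnit (_ - _) at e ⊢
    rwa [map_add, map_one, add_sub_add_left_eq_sub] at e)
  obtain ⟨η, hη, k2⟩ := exists_spec ρ (x * y⁻¹) (t := -t) (by
    rw [e2]; intro e; apply ht
    change IsUnit (_ - _) at e ⊢
    rw [map_neg, neg_sub_neg] at e
    simpa using e.neg)
  have hn : Nat.card G ≠ 0 := Nat.card_pos.ne'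
  have hη1 := spec_pow ρ hη (pow_card_eq_one' (x := x * y⁻¹))
  have hζ1 := spec_pow ρ hζ (pow_card_eq_one' (x := x * y))
  have hη0 : η ≠ 0 := by rintro rfl; simp [hn] at hη1
  have hζ0 : ζ ≠ 0 := by rintro rfl; simp [hn] at hζ1
  have k3 : η ^ 2 + t * η + 1 = 0 := by field_simp at k2; linear_combination k2
  have k4 : ζ ^ 2 - (1 + t) * ζ + 1 = 0 := by field_simp at k1; linear_combination k1
  have g1 := rep_mul_inv ρ (x * y⁻¹)
  have g2 := rep_inv_mul ρ (x * y⁻¹)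
  rcases cos_sum hn hζ1 hη1 k1 k2 with rfl | rfl | h | rfl | rfl
  · have := (spec_neg ρ hρ hη (k := 2) (by linear_combination k3)).1
    refine Or.inr (Or.inr (Or.inl ?_))
    generalize ρ (x * y⁻¹) = g at *
    generalize ρ (x * y⁻¹)⁻¹ = g' at *
    have : d = 0 := by linear_combination (norm := noncomm_ring) e2 - g' * this + g2 * g
    rw [hcd, this]; noncomm_ring [nsm R]
  · obtain ⟨p1, p2⟩ := spec_neg ρ hρ hη (k := 3) (by linear_combination (η + 1) * k3)
    have p3 := p2 (by norm_num) (by rintro rfl; norm_num at k3)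
    refine Or.inr (Or.inr (Or.inr (Or.inl ?_)))
    generalize ρ (x * y⁻¹) = g at *
    generalize ρ (x * y⁻¹)⁻¹ = g' at *
    have p4 : g * g - g + 1 = 0 := p3.mul_right_eq_zero.1 (by linear_combination (norm := noncomm_ring) p1)
    have : d = -1 := by linear_combination (norm := noncomm_ring) e2 - g' * p4 + g2 * g - g2
    rw [hcd, this]; noncomm_ring [nsm R]
  · have q1 : η ^ 4 - η ^ 3 + η ^ 2 - η + 1 = 0 := by
      linear_combination (η ^ 2 - (1 + t) * η + 1) * k3 + η ^ 2 * h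
    obtain ⟨p1, p2⟩ := spec_neg ρ hρ hη (k := 5) (by linear_combination (η + 1) * q1)
    have p3 := p2 (by norm_num) (by rintro rfl; norm_num at q1)
    refine Or.inr (Or.inr (Or.inr (Or.inr ?_)))
    generalize ρ (x * y⁻¹) = g at *
    generalize ρ (x * y⁻¹)⁻¹ = g' at *
    have p4 : g ^ 4 - g ^ 3 + g ^ 2 - g + 1 = 0 :=
      p3.mul_right_eq_zero.1 (by linear_combination (norm := noncomm_ring) p1)
    have p5 : d = -(g + g') := by rw [e2, neg_neg]
    have p6 : g' * g' * (g * g) = 1 := by linear_combination (norm := noncomm_ring) g' * g2 * g + g2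
    have p7 : g' * g' * g = g' := by linear_combination (norm := noncomm_ring) g' * g2
    have : d * d + d - 1 = 0 := by
      rw [p5]
      linear_combination (norm := noncomm_ring) g' * g' * p4 - p6 * (g * g) + p6 * g - p6 + p7 + g1 + g2
    rw [hcd]
    linear_combination (norm := noncomm_ring [nsm R]) 16 * this
  · have : ζ ^ 1 = 1 := by
      have : (ζ - 1) ^ 2 = 0 := by linear_combination k4
      rw [pow_one, ← sub_eq_zero]; exact pow_eq_zero_iff two_ne_zero |>.1 this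
    have := spec_pow' ρ hρ hζ this
    exact Or.inr (Or.inl (eq_inv_of_mul_eq_one_left (by rwa [pow_one] at this)))
  · have : η ^ 1 = 1 := by
      have : (η - 1) ^ 2 = 0 := by linear_combination k3
      rw [pow_one, ← sub_eq_zero]; exact pow_eq_zero_iff two_ne_zero |>.1 this
    have := spec_pow' ρ hρ hη this
    exact Or.inl (mul_inv_eq_one.1 (by rwa [pow_one] at this))

end H18
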