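import Mathlib
import Cfsg.Agent.H18.FC2

/-!
# Frobenius complements III: quaternion coordinates of the elements of order three (helper18)

`H18.Q4 C` : formal quaternions over a non-commutative ring `C`.  `H18.Q4.Cfg 𝒴` lists the properties of the set of
the elements `2y+1` (`y` of order 3); `Cfg.single`, `Cfg.unique` classify its members.
-/

set_option autoImplicit false

namespace H18

/-- formal quaternions -/
@[ext] structure Q4 (C : Type*) where
  a : C
  b : C
  c : C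
  d : C

namespace Q4
variable {C : Type*} [Ring C]

instance : Mul (Q4 C) := ⟨fun u v => ⟨u.a * v.a - u.b * v.b - u.c * v.c - u.d * v.d,
  u.a * v.b + u.b * v.a + u.c * v.d - u.d * v.c, u.a * v.c - u.b * v.d + u.c * v.a + u.d * v.b,
  u.a * v.d + u.b * v.c - u.c * v.b + u.d * v.a⟩⟩
instance : Add (Q4 C) := ⟨fun u v => ⟨u.a + v.a, u.b + v.b, u.c + v.c, u.d + v.d⟩⟩
instance : Neg (Q4 C) := ⟨fun u => ⟨-u.a, -u.b, -u.c, -u.d⟩⟩

theorem mul_def (a b c d a' b' c' d' : C) : (⟨a, b, c, d⟩ * ⟨a', b', c', d'⟩ : Q4 C) =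
    ⟨a * a' - b * b' - c * c' - d * d', a * b' + b * a' + c * d' - d * c', a * c' - b * d' + c * a' + d * b',
      a * d' + b * c' - c * b' + d * a'⟩ := rfl
theorem add_def (a b c d a' b' c' d' : C) : (⟨a, b, c, d⟩ + ⟨a', b', c', d'⟩ : Q4 C) =
    ⟨a + a', b + b', c + c', d + d'⟩ := rfl
theorem neg_def (a b c d : C) : (-⟨a, b, c, d⟩ : Q4 C) = ⟨-a, -b, -c, -d⟩ := rfl

/-- scalars -/
def sc (x : C) : Q4 C := ⟨x, 0, 0, 0⟩
/-- conjugation by `i` -/
def ci (u : Q4 C) : Q4 C := ⟨u.a, u.b, -u.c, -u.d⟩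
/-- conjugation by `j` -/
def cj (u : Q4 C) : Q4 C := ⟨u.a, -u.b, u.c, -u.d⟩
/-- the rotation `i ↦ j ↦ k ↦ i` -/
def sh (u : Q4 C) : Q4 C := ⟨u.a, u.d, u.b, u.c⟩

/-- closed under the symmetries -/
structure Cl (S : Set (Q4 C)) : Prop where
  neg : ∀ u ∈ S, -u ∈ S
  ci : ∀ u ∈ S, ci u ∈ S
  cj : ∀ u ∈ S, cj u ∈ S
  sh : ∀ u ∈ S, sh u ∈ S

/-- same orbit -/
def Orb (u v : Q4 C) : Prop := ∀ S, Cl S → (u ∈ S ↔ v ∈ S)

theorem Orb.refl (u : Q4 C) : Orb u u := fun _ _ => Iff.rfl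
theorem Orb.trans {u v w : Q4 C} (h : Orb u v) (h' : Orb v w) : Orb u w := fun S hS => (h S hS).trans (h' S hS)
theorem Orb.symm {u v : Q4 C} (h : Orb u v) : Orb v u := fun S hS => (h S hS).symm
theorem orb_neg (a b c d : C) : Orb ⟨a, b, c, d⟩ ⟨-a, -b, -c, -d⟩ := fun S hS =>
  ⟨hS.neg _, fun h => by simpa [neg_def] using hS.neg _ h⟩
theorem orb_ci (a b c d : C) : Orb ⟨a, b, c, d⟩ ⟨a, b, -c, -d⟩ := fun S hS =>
  ⟨hS.ci _, fun h => by simpa [ci] using hS.ci _ h⟩
theorem orb_cj (a b c d : C) : Orb ⟨a, b, c, d⟩ ⟨a, -b, c, -d⟩ := fun S hS =>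
  ⟨hS.cj _, fun h => by simpa [cj] using hS.cj _ h⟩
theorem orb_sh (a b c d : C) : Orb ⟨a, b, c, d⟩ ⟨a, d, b, c⟩ := fun S hS =>
  ⟨hS.sh _, fun h => hS.sh _ (hS.sh _ h)⟩

/-- the alternatives for two elements -/
def OK (u v : Q4 C) : Prop := u = v ∨ u = -v ∨ u * v + v * u = sc 2 ∨ u * v + v * u = sc (-2) ∨
  (u * v + v * u) * (u * v + v * u) = sc 20

/-- the configuration of the elements `2y+1` -/
structure Cfg (S : Set (Q4 C)) : Prop where
  cl : Cl S
  sq : ∀ u ∈ S, u * u = sc (-3)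
  ok : ∀ u ∈ S, ∀ v ∈ S, OK u v
  base : ⟨0, 1, 1, 1⟩ ∈ S
  inv : ∀ u ∈ S, ∀ v ∈ S, ∀ t, (u + sc (-1)) * (v + sc (-1)) * ⟨0, 1, 0, 0⟩ = sc t → t * t = 16 → t = 4 ∨ t = -4

variable [Algebra ℂ C]

theorem canc (n : ℕ) [n.AtLeastTwo] {a : C} (h : (OfNat.ofNat n : C) * a = 0) : a = 0 := by
  have : IsUnit (OfNat.ofNat n : C) := by
    rw [← map_ofNat (algebraMap ℂ C)]
    exact (IsUnit.mk0 _ (OfNat.ofNat_ne_zero n)).map _
  exact this.mul_right_eq_zero.1 h

theorem nz [Nontrivial C] (n : ℕ) [n.AtLeastTwo] (h : (OfNat.ofNat n : C) = 0) : False :=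
  one_ne_zero (canc n (a := (1 : C)) (by rw [h, zero_mul]))

theorem orb_uv {u v : C} (h : ((u + v) * (u + v) = 5 ∧ (u - v = 1 ∨ u - v = -1)) ∨
    ((u - v) * (u - v) = 5 ∧ (u + v = 1 ∨ u + v = -1))) :
    ∃ p : C, p * p = p + 1 ∧ Orb ⟨0, 0, p, p - 1⟩ ⟨0, 0, u, v⟩ := by
  have key : ∀ u v : C, (u + v) * (u + v) = 5 → u - v = 1 →
      ∃ p : C, p * p = p + 1 ∧ Orb ⟨0, 0, p, p - 1⟩ ⟨0, 0, u, v⟩ := fun u v h1 h2 => by
    obtain rfl : v = u - 1 := by rw [← h2]; abel
    exact ⟨u, sub_eq_zero.1 (canc 4 (by linear_combination (norm := noncomm_ring [nsm C]) h1)), Orb.refl _⟩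
  rcases h with ⟨h1, h2 | h2⟩ | ⟨h1, h2 | h2⟩
  · exact key u v h1 h2
  · obtain ⟨p, hp, h⟩ := key (-u) (-v) (by linear_combination (norm := noncomm_ring) h1)
      (by linear_combination (norm := noncomm_ring) -h2)
    exact ⟨p, hp, h.trans (by simpa using orb_neg 0 0 (-u) (-v))⟩
  · obtain ⟨p, hp, h⟩ := key u (-v) (by linear_combination (norm := noncomm_ring) h1)
      (by linear_combination (norm := noncomm_ring) h2)
    exact ⟨p, hp, h.trans (by simpa using orb_cj 0 0 u (-v))⟩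
  · obtain ⟨p, hp, h⟩ := key (-u) v (by linear_combination (norm := noncomm_ring) h1)
      (by linear_combination (norm := noncomm_ring) -h2)
    exact ⟨p, hp, h.trans ((orb_cj 0 0 (-u) v).trans (by simpa using orb_neg 0 0 (-u) (-v)))⟩

theorem four_l [Nontrivial C] {l l' m m' : C} (h : l + l' + m + m' = 0) (h1 : l * l = 5) (h2 : l' * l' = 5)
    (h3 : m = 1 ∨ m = -1) (h4 : m' = 1 ∨ m' = -1) : l + l' = 0 := by
  rcases h3 with rfl | rfl <;> rcases h4 with rfl | rfl
  · obtain rfl : l' = -2 - l := by linear_combination (norm := noncomm_ring [nsm C]) h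
    obtain rfl : l = -1 := eq_neg_of_add_eq_zero_left
      (canc 4 (by linear_combination (norm := noncomm_ring [nsm C]) h2 - h1))
    exact (nz (C := C) 4 (by linear_combination (norm := noncomm_ring [nsm C]) -h1)).elim
  · linear_combination (norm := noncomm_ring) h
  · linear_combination (norm := noncomm_ring) h
  · obtain rfl : l' = 2 - l := by linear_combination (norm := noncomm_ring [nsm C]) h
    obtain rfl : l = 1 := sub_eq_zero.1 (canc 4 (by linear_combination (norm := noncomm_ring [nsm C]) h1 - h2))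
    exact (nz (C := C) 4 (by linear_combination (norm := noncomm_ring [nsm C]) -h1)).elim

/-- comparison with `(0, ±1, ±1, ±1)` -/
theorem ok_base {a b c d e f g : C} (he : e = 1 ∨ e = -1) (hf : f = 1 ∨ f = -1) (hg : g = 1 ∨ g = -1)
    (h : OK ⟨a, b, c, d⟩ ⟨0, e, f, g⟩) {l : C} (hl : l = e * b + f * c + g * d) :
    Orb ⟨0, e, f, g⟩ ⟨a, b, c, d⟩ ∨ (a = 0 ∧ (l = 1 ∨ l = -1)) ∨ (l * l - 3 * (a * a) = 5 ∧ a * l + l * a = 0) := by
  have hc : (⟨a, b, c, d⟩ * ⟨0, e, f, g⟩ + ⟨0, e, f, g⟩ * ⟨a, b, c, d⟩ : Q4 C) =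
      ⟨-(2 * l), 2 * e * a, 2 * f * a, 2 * g * a⟩ := by
    rw [hl]
    rcases he with rfl | rfl <;> rcases hf with rfl | rfl <;> rcases hg with rfl | rfl <;>
      simp only [mul_def, add_def, mk.injEq] <;> refine ⟨?_, ?_, ?_, ?_⟩ <;> noncomm_ring
  rcases h with h | h | h | h | h
  · exact Or.inl (h ▸ Orb.refl _)
  · exact Or.inl (h ▸ orb_neg _ _ _ _)
  · rw [hc, sc, mk.injEq] at h
    refine Or.inr (Or.inl ⟨?_, Or.inr (eq_neg_of_add_eq_zero_left (canc 2 ?_))⟩)
    · rcases he with rfl | rfl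
      · exact canc 2 (by linear_combination (norm := noncomm_ring) h.2.1)
      · exact canc 2 (by linear_combination (norm := noncomm_ring) -h.2.1)
    · linear_combination (norm := noncomm_ring [nsm C]) -h.1
  · rw [hc, sc, mk.injEq] at h
    refine Or.inr (Or.inl ⟨?_, Or.inl (sub_eq_zero.1 (canc 2 ?_))⟩)
    · rcases he with rfl | rfl
      · exact canc 2 (by linear_combination (norm := noncomm_ring) h.2.1)
      · exact canc 2 (by linear_combination (norm := noncomm_ring) -h.2.1)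
    · linear_combination (norm := noncomm_ring [nsm C]) -h.1
  · rw [hc, sc, mul_def, mk.injEq] at h
    obtain ⟨h1, h2, -⟩ := h
    refine Or.inr (Or.inr ⟨sub_eq_zero.1 (canc 4 ?_), canc 4 ?_⟩)
    · rcases he with rfl | rfl <;> rcases hf with rfl | rfl <;> rcases hg with rfl | rfl <;>
        linear_combination (norm := noncomm_ring [nsm C]) h1
    · rcases he with rfl | rfl <;> rcases hf with rfl | rfl <;> rcases hg with rfl | rfl <;>
        first
        | linear_combination (norm := (noncomm_ring; done)) h2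
        | linear_combination (norm := (noncomm_ring; done)) -h2

namespace Cfg
variable [Nontrivial C] {S : Set (Q4 C)} (h : Cfg S)
include h

theorem kill {a b : C} (hu : ⟨a, b, 0, 0⟩ ∈ S) (h1 : a * a = -1) (h2 : b * b = 2) (h3 : a * b + b * a = 0) :
    False := by
  have hv := h.cl.neg _ (h.cl.cj _ hu)
  have h4 := h.inv _ hu _ hv (-(2 * ((a - 1) * b))) (by
    simp only [cj, sc, neg_def, add_def, mul_def, mk.injEq]
    refine ⟨?_, ?_, ?_, ?_⟩
    · linear_combination (norm := noncomm_ring) h3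
    · linear_combination (norm := noncomm_ring [nsm C]) -h1 - h2
    · noncomm_ring
    · noncomm_ring) (by
    linear_combination (norm := noncomm_ring [nsm C]) 4 * ((a - 1) * h3 * b) - 4 * (h1 * (b * b)) + 8 * h2)
  have key : ∀ e : C, (e = 1 ∨ e = -1) → (a - 1) * b = 2 * e → False := fun e he h5 => by
    have h6 : a - 1 = e * b := sub_eq_zero.1 (canc 2 (by
      linear_combination (norm := noncomm_ring [nsm C]) h5 * b - (a - 1) * h2))
    have h7 : (a - 1) * (a - 1) = 2 := by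
      rw [h6]; rcases he with rfl | rfl <;> linear_combination (norm := noncomm_ring) h2
    obtain rfl : a = -1 := eq_neg_of_add_eq_zero_left
      (canc 2 (by linear_combination (norm := noncomm_ring [nsm C]) h1 - h7))
    exact nz (C := C) 2 (by linear_combination (norm := noncomm_ring [nsm C]) h1)
  rcases h4 with h4 | h4
  · exact key (-1) (Or.inr rfl) (sub_eq_zero.1 (canc 2 (by linear_combination (norm := noncomm_ring [nsm C]) -h4)))
  · exact key 1 (Or.inl rfl) (sub_eq_zero.1 (canc 2 (by linear_combination (norm := noncomm_ring [nsm C]) -h4)))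

/-- the degenerate configuration, first coordinate -/
theorem deg {a b c d : C} (hu : ⟨a, b, c, d⟩ ∈ S) (h0 : a * a = -1) (h1 : a * b + b * a = 0)
    (hcb : c * b = 0) (hdb : d * b = 0) (hcd : c * d = d * c)
    (hs : b * b + c * c + d * d = 2) : b = 0 ∨ (c = 0 ∧ d = 0) := by
  have hb3 : b * b * b = 2 * b := by linear_combination (norm := noncomm_ring [nsm C]) hs * b - c * hcb - d * hdb
  have hc : (⟨a, b, c, d⟩ * ci ⟨a, b, c, d⟩ + ci ⟨a, b, c, d⟩ * ⟨a, b, c, d⟩ : Q4 C) = sc (2 - 4 * (b * b)) := by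
    simp only [ci, sc, mul_def, add_def, mk.injEq]
    refine ⟨?_, ?_, ?_, ?_⟩
    · linear_combination (norm := noncomm_ring [nsm C]) 2 * h0 + 2 * hs
    · linear_combination (norm := noncomm_ring [nsm C]) 2 * h1 - 2 * hcd
    · noncomm_ring
    · noncomm_ring
  have k1 : b * b ≠ 1 := fun e => one_ne_zero (α := C) (by
    linear_combination (norm := noncomm_ring [nsm C]) -hb3 * b + e * (b * b) - e)
  rcases h.ok _ hu _ (h.cl.ci _ hu) with e | e | e | e | e
  · simp only [ci, mk.injEq] at e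
    exact Or.inr ⟨canc 2 (by linear_combination (norm := noncomm_ring) e.2.2.1),
      canc 2 (by linear_combination (norm := noncomm_ring) e.2.2.2)⟩
  · simp only [ci, neg_def, mk.injEq] at e
    obtain rfl : a = 0 := canc 2 (by linear_combination (norm := noncomm_ring) e.1)
    simp at h0
  · rw [hc, sc, sc, mk.injEq] at e
    have : b * b = 0 := canc 4 (by linear_combination (norm := noncomm_ring [nsm C]) -e.1)
    exact Or.inl (canc 2 (by rw [← hb3, this, zero_mul]))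
  · rw [hc, sc, sc, mk.injEq] at e
    exact (k1 (sub_eq_zero.1 (canc 4 (by linear_combination (norm := noncomm_ring [nsm C]) -e.1)))).elim
  · rw [hc, sc, sc, mul_def, mk.injEq] at e
    exact (k1 (sub_eq_zero.1 (canc 16 (by
      linear_combination (norm := noncomm_ring [nsm C]) e.1 - 16 * (hb3 * b))))).elim

theorem single {u : Q4 C} (hu : u ∈ S) :
    Orb ⟨0, 1, 1, 1⟩ u ∨ ∃ p : C, p * p = p + 1 ∧ Orb ⟨0, 0, p, p - 1⟩ u := by
  obtain ⟨a, b, c, d⟩ := u
  have o1 : Orb (⟨0, 1, 1, 1⟩ : Q4 C) ⟨0, 1, -1, -1⟩ := orb_ci _ _ _ _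
  have o2 : Orb (⟨0, 1, 1, 1⟩ : Q4 C) ⟨0, -1, 1, -1⟩ := orb_cj _ _ _ _
  have o3 : Orb (⟨0, 1, 1, 1⟩ : Q4 C) ⟨0, -1, -1, 1⟩ := o1.trans (by simpa using orb_cj (0 : C) 1 (-1) (-1))
  have p : (1 : C) = 1 ∨ (1 : C) = -1 := Or.inl rfl
  have m : (-1 : C) = 1 ∨ (-1 : C) = -1 := Or.inr rfl
  obtain ⟨l0, e0⟩ : ∃ l, l = b + c + d := ⟨_, rfl⟩
  obtain ⟨l1, e1⟩ : ∃ l, l = b - c - d := ⟨_, rfl⟩
  obtain ⟨l2, e2⟩ : ∃ l, l = -b + c - d := ⟨_, rfl⟩
  obtain ⟨l3, e3⟩ : ∃ l, l = -b - c + d := ⟨_, rfl⟩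
  rcases ok_base p p p (h.ok _ hu _ h.base) (l := l0) (by rw [e0]; noncomm_ring) with k0 | k0
  · exact Or.inl k0
  rcases ok_base p m m (h.ok _ hu _ ((o1 S h.cl).1 h.base)) (l := l1) (by rw [e1]; noncomm_ring) with k1 | k1
  · exact Or.inl (o1.trans k1)
  rcases ok_base m p m (h.ok _ hu _ ((o2 S h.cl).1 h.base)) (l := l2) (by rw [e2]; noncomm_ring) with k2 | k2
  · exact Or.inl (o2.trans k2)
  rcases ok_base m m p (h.ok _ hu _ ((o3 S h.cl).1 h.base)) (l := l3) (by rw [e3]; noncomm_ring) with k3 | k3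
  · exact Or.inl (o3.trans k3)
  have hs := h.sq _ hu
  rw [mul_def, sc, mk.injEq] at hs
  obtain ⟨s0, s1, s2, s3⟩ := hs
  have hsum : l0 * l0 + l1 * l1 + l2 * l2 + l3 * l3 = 4 * (a * a) + 12 := by
    rw [e0, e1, e2, e3]; linear_combination (norm := noncomm_ring [nsm C]) -4 * s0
  right
  by_cases ha : a = 0
  · subst ha
    have t : ∀ l : C, ((0 : C) = 0 ∧ (l = 1 ∨ l = -1)) ∨ (l * l - 3 * (0 * 0) = 5 ∧ 0 * l + l * 0 = 0) →
        (l * l = 1 ∧ (l = 1 ∨ l = -1)) ∨ l * l = 5 := fun l hl => by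
      rcases hl with ⟨-, rfl | rfl⟩ | hl
      · simp
      · simp
      · simpa using Or.inr hl.1
    have z : l0 + l1 + l2 + l3 = 0 := by rw [e0, e1, e2, e3]; abel
    have rot1 : ∀ u v : C, (∃ p : C, p * p = p + 1 ∧ Orb ⟨0, 0, p, p - 1⟩ ⟨0, 0, u, v⟩) →
        ∃ p : C, p * p = p + 1 ∧ Orb ⟨0, 0, p, p - 1⟩ ⟨0, v, 0, u⟩ := fun u v ⟨p, hp, ho⟩ =>
      ⟨p, hp, ho.trans (orb_sh _ _ _ _)⟩
    have rot2 : ∀ u v : C, (∃ p : C, p * p = p + 1 ∧ Orb ⟨0, 0, p, p - 1⟩ ⟨0, 0, u, v⟩) →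
        ∃ p : C, p * p = p + 1 ∧ Orb ⟨0, 0, p, p - 1⟩ ⟨0, u, v, 0⟩ := fun u v ⟨p, hp, ho⟩ =>
      ⟨p, hp, (ho.trans (orb_sh _ _ _ _)).trans (orb_sh _ _ _ _)⟩
    rcases t _ k0 with ⟨q0, r0⟩ | q0 <;> rcases t _ k1 with ⟨q1, r1⟩ | q1 <;> rcases t _ k2 with ⟨q2, r2⟩ | q2 <;>
      rcases t _ k3 with ⟨q3, r3⟩ | q3 <;> rw [q0, q1, q2, q3] at hsum
    · exact (nz (C := C) 8 (by linear_combination (norm := noncomm_ring [nsm C]) -hsum)).elim
    · exact (nz (C := C) 4 (by linear_combination (norm := noncomm_ring [nsm C]) -hsum)).elim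
    · exact (nz (C := C) 4 (by linear_combination (norm := noncomm_ring [nsm C]) -hsum)).elim
    · have := four_l (l := l2) (l' := l3) (by rw [← z]; abel) q2 q3 r0 r1
      obtain rfl : b = 0 := canc 2 (by rw [e2, e3] at this; linear_combination (norm := noncomm_ring) -this)
      exact orb_uv (Or.inr ⟨by simpa [e2] using q2, by simpa [e0] using r0⟩)
    · exact (nz (C := C) 4 (by linear_combination (norm := noncomm_ring [nsm C]) -hsum)).elim
    · have := four_l (l := l1) (l' := l3) (by rw [← z]; abel) q1 q3 r0 r2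
      obtain rfl : c = 0 := canc 2 (by rw [e1, e3] at this; linear_combination (norm := noncomm_ring) -this)
      exact rot1 _ _ (orb_uv (Or.inr ⟨by rw [e1] at q1; linear_combination (norm := noncomm_ring) q1,
        by simpa [e0, add_comm] using r0⟩))
    · have := four_l (l := l1) (l' := l2) (by rw [← z]; abel) q1 q2 r0 r3
      obtain rfl : d = 0 := canc 2 (by rw [e1, e2] at this; linear_combination (norm := noncomm_ring) -this)
      exact rot2 _ _ (orb_uv (Or.inr ⟨by simpa [e1] using q1, by simpa [e0] using r0⟩))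
    · exact (nz (C := C) 4 (by linear_combination (norm := noncomm_ring [nsm C]) hsum)).elim
    · exact (nz (C := C) 4 (by linear_combination (norm := noncomm_ring [nsm C]) -hsum)).elim
    · have := four_l (l := l0) (l' := l3) (by rw [← z]; abel) q0 q3 r1 r2
      obtain rfl : d = 0 := canc 2 (by rw [e0, e3] at this; linear_combination (norm := noncomm_ring) this)
      exact rot2 _ _ (orb_uv (Or.inl ⟨by simpa [e0] using q0, by simpa [e1] using r1⟩))
    · have := four_l (l := l0) (l' := l2) (by rw [← z]; abel) q0 q2 r1 r3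
      obtain rfl : c = 0 := canc 2 (by rw [e0, e2] at this; linear_combination (norm := noncomm_ring) this)
      exact rot1 _ _ (orb_uv (Or.inl ⟨by simpa [e0, add_comm] using q0,
        by simpa [e3, sub_eq_neg_add] using r3⟩))
    · exact (nz (C := C) 4 (by linear_combination (norm := noncomm_ring [nsm C]) hsum)).elim
    · have := four_l (l := l0) (l' := l1) (by rw [← z]) q0 q1 r2 r3
      obtain rfl : b = 0 := canc 2 (by rw [e0, e1] at this; linear_combination (norm := noncomm_ring) this)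
      exact orb_uv (Or.inl ⟨by simpa [e0] using q0, by simpa [e2] using r2⟩)
    · exact (nz (C := C) 4 (by linear_combination (norm := noncomm_ring [nsm C]) hsum)).elim
    · exact (nz (C := C) 4 (by linear_combination (norm := noncomm_ring [nsm C]) hsum)).elim
    · exact (nz (C := C) 8 (by linear_combination (norm := noncomm_ring [nsm C]) hsum)).elim
  exfalso
  obtain ⟨q0, r0⟩ := k0.resolve_left fun e => ha e.1
  obtain ⟨q1, r1⟩ := k1.resolve_left fun e => ha e.1
  obtain ⟨q2, r2⟩ := k2.resolve_left fun e => ha e.1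
  obtain ⟨q3, r3⟩ := k3.resolve_left fun e => ha e.1
  have a0 : a * a = -1 := eq_neg_of_add_eq_zero_left (canc 8 (by
    linear_combination (norm := noncomm_ring [nsm C]) hsum - q0 - q1 - q2 - q3))
  subst e0 e1 e2 e3
  have ab : a * b + b * a = 0 := canc 2 (by linear_combination (norm := noncomm_ring) r0 + r1)
  have ac : a * c + c * a = 0 := canc 2 (by linear_combination (norm := noncomm_ring) r0 + r2)
  have ad : a * d + d * a = 0 := canc 2 (by linear_combination (norm := noncomm_ring) r0 + r3)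
  have cd : c * d = 0 := canc 8 (by linear_combination (norm := noncomm_ring) q0 + q1 - q2 - q3 + 4 * s1 - 4 * ab)
  have dc : d * c = 0 := by linear_combination (norm := noncomm_ring) cd - s1 + ab
  have db : d * b = 0 := canc 8 (by linear_combination (norm := noncomm_ring) q0 + q2 - q1 - q3 + 4 * s2 - 4 * ac)
  have bd : b * d = 0 := by linear_combination (norm := noncomm_ring) db - s2 + ac
  have bc : b * c = 0 := canc 8 (by linear_combination (norm := noncomm_ring) q0 + q3 - q1 - q2 + 4 * s3 - 4 * ad)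
  have cb : c * b = 0 := by linear_combination (norm := noncomm_ring) bc - s3 + ad
  have hs : b * b + c * c + d * d = 2 := by linear_combination (norm := noncomm_ring [nsm C]) a0 - s0
  rcases h.deg hu a0 ab cb db (cd.trans dc.symm) hs with rfl | ⟨rfl, rfl⟩
  · have hu' : ⟨a, c, d, 0⟩ ∈ S := h.cl.sh _ (h.cl.sh _ hu)
    rcases h.deg hu' a0 ac dc (by simp) (by simp) (by rw [← hs]; abel) with rfl | ⟨rfl, -⟩
    · exact h.kill (h.cl.sh _ hu) a0 (by simpa using hs) ad
    · exact h.kill hu' a0 (by simpa using hs) ac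
  · exact h.kill hu a0 (by simpa using hs) ab

theorem unique {p q : C} (hp : p * p = p + 1) (hq : q * q = q + 1) (hu : ⟨0, 0, p, p - 1⟩ ∈ S)
    (hv : ⟨0, 0, q, q - 1⟩ ∈ S) : p = q := by
  have hp' : ∀ t, p * (p * t) = p * t + t := fun t => by rw [← mul_assoc, hp, add_mul, one_mul]
  have hq' : ∀ t, q * (q * t) = q * t + t := fun t => by rw [← mul_assoc, hq, add_mul, one_mul]
  obtain ⟨w, hw⟩ : ∃ w, w = p * q - q * p := ⟨_, rfl⟩
  obtain ⟨μ, hμ⟩ : ∃ μ, μ = p * q + q * p - p - q := ⟨_, rfl⟩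
  obtain ⟨s, hs⟩ : ∃ s, s = p * q + q * p - 2 * q := ⟨_, rfl⟩
  have f1 : w * w = μ * μ + μ - 6 := by rw [hw, hμ]; noncomm_ring [hp, hq, hp', hq', nsm C]
  have f2 : (p + q - 1) * (p + q - 1) = 3 + μ := by rw [hμ]; noncomm_ring [hp, hq, hp', hq', nsm C]
  have f3 : w * s + s * w = 2 * (μ * w) := by rw [hw, hμ, hs]; noncomm_ring [hp, hq, hp', hq', nsm C]
  have f4 : (2 * p - 1) * (2 * p - 1) = 5 := by noncomm_ring [hp, nsm C]
  have c1 : (⟨0, 0, p, p - 1⟩ * cj ⟨0, 0, q, q - 1⟩ + cj ⟨0, 0, q, q - 1⟩ * ⟨0, 0, p, p - 1⟩ : Q4 C) =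
      ⟨-(2 * (p + q - 1)), -(2 * w), 0, 0⟩ := by
    simp only [cj, hw, mul_def, add_def, mk.injEq]
    refine ⟨?_, ?_, ?_, ?_⟩ <;> noncomm_ring
  have c2 : (⟨0, 0, p, p - 1⟩ * sh ⟨0, 0, q, q - 1⟩ + sh ⟨0, 0, q, q - 1⟩ * ⟨0, 0, p, p - 1⟩ : Q4 C) =
      ⟨-s, w, w, -w⟩ := by
    simp only [sh, hw, hs, mul_def, add_def, mk.injEq]
    refine ⟨?_, ?_, ?_, ?_⟩ <;> noncomm_ring
  have hp0 : p ≠ 0 := by rintro rfl; simp at hp
  rcases h.ok _ hu _ (h.cl.cj _ hv) with e | e | e | e | e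
  · exact (Q4.ext_iff.1 e).2.2.1
  · have := (Q4.ext_iff.1 e).2.2.2
    simpa [cj, neg_def] using this
  · rw [c1, sc, mk.injEq] at e
    obtain rfl : q = -p := eq_neg_of_add_eq_zero_left
      (canc 2 (by linear_combination (norm := noncomm_ring [nsm C]) -e.1))
    exact (hp0 (canc 2 (by linear_combination (norm := noncomm_ring [nsm C]) hq - hp))).elim
  · rw [c1, sc, mk.injEq] at e
    obtain rfl : q = 2 - p := sub_eq_zero.1
      (canc 2 (by linear_combination (norm := noncomm_ring [nsm C]) -e.1))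
    obtain rfl : p = 1 := sub_eq_zero.1 (canc 2 (by linear_combination (norm := noncomm_ring [nsm C]) hp - hq))
    simp at hp
  rw [c1, sc, mul_def, mk.injEq] at e
  have m2 : μ * μ = 4 := sub_eq_zero.1 (canc 4 (by
    linear_combination (norm := noncomm_ring [nsm C]) -e.1 + 4 * f2 - 4 * f1))
  have w0 : w = 0 := by
    rcases h.ok _ hu _ (h.cl.sh _ hv) with e | e | e | e | e
    · exact (hp0 (Q4.ext_iff.1 e).2.2.1).elim
    · exact (hp0 (by simpa [sh, neg_def] using (Q4.ext_iff.1 e).2.2.1)).elim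
    · rw [c2, sc, mk.injEq] at e; exact e.2.1
    · rw [c2, sc, mk.injEq] at e; exact e.2.1
    · rw [c2, sc, mul_def, mk.injEq] at e
      have : μ * w = 0 := canc 2 (by linear_combination (norm := noncomm_ring) -e.2.1 - f3)
      exact canc 4 (by rw [← m2, mul_assoc, this, mul_zero])
  have m3 : μ = 2 := by
    rw [w0] at f1
    linear_combination (norm := noncomm_ring [nsm C]) -f1 - m2
  have : (2 * p - 1) * (p - q) = 0 := by
    rw [w0] at hw
    rw [m3] at hμ
    linear_combination (norm := noncomm_ring [nsm C]) 2 * hp + hμ + hw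
  exact sub_eq_zero.1 (canc 5 (by rw [← f4, mul_assoc, this, mul_zero]))

end Cfg
end Q4
end H18
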