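import Mathlib
import Cfsg.Agent.H18.FC3
import Cfsg.Agent.H12.SL2Pres

/-!
# Frobenius complements IV: the subgroup generated by the elements of order three (helper18)

* `H18.sl_inj` : a homomorphism from `SL(2,3)` or `SL(2,5)` not killing `-1` is injective;
* `H18.IsFC.three` : in a Frobenius complement there is at most one subgroup of order three, or the elements of
  order three generate a copy of `SL(2,3)` or `SL(2,5)`.
-/

set_option autoImplicit false

namespace H18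
open Matrix MatrixGroups Subgroup

instance fact_five : Fact (Nat.Prime 5) := ⟨by norm_num⟩

/-- every non-trivial normal subgroup contains `-1` -/
def NegProp (q : ℕ) [Fact q.Prime] : Prop := ∀ s : SL(2, ZMod q), s ≠ 1 → ∃ n : Fin 6, s ^ n.val = -1 ∨
    (s * H12.upSL 1 * s⁻¹ * (H12.upSL 1)⁻¹) ^ n.val = -1 ∨ (s * H12.loSL 1 * s⁻¹ * (H12.loSL 1)⁻¹) ^ n.val = -1

theorem negProp5 : NegProp 5 := by unfold NegProp; decide +kernel
theorem negProp3 : NegProp 3 := by unfold NegProp; decide +kernel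

theorem sl_inj {q : ℕ} [Fact q.Prime] (h : NegProp q) {G : Type*} [Group G] (θ : SL(2, ZMod q) →* G)
    (h1 : θ (-1) ≠ 1) : Function.Injective θ := by
  rw [injective_iff_map_eq_one]
  intro s hs
  by_contra e
  obtain ⟨n, hn | hn | hn⟩ := h s e <;> exact h1 (by rw [← hn]; simp [hs])

theorem w_sq {K : Type*} [Field K] : H12.wEl H12.upSL H12.loSL (1 : K) * H12.wEl H12.upSL H12.loSL (1 : K) = -1 := by
  have h := H12.coe_wEl (1 : K) one_ne_zero
  generalize H12.wEl H12.upSL H12.loSL (1 : K) = w at h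
  refine Subtype.ext ?_
  change w.1 * w.1 = -1
  rw [h]
  ext i j; fin_cases i <;> fin_cases j <;> simp

theorem orderOf_cj {G : Type*} [Group G] (g x : G) : orderOf (g * x * g⁻¹) = orderOf x :=
  (MulAut.conj g).orderOf_eq x

namespace Q4

instance {C : Type*} [DecidableEq C] : DecidableEq (Q4 C) := fun u v =>
  decidable_of_iff _ Q4.ext_iff.symm

/-- powers -/
def pw {C : Type*} [Ring C] (u : Q4 C) : ℕ → Q4 C
  | 0 => sc 1
  | n + 1 => pw u n * u

/-- change of coefficients -/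
def map {F C : Type*} [Ring F] [Ring C] (f : F →+* C) (u : Q4 F) : Q4 C := ⟨f u.a, f u.b, f u.c, f u.d⟩

theorem map_mul' {F C : Type*} [Ring F] [Ring C] (f : F →+* C) (u v : Q4 F) : map f (u * v) = map f u * map f v := by
  obtain ⟨_, _, _, _⟩ := u; obtain ⟨_, _, _, _⟩ := v
  simp [map, mul_def]

end Q4
open Q4

section rep
variable {G R F : Type*} [Group G] [Ring R] [Ring F] (ρ : G →* R) (hρ : Function.Injective ρ)
  (ψ : Q4 F → R) (hψ : ∀ u v, ψ (u * v) = ψ u * ψ v) (hψ1 : ψ (sc 1) = 1)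
include hψ hψ1

theorem rep_pw {g : G} {u : Q4 F} (h : ρ g = ψ u) (n : ℕ) : ρ (g ^ n) = ψ (pw u n) := by
  induction n with
  | zero => rw [pow_zero, map_one, pw, hψ1]
  | succ n ih => rw [pow_succ, map_mul, ih, pw, hψ, h]

include hρ
theorem exists_sl {q : ℕ} [Fact q.Prime] (hq : NegProp q) {g k : G} {u v : Q4 F} (hg : ρ g = ψ u) (hk : ρ k = ψ v)
    (hu : pw u q = sc 1) (hv : pw v q = sc 1)
    (hw : ∀ t s : ZMod q, t ≠ 0 → pw u t.val * pw v (-t⁻¹).val * pw u t.val * pw u s.val =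
      pw v (-(t⁻¹ ^ 2 * s)).val * (pw u t.val * pw v (-t⁻¹).val * pw u t.val))
    (hz : ψ (pw (pw u (1 : ZMod q).val * pw v (-1⁻¹ : ZMod q).val * pw u (1 : ZMod q).val) 2) ≠ 1) :
    ∃ θ : SL(2, ZMod q) →* G, Function.Injective θ ∧ θ.range = closure {g, k} := by
  haveI : NeZero q := ⟨(Fact.out : q.Prime).ne_zero⟩
  have g1 : g ^ q = 1 := hρ (by rw [rep_pw ρ ψ hψ hψ1 hg, hu, hψ1, map_one])
  have k1 : k ^ q = 1 := hρ (by rw [rep_pw ρ ψ hψ hψ1 hk, hv, hψ1, map_one])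
  have add : ∀ g : G, g ^ q = 1 → ∀ t s : ZMod q, g ^ (t + s).val = g ^ t.val * g ^ s.val := fun g hg t s => by
    rw [← pow_add, ZMod.val_add, ← pow_eq_pow_mod _ hg]
  have hW : ∀ t : ZMod q, ρ (H12.wEl (fun t : ZMod q => g ^ t.val) (fun t => k ^ t.val) t) =
      ψ (pw u t.val * pw v (-t⁻¹).val * pw u t.val) := fun t => by
    simp only [H12.wEl, map_mul, hψ, rep_pw ρ ψ hψ hψ1 hg, rep_pw ρ ψ hψ hψ1 hk]
  have hR : H12.SL2Rel (fun t : ZMod q => g ^ t.val) (fun t => k ^ t.val) :=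
    ⟨add g g1, add k k1, fun t s ht => by
      rw [mul_inv_eq_iff_eq_mul]
      apply hρ
      rw [map_mul, map_mul, hW, rep_pw ρ ψ hψ hψ1 hg, rep_pw ρ ψ hψ hψ1 hk, ← hψ, ← hψ, hw t s ht]⟩
  obtain ⟨θ, h1, h2⟩ := hR.exists_hom hR.h_mul_of_finite
  refine ⟨θ, sl_inj hq θ fun e => hz ?_, le_antisymm ?_ ?_⟩
  · rw [← rep_pw ρ ψ hψ hψ1 (hW 1), ← map_one ρ, ← e, ← w_sq, pow_two]
    simp only [H12.wEl, map_mul, h1, h2]
  · rw [MonoidHom.range_eq_map, map_le_iff_le_comap, top_le_iff]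
    exact H12.sl2_induction (fun t => by rw [mem_comap, h1]; exact pow_mem (subset_closure (by simp)) _)
      (fun t => by rw [mem_comap, h2]; exact pow_mem (subset_closure (by simp)) _)
  · have : (1 : ZMod q).val = 1 := ZMod.val_one q
    rw [closure_le]
    rintro _ (rfl | rfl)
    · exact ⟨_, by rw [h1 1, this, pow_one]⟩
    · exact ⟨_, by rw [h2 1, this, pow_one]⟩

end rep

section ev
variable {R : Type*} [Ring R] [Algebra ℂ R] {i j : R}

/-- the centraliser of `i`, `j` -/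
abbrev CC (i j : R) : Subalgebra ℂ R := Subalgebra.centralizer ℂ {i, j}

theorem CC.ci (a : CC i j) : i * a = a * i := a.2 i (by simp)
theorem CC.cj (a : CC i j) : j * a = a * j := a.2 j (by simp)
theorem CC.ci' (a : CC i j) (t : R) : i * (a * t) = a * (i * t) := by rw [← mul_assoc, CC.ci, mul_assoc]
theorem CC.cj' (a : CC i j) (t : R) : j * (a * t) = a * (j * t) := by rw [← mul_assoc, CC.cj, mul_assoc]

/-- evaluation of a formal quaternion -/
def ev (u : Q4 (CC i j)) : R := u.a + u.b * i + u.c * j + u.d * (i * j)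

theorem ev_add (u v : Q4 (CC i j)) : ev (u + v) = ev u + ev v := by
  obtain ⟨_, _, _, _⟩ := u; obtain ⟨_, _, _, _⟩ := v
  simp only [ev, add_def]; push_cast; noncomm_ring

theorem ev_neg (u : Q4 (CC i j)) : ev (-u) = -ev u := by
  obtain ⟨_, _, _, _⟩ := u
  simp only [ev, neg_def]; push_cast; noncomm_ring

theorem ev_sc (a : CC i j) : ev (sc a) = a := by simp [ev, sc]

/-- quaternion relations -/
structure QR (i j : R) : Prop where
  ii : i * i = -1
  jj : j * j = -1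
  ji : j * i = -(i * j)

namespace QR
variable (h : QR i j)
include h
omit [Algebra ℂ R] in
theorem ii' (t : R) : i * (i * t) = -t := by rw [← mul_assoc, h.ii, neg_one_mul]
omit [Algebra ℂ R] in
theorem jj' (t : R) : j * (j * t) = -t := by rw [← mul_assoc, h.jj, neg_one_mul]
omit [Algebra ℂ R] in
theorem ji' (t : R) : j * (i * t) = -(i * (j * t)) := by rw [← mul_assoc, h.ji, neg_mul, mul_assoc]

theorem ev_mul (u v : Q4 (CC i j)) : ev (u * v) = ev u * ev v := by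
  obtain ⟨_, _, _, _⟩ := u; obtain ⟨_, _, _, _⟩ := v
  simp only [ev, mul_def]; push_cast
  noncomm_ring [CC.ci, CC.cj, CC.ci', CC.cj', h.ii, h.jj, h.ji, h.ii', h.jj', h.ji']

theorem ev_ci (u : Q4 (CC i j)) : ev (ci u) = -(i * ev u * i) := by
  obtain ⟨_, _, _, _⟩ := u
  simp only [ev, ci]; push_cast
  noncomm_ring [CC.ci, CC.cj, CC.ci', CC.cj', h.ii, h.jj, h.ji, h.ii', h.jj', h.ji']

theorem ev_cj (u : Q4 (CC i j)) : ev (cj u) = -(j * ev u * j) := by
  obtain ⟨_, _, _, _⟩ := u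
  simp only [ev, cj]; push_cast
  noncomm_ring [CC.ci, CC.cj, CC.ci', CC.cj', h.ii, h.jj, h.ji, h.ii', h.jj', h.ji']

theorem ev_sh (u : Q4 (CC i j)) : (i + j + i * j - 1) * ev (sh u) = ev u * (i + j + i * j - 1) := by
  obtain ⟨_, _, _, _⟩ := u
  simp only [ev, sh]
  noncomm_ring [CC.ci, CC.cj, CC.ci', CC.cj', h.ii, h.jj, h.ji, h.ii', h.jj', h.ji']

theorem ev_a (u : Q4 (CC i j)) : 4 * (u.a : R) = ev u + ev (ci u) + ev (cj u) + ev (ci (cj u)) := by
  obtain ⟨_, _, _, _⟩ := u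
  simp only [ev, ci, cj]; push_cast
  noncomm_ring

theorem ev_inj : Function.Injective (ev : Q4 (CC i j) → R) := by
  have k : ∀ u v : Q4 (CC i j), ev u = ev v → u.a = v.a := fun u v e =>
    Subtype.ext (sub_eq_zero.1 (canc 4 (by rw [mul_sub, h.ev_a, h.ev_a]; simp only [h.ev_ci, h.ev_cj, e, sub_self])))
  rintro ⟨a, b, c, d⟩ ⟨a', b', c', d'⟩ e
  have k1 := k _ _ e
  have k2 := k (⟨a, b, c, d⟩ * ⟨0, 1, 0, 0⟩) (⟨a', b', c', d'⟩ * ⟨0, 1, 0, 0⟩) (by rw [h.ev_mul, h.ev_mul, e])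
  have k3 := k (⟨a, b, c, d⟩ * ⟨0, 0, 1, 0⟩) (⟨a', b', c', d'⟩ * ⟨0, 0, 1, 0⟩) (by rw [h.ev_mul, h.ev_mul, e])
  have k4 := k (⟨a, b, c, d⟩ * ⟨0, 0, 0, 1⟩) (⟨a', b', c', d'⟩ * ⟨0, 0, 0, 1⟩) (by rw [h.ev_mul, h.ev_mul, e])
  simp only [mul_def] at k1 k2 k3 k4
  simp_all

theorem ev_surj : Function.Surjective (ev : Q4 (CC i j) → R) := fun y => by
  have m : ∀ y : R, (1 / 4 : ℂ) • (y - i * y * i - j * y * j - i * j * y * (i * j)) ∈ CC i j := fun y => by
    refine Subalgebra.smul_mem _ ?_ _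
    rintro _ (rfl | rfl) <;> noncomm_ring [h.ii, h.jj, h.ji, h.ii', h.jj', h.ji']
  refine ⟨⟨⟨_, m y⟩, ⟨_, m (-(y * i))⟩, ⟨_, m (-(y * j))⟩, ⟨_, m (-(y * (i * j)))⟩⟩, ?_⟩
  simp only [ev, smul_mul_assoc, ← smul_add]
  have : y = (1 / 4 : ℂ) • (4 * y) := by
    rw [← map_ofNat (algebraMap ℂ R), ← Algebra.smul_def, smul_smul]; norm_num
  conv_rhs => rw [this]
  congr 1
  noncomm_ring [h.ii, h.jj, h.ji, h.ii', h.jj', h.ji']

end QR
end ev

/-- the field `ℚ(√5)` -/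
abbrev F5 := QuadraticAlgebra ℚ 1 1

/-- icosians -/
def qx (F : Type*) [Ring F] (h : F) : Q4 F := ⟨-h, h, h, h⟩
def qi (F : Type*) [Ring F] : Q4 F := ⟨0, 1, 0, 0⟩
def qj (F : Type*) [Ring F] : Q4 F := ⟨0, 0, 1, 0⟩
def qy : Q4 F5 := ⟨⟨-1 / 2, 0⟩, 0, ⟨0, 1 / 2⟩, ⟨-1 / 2, 1 / 2⟩⟩
def u3 : Q4 ℚ := qx ℚ (1 / 2) * qx ℚ (1 / 2)
def v3 : Q4 ℚ := qx ℚ (1 / 2) * qj ℚ
def u5 : Q4 F5 := qx F5 ⟨1 / 2, 0⟩ * qy * qx F5 ⟨1 / 2, 0⟩ * qy
def v5 : Q4 F5 := qj F5 * qi F5 * qy * qx F5 ⟨1 / 2, 0⟩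

theorem rel3 : pw u3 3 = sc 1 ∧ pw v3 3 = sc 1 ∧
    (∀ t s : ZMod 3, t ≠ 0 → pw u3 t.val * pw v3 (-t⁻¹).val * pw u3 t.val * pw u3 s.val =
      pw v3 (-(t⁻¹ ^ 2 * s)).val * (pw u3 t.val * pw v3 (-t⁻¹).val * pw u3 t.val)) ∧
    pw (pw u3 (1 : ZMod 3).val * pw v3 (-1⁻¹ : ZMod 3).val * pw u3 (1 : ZMod 3).val) 2 = sc (-1) ∧
    qx ℚ (1 / 2) = u3 * u3 ∧ qi ℚ = v3 * u3 ∧ qj ℚ = u3 * v3 := by decide +kernel

theorem rel5 : pw u5 5 = sc 1 ∧ pw v5 5 = sc 1 ∧
    (∀ t s : ZMod 5, t ≠ 0 → pw u5 t.val * pw v5 (-t⁻¹).val * pw u5 t.val * pw u5 s.val =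
      pw v5 (-(t⁻¹ ^ 2 * s)).val * (pw u5 t.val * pw v5 (-t⁻¹).val * pw u5 t.val)) ∧
    pw (pw u5 (1 : ZMod 5).val * pw v5 (-1⁻¹ : ZMod 5).val * pw u5 (1 : ZMod 5).val) 2 = sc (-1) ∧
    qx F5 ⟨1 / 2, 0⟩ = v5 * u5 * u5 ∧ qi F5 = u5 * v5 * v5 * v5 ∧ qj F5 = u5 * v5 * u5 * u5 * v5 ∧
    qy = u5 * v5 * u5 := by decide +kernel

section main
variable {G R : Type*} [Group G] [Ring R] [Algebra ℂ R] (ρ : G →* R)

omit [Algebra ℂ R] in
theorem rep_inv_mul' (g : G) : ρ g⁻¹ * ρ g = 1 := by rw [← map_mul, inv_mul_cancel, map_one]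

/-- the subgroup generated by the elements of order three -/
def L3 (G : Type*) [Group G] : Subgroup G := closure {x | orderOf x = 3}

theorem mem_L3 {x : G} (hx : orderOf x = 3) : x ∈ L3 G := subset_closure hx

/-- a quaternion frame -/
structure Base (I J x : G) : Prop where
  qr : QR (ρ I) (ρ J)
  hx : orderOf x = 3
  x_eq : ρ I + ρ J + ρ I * ρ J = 2 * ρ x + 1
  hI : I ∈ L3 G
  hJ : J ∈ L3 G

/-- the elements `2y+1` in coordinates -/
def YS (I J : G) (H : Subgroup G) : Set (Q4 (CC (ρ I) (ρ J))) := {u | ∃ y ∈ H, orderOf y = 3 ∧ ev u = 2 * ρ y + 1}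

variable {ρ} (hρ : ∀ g, g ≠ 1 → IsUnit (ρ g - 1))
include hρ

omit [Algebra ℂ R] in
theorem base_of {x y : G} (hx : orderOf x = 3) (hy : orderOf y = 3)
    (hd : ρ x * ρ y + ρ y * ρ x + ρ x + ρ y = 0) : Base ρ (x * y * x) (y * x⁻¹) x := by
  have x2 : ρ x * ρ x = -ρ x - 1 := by linear_combination (norm := noncomm_ring) rep_three ρ hρ hx
  have y2 : ρ y * ρ y = -ρ y - 1 := by linear_combination (norm := noncomm_ring) rep_three ρ hρ hy
  have yx : ρ y * ρ x = -(ρ x * ρ y) - ρ x - ρ y := by linear_combination (norm := noncomm_ring) hd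
  have x2' : ∀ t, ρ x * (ρ x * t) = -(ρ x * t) - t := fun t => by rw [← mul_assoc, x2]; noncomm_ring
  have y2' : ∀ t, ρ y * (ρ y * t) = -(ρ y * t) - t := fun t => by rw [← mul_assoc, y2]; noncomm_ring
  have yx' : ∀ t, ρ y * (ρ x * t) = -(ρ x * (ρ y * t)) - ρ x * t - ρ y * t := fun t => by
    rw [← mul_assoc, yx]; noncomm_ring
  refine ⟨⟨?_, ?_, ?_⟩, hx, ?_, mul_mem (mul_mem (mem_L3 hx) (mem_L3 hy)) (mem_L3 hx),
    mul_mem (mem_L3 hy) (inv_mem (mem_L3 hx))⟩ <;>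
  simp only [map_mul, rep_three_inv ρ hρ hx] <;> noncomm_ring [x2, y2, yx, x2', y2', yx']

theorem exists_base [Finite G] [Nontrivial R] [FiniteDimensional ℂ R] {x y : G} (hx : orderOf x = 3)
    (hy : orderOf y = 3) (h1 : x ≠ y) (h2 : x ≠ y⁻¹) : ∃ I J x, Base ρ I J x := by
  have k1 : ∀ x y : G, orderOf x = 3 → orderOf y = 3 →
      (2 * ρ x + 1) * (2 * ρ y + 1) + (2 * ρ y + 1) * (2 * ρ x + 1) = -2 → ∃ I J x, Base ρ I J x :=
    fun x y hx hy e => ⟨_, _, _, base_of hρ hx (y := y⁻¹) (by rwa [orderOf_inv]) (canc 4 (by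
      rw [rep_three_inv ρ hρ hy]; linear_combination (norm := noncomm_ring [nsm R]) -e))⟩
  rcases pair3 ρ hρ hx hy rfl with e | e | e | e | e
  · exact (h1 e).elim
  · exact (h2 e).elim
  · exact ⟨_, _, _, base_of hρ hx hy (canc 4 (by linear_combination (norm := noncomm_ring [nsm R]) e))⟩
  · exact k1 x y hx hy e
  · refine k1 y (x * y * x⁻¹) hy (by rwa [orderOf_cj]) (sub_eq_zero.1 (canc 4 ?_))
    have x2 : ρ x * ρ x = -ρ x - 1 := by linear_combination (norm := noncomm_ring) rep_three ρ hρ hx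
    have y2 : ρ y * ρ y = -ρ y - 1 := by linear_combination (norm := noncomm_ring) rep_three ρ hρ hy
    have x2' : ∀ t, ρ x * (ρ x * t) = -(ρ x * t) - t := fun t => by rw [← mul_assoc, x2]; noncomm_ring
    have y2' : ∀ t, ρ y * (ρ y * t) = -(ρ y * t) - t := fun t => by rw [← mul_assoc, y2]; noncomm_ring
    simp only [map_mul, rep_three_inv ρ hρ hx]
    linear_combination (norm := noncomm_ring [x2, y2, x2', y2', nsm R]) -e

namespace Base
variable {I J x : G} (h : Base ρ I J x)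
include h

omit [Algebra ℂ R] hρ in
theorem I_inv : ρ I⁻¹ = -ρ I := by
  have := rep_inv_mul' ρ I
  linear_combination (norm := noncomm_ring) ρ I⁻¹ * h.qr.ii - this * ρ I

omit [Algebra ℂ R] hρ in
theorem J_inv : ρ J⁻¹ = -ρ J := by
  have := rep_inv_mul' ρ J
  linear_combination (norm := noncomm_ring) ρ J⁻¹ * h.qr.jj - this * ρ J

theorem cl {H : Subgroup G} (hI : I ∈ H) (hJ : J ∈ H) (hx : x ∈ H) : Cl (YS ρ I J H) := by
  refine ⟨?_, ?_, ?_, ?_⟩ <;> rintro u ⟨y, hy, h3, e⟩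
  · exact ⟨y⁻¹, inv_mem hy, by rwa [orderOf_inv], by rw [ev_neg, e, rep_three_inv ρ hρ h3]; noncomm_ring⟩
  · refine ⟨I * y * I⁻¹, mul_mem (mul_mem hI hy) (inv_mem hI), by rwa [orderOf_cj], ?_⟩
    rw [h.qr.ev_ci, e, map_mul, map_mul, h.I_inv]; noncomm_ring [h.qr.ii]
  · refine ⟨J * y * J⁻¹, mul_mem (mul_mem hJ hy) (inv_mem hJ), by rwa [orderOf_cj], ?_⟩
    rw [h.qr.ev_cj, e, map_mul, map_mul, h.J_inv]; noncomm_ring [h.qr.jj]
  · refine ⟨x⁻¹ * y * x⁻¹⁻¹, mul_mem (mul_mem (inv_mem hx) hy) (inv_mem (inv_mem hx)), by rwa [orderOf_cj], ?_⟩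
    have k1 := h.qr.ev_sh u
    have k2 := rep_inv_mul' ρ x
    rw [h.x_eq, e] at k1
    rw [inv_inv, map_mul, map_mul]
    refine sub_eq_zero.1 (canc 2 ?_)
    linear_combination (norm := noncomm_ring) ρ x⁻¹ * k1 - 2 * (k2 * ev (sh u)) + 2 * k2

omit hρ in
theorem base_mem {H : Subgroup G} (hx : x ∈ H) : ⟨0, 1, 1, 1⟩ ∈ YS ρ I J H :=
  ⟨x, hx, h.hx, by simp [ev, ← h.x_eq]⟩

theorem cfg [Finite G] [Nontrivial R] [FiniteDimensional ℂ R] : Cfg (YS ρ I J ⊤) := by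
  refine ⟨h.cl hρ trivial trivial trivial, ?_, ?_, h.base_mem trivial, ?_⟩
  · rintro u ⟨y, -, h3, e⟩
    apply h.qr.ev_inj
    rw [h.qr.ev_mul, e, ev_sc]
    change _ = (-3 : R)
    linear_combination (norm := noncomm_ring [nsm R]) 4 * rep_three ρ hρ h3
  · rintro u ⟨y, -, h3, e⟩ v ⟨z, -, h3', e'⟩
    have hc := ev_add (u * v) (v * u)
    rw [h.qr.ev_mul, h.qr.ev_mul, e, e'] at hc
    rcases pair3 ρ hρ h3 h3' hc with rfl | rfl | k | k | k
    · exact Or.inl (h.qr.ev_inj (e.trans e'.symm))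
    · exact Or.inr (Or.inl (h.qr.ev_inj (by rw [ev_neg, e, e', rep_three_inv ρ hρ h3']; noncomm_ring)))
    · exact Or.inr (Or.inr (Or.inl (h.qr.ev_inj (by rw [k, ev_sc]; rfl))))
    · exact Or.inr (Or.inr (Or.inr (Or.inl (h.qr.ev_inj (by rw [k, ev_sc]; rfl)))))
    · exact Or.inr (Or.inr (Or.inr (Or.inr (h.qr.ev_inj (by rw [h.qr.ev_mul, k, ev_sc]; rfl)))))
  · rintro u ⟨y, -, h3, e⟩ v ⟨z, -, h3', e'⟩ t ht ht2
    have k1 : (t : R) = 4 * ρ (y * z * I) := by
      rw [← ev_sc, ← ht, h.qr.ev_mul, h.qr.ev_mul, ev_add, ev_add, e, e', ev_sc, map_mul, map_mul]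
      simp only [ev]; push_cast; noncomm_ring
    have k2 : (t : R) * t = 16 := congrArg Subtype.val ht2
    have k3 : y * z * I * (y * z * I) = 1 := IsFC.rep_inj ρ hρ (sub_eq_zero.1 (canc 16 (by
      rw [k1] at k2; rw [map_mul _ (y * z * I), map_one]; linear_combination (norm := noncomm_ring [nsm R]) k2)))
    by_cases k4 : y * z * I = 1
    · exact Or.inl (Subtype.ext (by rw [k1, k4, map_one, mul_one]; rfl))
    · exact Or.inr (Subtype.ext (by rw [k1, IsFC.rep_invol ρ hρ k3 k4, mul_neg_one]; rfl))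

omit hρ in
theorem rep_x {F : Type*} [Ring F] (f : F →+* CC (ρ I) (ρ J)) {c : F} (hc : 2 * c = 1) :
    ρ x = ev (map f (qx F c)) := by
  have : 2 * (f c : R) = 1 := by
    have := congrArg f hc
    rw [map_mul, map_ofNat, map_one] at this
    exact congrArg Subtype.val this
  refine sub_eq_zero.1 (canc 2 ?_)
  simp only [ev, Q4.map, qx, map_neg]
  push_cast
  linear_combination (norm := noncomm_ring) -h.x_eq - this * (ρ I + ρ J + ρ I * ρ J - 1)

omit hρ h in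
theorem rep_i {F : Type*} [Ring F] (f : F →+* CC (ρ I) (ρ J)) : ρ I = ev (map f (qi F)) := by simp [ev, Q4.map, qi]
omit hρ h in
theorem rep_j {F : Type*} [Ring F] (f : F →+* CC (ρ I) (ρ J)) : ρ J = ev (map f (qj F)) := by simp [ev, Q4.map, qj]

theorem three [Finite G] [Nontrivial R] [FiniteDimensional ℂ R] :
    (∃ θ : SL(2, ZMod 3) →* G, Function.Injective θ ∧ θ.range = L3 G) ∨
    (∃ θ : SL(2, ZMod 5) →* G, Function.Injective θ ∧ θ.range = L3 G) := by
  have hinj := IsFC.rep_inj ρ hρ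
  have hc := h.cfg hρ
  let f0 : ℚ →+* CC (ρ I) (ρ J) := (algebraMap ℂ _).comp (algebraMap ℚ ℂ)
  have m1 : ∀ {F : Type} [Ring F] (f : F →+* CC (ρ I) (ρ J)) (u v : Q4 F),
      ev (map f (u * v)) = ev (map f u) * ev (map f v) := fun f u v => by rw [map_mul', h.qr.ev_mul]
  have m2 : ∀ {F : Type} [Ring F] (f : F →+* CC (ρ I) (ρ J)), ev (map f (sc 1)) = 1 := fun f => by
    simp [ev, Q4.map, sc]
  have m3 : ∀ {F : Type} [Ring F] (f : F →+* CC (ρ I) (ρ J)), ev (map f (sc (-1))) ≠ 1 := fun f e => by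
    simp only [ev, Q4.map, sc, map_neg, map_one, map_zero] at e
    push_cast at e
    exact nz (C := R) 2 (by linear_combination (norm := noncomm_ring [nsm R]) -e)
  have key : ∀ H : Subgroup G, YS ρ I J ⊤ ⊆ YS ρ I J H → L3 G ≤ H := fun H hH => by
    rw [L3, closure_le]
    intro y hy
    obtain ⟨u, hu⟩ := h.qr.ev_surj (2 * ρ y + 1)
    obtain ⟨z, hz, -, e⟩ := hH ⟨y, trivial, hy, hu⟩
    rwa [hinj (sub_eq_zero.1 (canc 2 (a := ρ y - ρ z) (by linear_combination (norm := noncomm_ring) e - hu)))]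
  have hxL := mem_L3 h.hx
  by_cases hp : ∃ p, p * p = p + 1 ∧ ⟨0, 0, p, p - 1⟩ ∈ YS ρ I J ⊤
  · obtain ⟨p, hp, y, -, hy, ey⟩ := hp
    letI : Algebra ℚ (CC (ρ I) (ρ J)) := f0.toAlgebra' fun c a => Algebra.commutes (algebraMap ℚ ℂ c) a
    let f : F5 →+* CC (ρ I) (ρ J) := (QuadraticAlgebra.lift (a := (1 : ℚ)) (b := 1) ⟨p, by simp [hp, add_comm]⟩).toRingHom
    have rx := h.rep_x f (c := ⟨1 / 2, 0⟩) (by decide +kernel)
    have ri := rep_i f
    have rj := rep_j f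
    have ry : ρ y = ev (map f qy) := by
      have e1 : map f (sc 2 * qy + sc 1) = ⟨0, 0, p, p - 1⟩ := by
        rw [show sc 2 * qy + sc 1 = ⟨0, 0, QuadraticAlgebra.omega, QuadraticAlgebra.omega - 1⟩ by decide +kernel]
        have : f QuadraticAlgebra.omega = p := by simp [f]
        simp only [Q4.map, map_zero, map_sub, map_one, this]
      have e2 : ev (map f (sc 2 * qy + sc 1)) = 2 * ev (map f qy) + 1 := by
        simp only [ev, Q4.map, qy, sc, mul_def, add_def, map_add, map_sub, map_mul, map_zero, map_one, map_ofNat]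
        push_cast; rw [show ((2 : CC (ρ I) (ρ J)) : R) = 2 from rfl]; noncomm_ring
      rw [e1, ey] at e2
      exact sub_eq_zero.1 (canc 2 (by linear_combination (norm := noncomm_ring) e2))
    obtain ⟨r1, r2, r3, r4, r5, r6, r7, r8⟩ := rel5
    have ru : ρ (x * y * x * y) = ev (map f u5) := by simp only [u5, map_mul, m1, ← rx, ← ry]
    have rv : ρ (J * I * y * x) = ev (map f v5) := by simp only [v5, map_mul, m1, ← rx, ← ry, ← ri, ← rj]
    obtain ⟨θ, t1, t2⟩ := exists_sl ρ hinj (fun u => ev (map f u)) (m1 f) (m2 f) negProp5 ru rv r1 r2 r3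
      (by rw [r4]; exact m3 f)
    refine Or.inr ⟨θ, t1, t2.trans (le_antisymm ?_ (key _ fun u hu => ?_))⟩
    · have hyL := mem_L3 hy
      rw [closure_le]
      rintro _ (rfl | rfl)
      · exact mul_mem (mul_mem (mul_mem hxL hyL) hxL) hyL
      · exact mul_mem (mul_mem (mul_mem h.hJ h.hI) hyL) hxL
    · generalize x * y * x * y = g at *
      generalize J * I * y * x = k at *
      have hg : g ∈ closure {g, k} := subset_closure (by simp)
      have hk : k ∈ closure {g, k} := subset_closure (by simp)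
      have q1 : x ∈ closure {g, k} := by
        rw [hinj (show ρ x = ρ (k * g * g) by rw [rx, r5]; simp only [map_mul, m1, ru, rv])]
        repeat first | assumption | apply mul_mem
      have q2 : I ∈ closure {g, k} := by
        rw [hinj (show ρ I = ρ (g * k * k * k) by rw [ri, r6]; simp only [map_mul, m1, ru, rv])]
        repeat first | assumption | apply mul_mem
      have q3 : J ∈ closure {g, k} := by
        rw [hinj (show ρ J = ρ (g * k * g * g * k) by rw [rj, r7]; simp only [map_mul, m1, ru, rv])]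
        repeat first | assumption | apply mul_mem
      have q4 : y ∈ closure {g, k} := by
        rw [hinj (show ρ y = ρ (g * k * g) by rw [ry, r8]; simp only [map_mul, m1, ru, rv])]
        repeat first | assumption | apply mul_mem
      rcases hc.single hu with o | ⟨q, hq, o⟩
      · exact (o _ (h.cl hρ q2 q3 q1)).1 (h.base_mem q1)
      · obtain rfl := hc.unique hp hq ⟨y, trivial, hy, ey⟩ ((o _ hc.cl).2 hu)
        exact (o _ (h.cl hρ q2 q3 q1)).1 ⟨y, q4, hy, ey⟩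
  · have rx := h.rep_x f0 (c := 1 / 2) (by norm_num)
    have ri := rep_i f0
    have rj := rep_j f0
    obtain ⟨r1, r2, r3, r4, r5, r6, r7⟩ := rel3
    have ru : ρ (x * x) = ev (map f0 u3) := by simp only [u3, map_mul, m1, ← rx]
    have rv : ρ (x * J) = ev (map f0 v3) := by simp only [v3, map_mul, m1, ← rx, ← rj]
    obtain ⟨θ, t1, t2⟩ := exists_sl ρ hinj (fun u => ev (map f0 u)) (m1 f0) (m2 f0) negProp3 ru rv r1 r2 r3
      (by rw [r4]; exact m3 f0)
    refine Or.inl ⟨θ, t1, t2.trans (le_antisymm ?_ (key _ fun u hu => ?_))⟩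
    · rw [closure_le]
      rintro _ (rfl | rfl)
      · exact mul_mem hxL hxL
      · exact mul_mem hxL h.hJ
    · generalize x * x = g at *
      generalize x * J = k at *
      have hg : g ∈ closure {g, k} := subset_closure (by simp)
      have hk : k ∈ closure {g, k} := subset_closure (by simp)
      have q1 : x ∈ closure {g, k} := by
        rw [hinj (show ρ x = ρ (g * g) by rw [rx, r5]; simp only [map_mul, m1, ru, rv])]
        repeat first | assumption | apply mul_mem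
      have q2 : I ∈ closure {g, k} := by
        rw [hinj (show ρ I = ρ (k * g) by rw [ri, r6]; simp only [map_mul, m1, ru, rv])]
        repeat first | assumption | apply mul_mem
      have q3 : J ∈ closure {g, k} := by
        rw [hinj (show ρ J = ρ (g * k) by rw [rj, r7]; simp only [map_mul, m1, ru, rv])]
        repeat first | assumption | apply mul_mem
      rcases hc.single hu with o | ⟨q, hq, o⟩
      · exact (o _ (h.cl hρ q2 q3 q1)).1 (h.base_mem q1)
      · exact (hp ⟨q, hq, (o _ hc.cl).2 hu⟩).elim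

end Base
end main

theorem IsFC.three {G : Type*} [Group G] [Finite G] (h : IsFC G) :
    (∀ x y : G, orderOf x = 3 → orderOf y = 3 → x = y ∨ x = y⁻¹) ∨
    (∃ θ : SL(2, ZMod 3) →* G, Function.Injective θ ∧ θ.range = L3 G) ∨
    (∃ θ : SL(2, ZMod 5) →* G, Function.Injective θ ∧ θ.range = L3 G) := by
  by_cases h1 : ∀ x y : G, orderOf x = 3 → orderOf y = 3 → x = y ∨ x = y⁻¹
  · exact Or.inl h1
  push Not at h1
  obtain ⟨x, y, hx, hy, h1, h2⟩ := h1
  haveI : Nontrivial G := ⟨x, y, h1⟩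
  obtain ⟨n, ρ, hρ⟩ := h.exists_rep
  obtain ⟨I, J, z, hB⟩ := exists_base hρ hx hy h1 h2
  exact Or.inr (hB.three hρ)

end H18
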