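import Mathlib
import Cfsg.Agent.H18.FC4
import Cfsg.Agent.H03.NPC3
import Cfsg.Agent.H03.NPC4
import Cfsg.Agent.H03.Frobenius
import Cfsg.Agent.H04.Aut
import Cfsg.Agent.H08.Small
import Cfsg.Agent.S2119

/-!
# Frobenius complements V: structure (Zassenhaus) (helper18)

* `IsFC.exists_q8` : a Frobenius complement without normal 2-complement has a `Q₈` with an automorphism of order 3;
* `IsFC.sl25_of_not_solvable` : in the non-solvable case the elements of order three generate `SL(2,5)`;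
* `IsFC.c5` : then `G/C(S)` is `A₅` or `S₅` and `C(S) = 2 × M` with `|M|` prime to 30;
* `IsFC.q8_normal`, `IsFC.c4` : solvable case, `O₂(G) ≅ Q₈`, `G/C(Q₈)` is `A₄` or `S₄`.
-/

set_option autoImplicit false

namespace H18
open Matrix MatrixGroups Subgroup Cfsg

variable {G : Type*} [Group G]

theorem perfect_hom {A : Type*} [Group A] [Group.IsPerfect G] [Group.IsSolvable A] (f : G →* A) (g : G) : f g = 1 := by
  by_contra h
  haveI : Nontrivial f.range := ⟨⟨f g, g, rfl⟩, 1, fun e => h (congrArg Subtype.val e)⟩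
  haveI := Group.IsPerfect.range f
  exact Group.IsPerfect.not_isSolvable f.range inferInstance

instance perm4_solvable : Group.IsSolvable (Equiv.Perm (Fin 4)) := by
  let V : Subgroup (Equiv.Perm (Fin 4)) :=
    { carrier := {g | g * g = 1 ∧ Equiv.Perm.sign g = 1}
      one_mem' := by simp
      mul_mem' := by simp only [Set.mem_ofPred_eq]; decide +kernel
      inv_mem' := by simp only [Set.mem_ofPred_eq]; decide +kernel }
  have h1 : derivedSeries (Equiv.Perm (Fin 4)) 1 ≤ alternatingGroup (Fin 4) :=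
    commutator_le.2 fun a _ b _ => by simp [commutatorElement_def, mul_right_comm]
  have h2 : derivedSeries (Equiv.Perm (Fin 4)) 2 ≤ V := (commutator_mono h1 h1).trans
    (commutator_le.2 (by
      change ∀ a : Equiv.Perm (Fin 4), Equiv.Perm.sign a = 1 → ∀ b : Equiv.Perm (Fin 4),
        Equiv.Perm.sign b = 1 → (a * b * a⁻¹ * b⁻¹) * (a * b * a⁻¹ * b⁻¹) = 1 ∧
          Equiv.Perm.sign (a * b * a⁻¹ * b⁻¹) = 1
      decide +kernel))
  refine ⟨⟨3, eq_bot_iff.2 ((commutator_mono h2 h2).trans (commutator_le.2 ?_))⟩⟩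
  change ∀ a : Equiv.Perm (Fin 4), a * a = 1 ∧ Equiv.Perm.sign a = 1 → ∀ b : Equiv.Perm (Fin 4),
    b * b = 1 ∧ Equiv.Perm.sign b = 1 → a * b * a⁻¹ * b⁻¹ = 1
  decide +kernel

theorem q8_comm : ∀ σ : Equiv.Perm (Fin 4), (∀ x y, H04.q8Act σ x * x⁻¹ * (H04.q8Act σ y * y⁻¹) =
    H04.q8Act σ y * y⁻¹ * (H04.q8Act σ x * x⁻¹)) → σ ^ 4 = 1 := by decide +kernel

theorem mul_self_of_two {z : G} (hz : orderOf z = 2) : z * z = 1 := by rw [← pow_two, ← hz, pow_orderOf_eq_one]

theorem comm_mem_centralizer_of_cyclic (N : Subgroup G) [N.Normal] [IsCyclic N] (a b : G) :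
    a * b * a⁻¹ * b⁻¹ ∈ centralizer (N : Set G) := fun x hx => by
  letI := IsCyclic.commGroup (α := N)
  have h1 : ∀ u v : MulAut N, u * v = v * u := fun u v =>
    (IsCyclic.mulAutMulEquiv N).injective (by rw [map_mul, map_mul, mul_comm])
  have h2 : (MulAut.conjNormal (a * b * a⁻¹ * b⁻¹) : MulAut N) = 1 := by
    rw [map_mul, map_mul, map_mul, h1 (MulAut.conjNormal a), map_inv, map_inv]; group
  have : (a * b * a⁻¹ * b⁻¹) * x * (a * b * a⁻¹ * b⁻¹)⁻¹ = x := congrArg Subtype.val (MulEquiv.congr_fun h2 ⟨x, hx⟩)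
  exact (mul_inv_eq_iff_eq_mul.1 this).symm

theorem card_map_mul_card_inf {H : Type*} [Group H] (f : G →* H) (K : Subgroup G) :
    Nat.card (K.map f) * Nat.card ↥(f.ker ⊓ K) = Nat.card K := by
  rw [← relIndex_ker, relIndex, ← (f.ker.subgroupOf K).index_mul_card, ← inf_subgroupOf_right,
    Nat.card_congr (subgroupOfEquivOfLe inf_le_right).toEquiv]

instance L3_char : (L3 G).Characteristic :=
  characteristic_iff_map_le.2 fun φ => by
    rw [L3, MonoidHom.map_closure, closure_le]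
    rintro _ ⟨x, hx, rfl⟩
    exact mem_L3 ((φ.orderOf_eq x).trans hx)

theorem q8_facts : (∀ x : QuaternionGroup 2, x * .a 1 = .a 1 * x → x * .xa 0 = .xa 0 * x → x * x = 1) ∧
    orderOf (.a 1 : QuaternionGroup 2) = 4 ∧ (.a 1 : QuaternionGroup 2) * .xa 0 ≠ .xa 0 * .a 1 :=
  ⟨by decide, QuaternionGroup.orderOf_a_one, by decide⟩

theorem card_q8 : Nat.card (QuaternionGroup 2) = 8 := by rw [Nat.card_eq_fintype_card, QuaternionGroup.card]

/-- the action on a `Q₈` -/
theorem exists_hom_S4 {Q : Subgroup G} [Q.Normal] (e : Q ≃* QuaternionGroup 2) :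
    ∃ f : G →* Equiv.Perm (Fin 4), f.ker = centralizer (Q : Set G) := by
  refine ⟨(H04.q8Aut.symm.toMonoidHom.comp (MulAut.congr e).toMonoidHom).comp MulAut.conjNormal, ?_⟩
  ext g
  simp only [MonoidHom.mem_ker, MonoidHom.comp_apply, MulEquiv.coe_toMonoidHom, EmbeddingLike.map_eq_one_iff]
  constructor
  · intro h x hx
    have : g * x * g⁻¹ = x := congrArg Subtype.val (MulEquiv.congr_fun h ⟨x, hx⟩)
    exact (mul_inv_eq_iff_eq_mul.1 this).symm
  · intro h
    exact MulEquiv.ext fun x => Subtype.ext (mul_inv_eq_iff_eq_mul.2 (h x x.2).symm)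

theorem sl25_center : ∀ s : SL(2, ZMod 5), s * H12.upSL 1 = H12.upSL 1 * s → s * H12.loSL 1 = H12.loSL 1 * s →
    s * s = 1 := by decide +kernel

theorem sl25_elts : (∃ s : SL(2, ZMod 5), orderOf s = 4) ∧ (∃ s : SL(2, ZMod 5), orderOf s = 5) ∧
    (∃ s t : SL(2, ZMod 5), orderOf s = 3 ∧ orderOf t = 3 ∧ s ≠ t ∧ s ≠ t⁻¹) ∧ orderOf (-1 : SL(2, ZMod 5)) = 2 :=
  ⟨⟨⟨!![0, 1; 4, 0], by decide⟩, orderOf_eq_prime_pow (p := 2) (n := 1) (by decide) (by decide)⟩,
    ⟨H12.upSL 1, orderOf_eq_prime (by decide) (by decide)⟩,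
    ⟨H12.upSL 1 * H12.loSL 2, H12.upSL 2 * H12.loSL 1, orderOf_eq_prime (by decide) (by decide),
      orderOf_eq_prime (by decide) (by decide), by decide, by decide⟩, orderOf_eq_prime (by decide) (by decide)⟩

theorem sl23_aux : ∀ a b : SL(2, ZMod 3), a ^ 4 = 1 → b ^ 4 = 1 → (a * b) ^ 4 = 1 := by decide +kernel

theorem card_sl25 : Nat.card SL(2, ZMod 5) = 120 := by rw [H09.card_SL_two, ZMod.card]; rfl
theorem card_sl23 : Nat.card SL(2, ZMod 3) = 24 := by rw [H09.card_SL_two, ZMod.card]; rfl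

theorem aut_sl25 : ∃ (π : SL(2, ZMod 5) →* Equiv.Perm (Fin 5)) (Φ : MulAut SL(2, ZMod 5) →* Equiv.Perm (Fin 5)),
    π.range = alternatingGroup (Fin 5) ∧ π.ker = center _ ∧ Function.Injective Φ ∧ ∀ s, Φ (MulAut.conj s) = π s := by
  obtain ⟨e⟩ := H08.A5_of_psl2 (F := ZMod 5) (Or.inr (ZMod.card 5))
  let β : MulAut SL(2, ZMod 5) →* MulAut PSL(2, ZMod 5) :=
    { toFun := fun a => QuotientGroup.congr _ _ a (characteristic_iff_map_eq.1 inferInstance a)
      map_one' := MulEquiv.ext fun x => by induction x using QuotientGroup.induction_on; rfl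
      map_mul' := fun a b => MulEquiv.ext fun x => by induction x using QuotientGroup.induction_on; rfl }
  have hβ : ∀ a s, β a (QuotientGroup.mk s) = QuotientGroup.mk (a s) := fun a s => rfl
  let δ := MulEquiv.ofBijective _ (Cfsg.Agent.S2119.result 5 (by norm_num) (by norm_num))
  let π : SL(2, ZMod 5) →* alternatingGroup (Fin 5) := e.toMonoidHom.comp (QuotientGroup.mk' _)
  refine ⟨(alternatingGroup _).subtype.comp π, (δ.symm.toMonoidHom.comp (MulAut.congr e).toMonoidHom).comp β,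
    ?_, ?_, ?_, fun s => ?_⟩
  · rw [MonoidHom.range_comp, MonoidHom.range_eq_top.2 (e.surjective.comp (QuotientGroup.mk'_surjective _)),
      ← MonoidHom.range_eq_map, range_subtype]
  · rw [MonoidHom.ker_comp_of_injective _ _ (subtype_injective _), MonoidHom.ker_comp_of_injective _ _ e.injective,
      QuotientGroup.ker_mk']
  · rw [injective_iff_map_eq_one]
    intro a ha
    simp only [MonoidHom.comp_apply, MulEquiv.coe_toMonoidHom, EmbeddingLike.map_eq_one_iff] at ha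
    have key : ∀ s : SL(2, ZMod 5), s ^ 5 = 1 → a s = s := fun s hs => by
      have h1 : (QuotientGroup.mk (a s) : PSL(2, ZMod 5)) = QuotientGroup.mk s := by rw [← hβ, ha]; rfl
      have h2 := QuotientGroup.eq.1 h1.symm
      have h3 := mem_center_iff.1 h2
      have h4 := sl25_center _ (h3 _).symm (h3 _).symm
      obtain ⟨z, hz⟩ : ∃ z, z = s⁻¹ * a s := ⟨_, rfl⟩
      rw [← hz] at h3 h4
      have h5 : a s = s * z := by rw [hz]; group
      have h6 : (s * z) ^ 5 = 1 := by rw [← h5, ← map_pow, hs, map_one]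
      rw [Commute.mul_pow (h3 s), hs, one_mul, show z ^ 5 = (z * z) * (z * z) * z by simp only [pow_succ, pow_zero, one_mul, mul_assoc], h4] at h6
      rw [h5, show z = 1 by simpa using h6, mul_one]
    have : (a : SL(2, ZMod 5) →* SL(2, ZMod 5)).eqLocus (MonoidHom.id _) = ⊤ :=
      H12.sl2_induction (fun t => key _ (by revert t; decide)) (fun t => key _ (by revert t; decide))
    exact MulEquiv.ext fun s => (this.ge (mem_top s) :)
  · simp only [MonoidHom.comp_apply, MulEquiv.coe_toMonoidHom]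
    rw [MulEquiv.symm_apply_eq]
    refine MulEquiv.ext fun x => ?_
    obtain ⟨x, rfl⟩ := e.surjective x
    induction x using QuotientGroup.induction_on with | H x =>
    apply Subtype.ext
    simp [δ, hβ, π]

namespace IsFC
variable [Finite G] (h : IsFC G)
include h

theorem uniq (x y : G) (hx : orderOf x = 2) (hy : y ^ 2 = 1) : y ∈ zpowers x := by
  by_cases e : y = 1
  · exact e ▸ one_mem _
  · have h1 : x * x = 1 := by rw [← pow_two, ← hx, pow_orderOf_eq_one]
    rw [h.invol_eq h1 (by rintro rfl; simp at hx) (by rwa [← pow_two]) e]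
    exact mem_zpowers x

theorem solvable_of_npc (h2 : HasNormalPComplement 2 G) : Group.IsSolvable G := by
  obtain ⟨N, _, h1, h3⟩ := H03.hasNPC_iff_exists.1 h2
  haveI := (h.sub N).zgroup_odd (Nat.prime_two.coprime_iff_not_dvd.1 h1.symm)
  haveI := h3.isNilpotent
  exact solvable_of_ker_le_range N.subtype (QuotientGroup.mk' N) (by simp)

theorem exists_q8 (h2 : ¬ HasNormalPComplement 2 G) : ∃ (D : Subgroup G) (g : G), Nonempty (D ≃* QuaternionGroup 2) ∧
    g ∈ normalizer (D : Set G) ∧ (∃ k, orderOf g = 3 ^ k) ∧ g ∉ centralizer (D : Set G) := by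
  obtain ⟨P⟩ : Nonempty (Sylow 2 G) := inferInstance
  obtain ⟨D, hD, -, -, q, hq, hq2, g, hg, ⟨k, hk⟩, hgc⟩ := H03.exists_not_commute_of_not_hasNPC P h2
  obtain ⟨e⟩ := H03.q8_of_odd_acts (P.isPGroup'.to_le hD) (fun x _ y _ => h.uniq x y) hg
    (by rw [hk]; exact ((Nat.coprime_primes hq Nat.prime_two).2 hq2).pow_left k) hgc
  refine ⟨D, g, ⟨e⟩, hg, ⟨k, ?_⟩, hgc⟩
  have h1 := H17.orderOf_conjAut_dvd D hg
  rw [hk] at h1 ⊢
  obtain ⟨j, -, hj⟩ := (Nat.dvd_prime_pow hq).1 h1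
  have h3 : orderOf (H17.conjAut D hg) ∣ 24 := by
    have := orderOf_dvd_natCard (H17.conjAut D hg)
    rwa [← Nat.card_congr (H04.q8Aut.trans (MulAut.congr e).symm).toEquiv, Nat.card_perm, Nat.card_fin] at this
  rcases j with _ | j
  · exact (hgc (H17.mem_centralizer_of_conjAut_eq_one D hg (by simpa using hj))).elim
  · have h4 : q ∣ 2 ^ 3 * 3 := (dvd_pow_self q j.succ_ne_zero).trans (hj ▸ h3)
    rcases (Nat.Prime.dvd_mul hq).1 h4 with h5 | h5
    · exact (hq2 ((Nat.prime_dvd_prime_iff_eq hq Nat.prime_two).1 (hq.dvd_of_dvd_pow h5))).elim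
    · rw [(Nat.prime_dvd_prime_iff_eq hq Nat.prime_three).1 h5]

theorem q8_of_sl23 (θ : SL(2, ZMod 3) →* G) (h1 : Function.Injective θ) (h2 : θ.range = L3 G) :
    ∃ (Q : Subgroup G) (_ : Q.Normal), Q ≤ L3 G ∧ Nonempty (Q ≃* QuaternionGroup 2) ∧
      ∃ x, orderOf x = 3 ∧ x ∉ centralizer (Q : Set G) := by
  let D : Subgroup SL(2, ZMod 3) :=
    { carrier := {s | s ^ 4 = 1}
      mul_mem' := fun {a b} => sl23_aux a b
      one_mem' := one_pow 4
      inv_mem' := fun {a} ha => by rw [Set.mem_setOf_eq, inv_pow, ha, inv_one] }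
  have hn : (D.map θ).Normal := ⟨by
    rintro _ ⟨s, hs, rfl⟩ g
    obtain ⟨t, ht⟩ : g * θ s * g⁻¹ ∈ θ.range := h2 ▸ Normal.conj_mem inferInstance _ (h2 ▸ ⟨s, rfl⟩) g
    refine ⟨t, h1 ?_, ht⟩
    rw [map_pow, ht, conj_pow, ← map_pow, show s ^ 4 = 1 from hs]; simp⟩
  have hx : orderOf (θ (H12.upSL 1)) = 3 :=
    (orderOf_injective θ h1 _).trans (orderOf_eq_prime (by decide) (by decide))
  have hc : θ (H12.upSL 1) ∉ centralizer (D.map θ : Set G) := fun hc => by
    have := hc (θ H03.slA) ⟨_, by change H03.slA ^ 4 = 1; decide, rfl⟩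
    rw [← map_mul, ← map_mul] at this
    exact absurd (h1 this) (by decide)
  refine ⟨D.map θ, hn, h2 ▸ map_le_range _ _, H03.q8_of_odd_acts ?_ (fun x _ y _ => h.uniq x y)
    (by rw [normalizer_eq_top]; trivial) (by rw [hx]; norm_num) hc, _, hx, hc⟩
  exact IsPGroup.map (fun s => ⟨2, Subtype.ext s.2⟩) θ

theorem sl25_of_perfect [Nontrivial G] [Group.IsPerfect G] :
    ∃ θ : SL(2, ZMod 5) →* G, Function.Injective θ ∧ θ.range = L3 G := by
  rcases h.three with h1 | ⟨θ, h1, h2⟩ | h1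
  · exfalso
    obtain ⟨D, g, -, -, ⟨k, hk⟩, hg⟩ := h.exists_q8 fun e => Group.IsPerfect.not_isSolvable G (h.solvable_of_npc e)
    haveI := Fact.mk Nat.prime_three
    obtain ⟨P⟩ : Nonempty (Sylow 3 G) := inferInstance
    have h3 : 3 ∣ Nat.card G := by
      rcases k with _ | k
      · exact (hg (by rw [orderOf_eq_one_iff.1 hk]; exact one_mem _)).elim
      · exact (dvd_pow_self 3 k.succ_ne_zero).trans (hk ▸ orderOf_dvd_natCard g)
    obtain ⟨x, hx⟩ := exists_prime_orderOf_dvd_card' (G := P) 3 (P.dvd_card_of_dvd_card h3)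
    have hx3 : orderOf (x : G) = 3 := by rwa [orderOf_coe]
    haveI : (zpowers (x : G)).Normal := ⟨fun y hy g => by
      obtain ⟨n, rfl⟩ := hy
      simp only [← conj_zpow]
      refine zpow_mem ?_ n
      rcases h1 (g * x * g⁻¹) x (by rwa [orderOf_cj]) hx3 with e | e <;> rw [e]
      exacts [mem_zpowers _, inv_mem (mem_zpowers _)]⟩
    haveI : Group.IsSolvable (MulAut (zpowers (x : G))) := by
      letI := IsCyclic.commGroup (α := zpowers (x : G))
      exact solvable_of_solvable_injective (f := (IsCyclic.mulAutMulEquiv (zpowers (x : G))).toMonoidHom)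
        (MulEquiv.injective _)
    have hc : ∀ g : G, x * g = g * x := fun g => by
      have := perfect_hom (MulAut.conjNormal : G →* MulAut (zpowers (x : G))) g
      have : g * x * g⁻¹ = x := congrArg Subtype.val (MulEquiv.congr_fun this ⟨x, mem_zpowers _⟩)
      exact (mul_inv_eq_iff_eq_mul.1 this).symm
    obtain ⟨N, _, h4, h5⟩ := H03.hasNPC_iff_exists.1 (H03.hasNPC_of_cyclic_sylow P
      (h.isCyclic_odd (by norm_num) P.isPGroup') x.2 (by rintro e; simp [e] at hx3) fun g _ => hc g)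
    haveI := h5.isNilpotent
    have h6 : (x : G) ∈ N := (QuotientGroup.eq_one_iff _).1 (perfect_hom (QuotientGroup.mk' N) x)
    exact (Nat.prime_three.coprime_iff_not_dvd.1 h4.symm) (hx3 ▸ N.orderOf_dvd_natCard h6)
  · exfalso
    obtain ⟨Q, _, -, ⟨e⟩, x, -, hx⟩ := h.q8_of_sl23 θ h1 h2
    obtain ⟨f, hf⟩ := exists_hom_S4 e
    exact hx (hf ▸ perfect_hom f x)
  · exact h1

theorem sl25_of_not_solvable (hs : ¬ Group.IsSolvable G) :
    ∃ θ : SL(2, ZMod 5) →* G, Function.Injective θ ∧ θ.range = L3 G := by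
  rw [isSolvable_iff_commutator_lt] at hs
  push Not at hs
  obtain ⟨H, h0, hH⟩ := hs
  haveI : Group.IsPerfect H := isPerfect_iff.2 ((H.commutator_le_self).eq_or_lt.resolve_right hH)
  haveI := (H.nontrivial_iff_ne_bot).2 h0
  obtain ⟨φ, φ1, φ2⟩ := (h.sub H).sl25_of_perfect
  rcases h.three with h1 | ⟨θ, h1, h2⟩ | h1
  · obtain ⟨-, -, ⟨s, t, hs, ht, h2, h3⟩, -⟩ := sl25_elts
    have hi : Function.Injective (H.subtype.comp φ) := H.subtype_injective.comp φ1
    rcases h1 _ _ ((orderOf_injective _ hi s).trans hs) ((orderOf_injective _ hi t).trans ht) with e | e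
    · exact (h2 (hi e)).elim
    · exact (h3 (hi (by rw [e, map_inv]))).elim
  · have h3 : φ.range.map H.subtype ≤ θ.range := by
      rw [φ2, h2, L3, MonoidHom.map_closure, closure_le]
      rintro _ ⟨x, hx, rfl⟩
      exact mem_L3 ((orderOf_coe x).trans hx)
    have h4 := card_le_of_le h3
    rw [card_subtype, ← Nat.card_congr (MonoidHom.ofInjective φ1).toEquiv,
      ← Nat.card_congr (MonoidHom.ofInjective h1).toEquiv, card_sl25, card_sl23] at h4
    omega
  · exact h1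

/-- a normal subgroup without elements of order four is `2 × M` -/
theorem odd_part (C : Subgroup G) [C.Normal] {z : G} (hz : orderOf z = 2) (hzC : z ∈ C)
    (h4 : ∀ c ∈ C, orderOf c ≠ 4) : IsZGroup C ∧ ∃ M : Subgroup G, M.Normal ∧ M ≤ C ∧ Odd (Nat.card M) ∧
      Nat.card C = 2 * Nat.card M ∧ M ⊔ zpowers z = C := by
  have key : ∀ P : Subgroup C, IsPGroup 2 P → P ≤ (zpowers z).subgroupOf C := fun P hP c hc => by
    obtain ⟨k, hk⟩ := IsPGroup.iff_orderOf.1 hP ⟨c, hc⟩
    rw [orderOf_mk, ← orderOf_coe] at hk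
    refine h.uniq z c hz ?_
    by_contra e
    have h1 : 4 ∣ orderOf (c : G) := by
      rw [hk]
      rcases k with _ | _ | k
      · exact (e (by rw [orderOf_eq_one_iff.1 hk, one_pow])).elim
      · exact (e (by rw [← orderOf_dvd_iff_pow_eq_one, hk]; rfl)).elim
      · exact ⟨2 ^ k, by ring⟩
    exact h4 _ (pow_mem c.2 _) (orderOf_pow_orderOf_div (orderOf_pos _).ne' h1)
  have hc2 : Nat.card ((zpowers z).subgroupOf C) = 2 := by
    rw [Nat.card_congr (subgroupOfEquivOfLe (zpowers_le.2 hzC)).toEquiv, Nat.card_zpowers, hz]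
  obtain ⟨P⟩ : Nonempty (Sylow 2 C) := inferInstance
  have hP : (P : Subgroup C) = (zpowers z).subgroupOf C :=
    (P.is_maximal' (IsPGroup.of_card (n := 1) hc2) (key P P.isPGroup')).symm
  have hN := H03.hasNPC_of_sylow_le_center P (by
    rw [hP]
    intro c hc
    obtain ⟨n, hn⟩ : (c : G) ∈ zpowers z := hc
    refine mem_center_iff.2 fun g => Subtype.ext ?_
    have : Commute (g : G) z := h.invol_comm (by rw [← pow_two, ← hz, pow_orderOf_eq_one]) g
    push_cast
    rw [← hn]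
    exact this.zpow_right n)
  have hc := H03.HasNPC.isComplement' hN P
  refine ⟨(h.sub C).zgroup fun Q hQ => ?_, (pResidual 2 C).map C.subtype, inferInstance, map_subtype_le _,
    ?_, ?_, ?_⟩
  · haveI := isCyclic_of_prime_card hc2
    exact isCyclic_of_injective (inclusion (key Q hQ)) (inclusion_injective _)
  · rw [card_subtype]
    exact Nat.coprime_two_right.1 (H03.hasNPC_iff_coprime.1 hN)
  · rw [card_subtype, ← hc.card_mul, hP, hc2, mul_comm]
  · have := congrArg (map C.subtype) hc.sup_eq_top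
    rwa [Subgroup.map_sup, hP, map_subgroupOf_eq_of_le (zpowers_le.2 hzC), ← MonoidHom.range_eq_map,
      range_subtype] at this

/-- structure of the non-solvable Frobenius complements -/
theorem c5 (θ : SL(2, ZMod 5) →* G) (h1 : Function.Injective θ) (h2 : θ.range = L3 G) :
    ∃ f : G →* Equiv.Perm (Fin 5), f.ker = centralizer (L3 G : Set G) ∧ (L3 G).map f = alternatingGroup (Fin 5) ∧
      IsZGroup f.ker ∧ ∃ M : Subgroup G, M.Normal ∧ M ≤ f.ker ∧ (Nat.card M).Coprime 30 ∧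
        Nat.card f.ker = 2 * Nat.card M ∧ L3 G ⊔ M = (alternatingGroup (Fin 5)).comap f ∧ L3 G ⊓ M = ⊥ := by
  obtain ⟨π, Φ, p1, -, p3, p4⟩ := aut_sl25
  let e : SL(2, ZMod 5) ≃* L3 G := (MonoidHom.ofInjective h1).trans (MulEquiv.subgroupCongr h2)
  have he : ∀ s, (e s : G) = θ s := fun s => rfl
  let f : G →* Equiv.Perm (Fin 5) := (Φ.comp (MulAut.congr e).symm.toMonoidHom).comp MulAut.conjNormal
  have k1 : f.ker = centralizer (L3 G : Set G) := by
    ext g
    simp only [f, MonoidHom.mem_ker, MonoidHom.comp_apply, MulEquiv.coe_toMonoidHom, map_eq_one_iff Φ p3,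
      EmbeddingLike.map_eq_one_iff]
    constructor
    · intro h x hx
      have : g * x * g⁻¹ = x := congrArg Subtype.val (MulEquiv.congr_fun h ⟨x, hx⟩)
      exact (mul_inv_eq_iff_eq_mul.1 this).symm
    · intro h
      exact MulEquiv.ext fun x => Subtype.ext (mul_inv_eq_iff_eq_mul.2 (h x x.2).symm)
  have k2 : ∀ s, f (θ s) = π s := fun s => by
    rw [← p4]
    simp only [f, MonoidHom.comp_apply, MulEquiv.coe_toMonoidHom]
    congr 1
    rw [MulEquiv.symm_apply_eq]
    refine MulEquiv.ext fun x => Subtype.ext ?_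
    obtain ⟨x, rfl⟩ := e.surjective x
    simp [he]
  have k3 : (L3 G).map f = alternatingGroup (Fin 5) := by
    rw [← h2, ← p1, MonoidHom.map_range]; congr 1; exact MonoidHom.ext k2
  have k4 : ∀ c ∈ f.ker, ∀ s, orderOf c ∣ orderOf s → c * c = 1 := fun c hc s hs => by
    rw [k1] at hc
    have hc' : ∀ t, θ t * c = c * θ t := fun t => hc _ (h2 ▸ ⟨t, rfl⟩ : θ t ∈ L3 G)
    obtain ⟨n, rfl⟩ := h.mem_zpowers_of_comm (hc' s).symm (by rwa [orderOf_injective θ h1])
    simp only [← map_zpow, ← map_mul] at hc' ⊢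
    rw [sl25_center _ (h1 (hc' _)).symm (h1 (hc' _)).symm, map_one]
  have k5 : ∀ c ∈ f.ker, ∀ n, (∃ s : SL(2, ZMod 5), orderOf s = n) → ¬ n ∣ 2 → orderOf c ≠ n :=
    fun c hc n ⟨s, hs⟩ hn e => hn (by
      rw [← e, orderOf_dvd_iff_pow_eq_one, pow_two]; exact k4 c hc s (by rw [e, hs]))
  obtain ⟨o4, o5, ⟨s, -, o3, -⟩, o2⟩ := sl25_elts
  have hz : orderOf (θ (-1)) = 2 := (orderOf_injective θ h1 _).trans o2
  have hzC : θ (-1) ∈ f.ker := by
    rw [k1]
    intro g _
    exact h.invol_comm (mul_self_of_two hz) g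
  obtain ⟨z1, M, m1, m2, m3, m4, m5⟩ := h.odd_part f.ker hz hzC fun c hc => k5 c hc 4 o4 (by norm_num)
  have k6 : ∀ p : ℕ, p.Prime → (∃ s : SL(2, ZMod 5), orderOf s = p) → ¬ p ∣ 2 → (Nat.card M).Coprime p :=
    fun p hp hs h2 => by
      haveI := Fact.mk hp
      refine (hp.coprime_iff_not_dvd.2 fun hd => ?_).symm
      obtain ⟨c, hc⟩ := exists_prime_orderOf_dvd_card' (G := M) p hd
      exact k5 c (m2 c.2) p hs h2 (by rwa [orderOf_coe])
  refine ⟨f, k1, k3, z1, M, m1, m2, ?_, m4, ?_, ?_⟩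
  · exact ((Nat.coprime_two_right.2 m3).mul_right (k6 3 Nat.prime_three ⟨s, o3⟩ (by norm_num))).mul_right
      (k6 5 Nat.prime_five o5 (by norm_num))
  · rw [← k3, comap_map_eq, ← m5, ← sup_assoc, eq_comm, sup_eq_left]
    exact le_sup_of_le_left (zpowers_le.2 (h2 ▸ ⟨-1, rfl⟩))
  · rw [eq_bot_iff]
    rintro c ⟨hc, hcM⟩
    obtain ⟨t, rfl⟩ : c ∈ θ.range := h2 ▸ hc
    have := k4 _ (m2 hcM) t (by rw [orderOf_injective θ h1])
    rw [← pow_two, ← orderOf_dvd_iff_pow_eq_one] at this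
    exact orderOf_eq_one_iff.1 (Nat.eq_one_of_dvd_coprimes (Nat.coprime_two_right.2 m3) (M.orderOf_dvd_natCard hcM) this)

/-- Zassenhaus: perfect Frobenius complements -/
theorem perfect [Nontrivial G] [Group.IsPerfect G] : Nonempty (G ≃* SL(2, ZMod 5)) := by
  obtain ⟨θ, h1, h2⟩ := h.sl25_of_perfect
  obtain ⟨f, k1, k2, k3, -⟩ := h.c5 θ h1 h2
  have k4 : f.range ≤ (L3 G).map f := by
    rintro _ ⟨g, rfl⟩
    rw [k2]
    exact Int.units_eq_one_or (Equiv.Perm.sign (f g)) |>.resolve_right fun e => by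
      have := perfect_hom (Equiv.Perm.sign.comp f) g
      rw [MonoidHom.comp_apply, e] at this
      exact absurd this (by decide)
  have k5 : L3 G ⊔ f.ker = ⊤ := by
    rw [← comap_map_eq, eq_top_iff]
    exact fun g _ => k4 ⟨g, rfl⟩
  have k6 : Function.Surjective ((QuotientGroup.mk' (L3 G)).comp f.ker.subtype) := by
    rw [← MonoidHom.range_eq_top, MonoidHom.range_comp, range_subtype, ← (QuotientGroup.mk' (L3 G)).range_eq_top_of_surjective
      (QuotientGroup.mk'_surjective _), MonoidHom.range_eq_map, ← k5, Subgroup.map_sup, QuotientGroup.map_mk'_self, bot_sup_eq]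
  haveI := Group.isSolvable_of_surjective k6
  have k7 : θ.range = ⊤ := by
    rw [h2, eq_top_iff]
    exact fun g _ => (QuotientGroup.eq_one_iff _).1 (perfect_hom (QuotientGroup.mk' (L3 G)) g)
  exact ⟨(MulEquiv.ofBijective θ ⟨h1, MonoidHom.range_eq_top.1 k7⟩).symm⟩

theorem q8_cent {Q : Subgroup G} (e : Q ≃* QuaternionGroup 2) {c : G} (hc : c ∈ centralizer (Q : Set G)) :
    orderOf c ≠ 4 := fun h4 => by
  obtain ⟨f1, f2, -⟩ := q8_facts
  have hc' : ∀ t, (e.symm t : G) * c = c * e.symm t := fun t => hc _ (e.symm t).2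
  obtain ⟨n, rfl⟩ := h.mem_zpowers_of_comm (hc' (.a 1)).symm (by rw [orderOf_coe, MulEquiv.orderOf_eq, f2, h4])
  simp only [← coe_zpow, ← map_zpow, ← coe_mul, ← map_mul, SetLike.coe_eq_coe, EmbeddingLike.apply_eq_iff_eq,
    orderOf_coe, MulEquiv.orderOf_eq] at hc' h4
  have := f1 _ (hc' _).symm (hc' _).symm
  rw [← pow_two, ← orderOf_dvd_iff_pow_eq_one, h4] at this
  norm_num at this

/-- solvable case: `O₂(G) ≅ Q₈` -/
theorem q8_normal [Group.IsSolvable G] (h2 : ¬ HasNormalPComplement 2 G) :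
    Nonempty (pCore 2 G ≃* QuaternionGroup 2) ∧ ∃ g : G, (∃ k, orderOf g = 3 ^ k) ∧ g ∉ centralizer (pCore 2 G : Set G) := by
  obtain ⟨D, g, ⟨e⟩, hg, ⟨k, hk⟩, hgc⟩ := h.exists_q8 h2
  have hO := H02.pCore_isPGroup 2 G
  have hco : (orderOf g).Coprime 2 := by rw [hk]; exact Nat.Coprime.pow_left k (by norm_num)
  suffices hs : g ∉ centralizer (pCore 2 G : Set G) from
    ⟨H03.q8_of_odd_acts hO (fun x _ y _ => h.uniq x y) (by rw [normalizer_eq_top]; trivial) hco hs, g, ⟨k, hk⟩, hs⟩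
  intro hs
  have k1 : ∀ d : G, g * d * g⁻¹ * d⁻¹ ∈ centralizer (fittingSubgroup G : Set G) := fun d => by
    rw [← zpowers_le, le_centralizer_iff, H02.fitting_eq_iSup_pCore, iSup_le_iff]
    rintro ⟨p, hp⟩
    rw [le_centralizer_iff, zpowers_le]
    by_cases e : p = 2
    · subst e
      rw [mul_assoc, mul_assoc, ← mul_assoc d]
      exact mul_mem hs (Normal.conj_mem inferInstance _ (inv_mem hs) d)
    · haveI := Fact.mk hp
      haveI := h.isCyclic_odd e (H02.pCore_isPGroup p G)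
      exact comm_mem_centralizer_of_cyclic _ g d
  let σ := H04.q8Aut.symm (MulAut.congr e (H17.conjAut D hg))
  have k2 : ∀ x, H04.q8Act σ x = e (H17.conjAut D hg (e.symm x)) := fun x =>
    MulEquiv.congr_fun (H04.q8Aut.apply_symm_apply (MulAut.congr e (H17.conjAut D hg))) x
  have k3 := q8_comm σ fun x y => by
    obtain ⟨x, rfl⟩ := e.surjective x
    obtain ⟨y, rfl⟩ := e.surjective y
    simp only [k2, MulEquiv.symm_apply_apply, ← map_inv, ← map_mul, EmbeddingLike.apply_eq_iff_eq]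
    exact Subtype.ext (k1 y _ (H02.centralizer_fitting_le G (k1 x)))
  have k4 : orderOf (H17.conjAut D hg) ∣ 4 := by
    rw [← (MulAut.congr e).orderOf_eq, ← H04.q8Aut.symm.orderOf_eq]
    exact orderOf_dvd_of_pow_eq_one k3
  exact hgc (H17.mem_centralizer_of_conjAut_eq_one D hg (orderOf_eq_one_iff.1 (Nat.eq_one_of_dvd_coprimes
    (hco.pow_right 2) (H17.orderOf_conjAut_dvd D hg) k4)))

/-- structure of a Frobenius complement with a normal `Q₈` -/
theorem c4 {Q : Subgroup G} [Q.Normal] (e : Q ≃* QuaternionGroup 2) :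
    ∃ f : G →* Equiv.Perm (Fin 4), f.ker = centralizer (Q : Set G) ∧ IsZGroup f.ker ∧ 4 ∣ Nat.card (Q.map f) ∧
      (∀ g : G, (∃ k, orderOf g = 3 ^ k) → g ∉ centralizer (Q : Set G) → alternatingGroup (Fin 4) ≤ f.range) ∧
      ∃ M : Subgroup G, M.Normal ∧ M ≤ f.ker ∧ Odd (Nat.card M) ∧ Nat.card f.ker = 2 * Nat.card M := by
  obtain ⟨f, hf⟩ := exists_hom_S4 e
  have hQ : Nat.card Q = 8 := by rw [Nat.card_congr e.toEquiv, card_q8]
  obtain ⟨z, hz⟩ := exists_prime_orderOf_dvd_card' (G := Q) 2 (by rw [hQ]; norm_num)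
  rw [← orderOf_coe] at hz
  obtain ⟨z1, M, m1, m2, m3, m4, -⟩ := h.odd_part f.ker hz
    (hf ▸ fun g _ => h.invol_comm (mul_self_of_two hz) g) fun c hc => h.q8_cent e (hf ▸ hc)
  have k1 : 4 ∣ Nat.card (Q.map f) := by
    have h1 := card_map_mul_card_inf f Q
    have h2 : Nat.card ↥(f.ker ⊓ Q) ∣ 2 := by
      refine Nat.Coprime.dvd_of_dvd_mul_right (n := Nat.card M) ?_ (m4 ▸ card_dvd_of_le inf_le_left)
      exact Nat.Coprime.coprime_dvd_left (hQ ▸ card_dvd_of_le inf_le_right : _ ∣ 8)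
        ((Nat.coprime_two_left.2 m3).pow_left 3)
    rw [hQ] at h1
    rcases (Nat.dvd_prime Nat.prime_two).1 h2 with h3 | h3 <;> rw [h3] at h1 <;> omega
  refine ⟨f, hf, z1, k1, fun g ⟨k, hk⟩ hg => ?_, M, m1, m2, m3, m4⟩
  have k2 : 3 ∣ Nat.card f.range := by
    obtain ⟨j, -, hj⟩ := (Nat.dvd_prime_pow Nat.prime_three).1 (hk ▸ orderOf_map_dvd f g)
    rcases j with _ | j
    · exact (hg (hf ▸ orderOf_eq_one_iff.1 hj)).elim
    · exact (dvd_pow_self 3 j.succ_ne_zero).trans (hj ▸ f.range.orderOf_dvd_natCard ⟨g, rfl⟩)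
  have k3 : 12 ∣ Nat.card f.range :=
    Nat.Coprime.mul_dvd_of_dvd_of_dvd (by norm_num : Nat.Coprime 4 3) (k1.trans (card_dvd_of_le (map_le_range _ _))) k2
  refine Equiv.Perm.alternatingGroup_le_of_index_le_two ?_
  have := f.range.card_mul_index
  rw [Nat.card_perm, Nat.card_fin] at this
  obtain ⟨c, hc⟩ := k3
  have : 0 < c := Nat.pos_of_ne_zero (by rintro rfl; exact Nat.card_pos.ne' hc)
  have h24 : (4 : ℕ).factorial = 24 := rfl
  nlinarith

end IsFC
end H18
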