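import Mathlib
import Cfsg.Agent.H18.FC5
import Cfsg.Agent.H02.FPF

/-!
# Linear groups transitive on non-zero vectors (helper18)

`ρ : G →* (V ≃ₗ[k] V)`, `V` finite.
* `Tr ρ` (transitive on non-zero vectors), `Inv ρ N W`, `Irr ρ N`, `SRg ρ N` (semiregular);
* `Tr.irr_of_not_comm` : non-abelian normal subgroups are irreducible; `Tr.srg_of_comm`, `Tr.isCyclic_of_comm`;
* `Irr.cent_comm` (Schur), `Tr.semilinear` (an irreducible abelian normal subgroup gives `ΓL(1)`),
  `Tr.cent_ne` (a reducible abelian normal subgroup is not self-centralising), `q8_sq`.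
-/

set_option autoImplicit false

namespace H18
open Subgroup

variable {k V G : Type*} [Field k] [AddCommGroup V] [Module k V] [Group G] (ρ : G →* (V ≃ₗ[k] V))

/-- transitive on non-zero vectors -/
def Tr : Prop := ∀ v w : V, v ≠ 0 → w ≠ 0 → ∃ g : G, ρ g v = w
/-- invariant subspace -/
def Inv (N : Subgroup G) (W : Submodule k V) : Prop := ∀ n ∈ N, ∀ v ∈ W, ρ n v ∈ W
/-- irreducible -/
def Irr (N : Subgroup G) : Prop := ∀ W, Inv ρ N W → W = ⊥ ∨ W = ⊤
/-- semiregular on non-zero vectors -/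
def SRg (N : Subgroup G) : Prop := ∀ n ∈ N, ∀ v, v ≠ 0 → ρ n v = v → n = 1

/-- the representation with values in the endomorphism ring -/
def fE : G →* Module.End k V := LinearEquiv.automorphismGroup.toLinearMapMonoidHom.comp ρ

@[simp] theorem fE_apply (g : G) (v : V) : fE ρ g v = ρ g v := rfl

theorem rho_mul (a b : G) (v : V) : ρ (a * b) v = ρ a (ρ b v) := by rw [map_mul]; rfl
theorem rho_one (v : V) : ρ 1 v = v := by rw [map_one]; rfl
@[simp] theorem rho_inv_apply (a : G) (v : V) : ρ a⁻¹ (ρ a v) = v := by rw [← rho_mul, inv_mul_cancel, rho_one]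
@[simp] theorem rho_apply_inv (a : G) (v : V) : ρ a (ρ a⁻¹ v) = v := by rw [← rho_mul, mul_inv_cancel, rho_one]

/-- the enveloping algebra -/
def env (N : Subgroup G) : Subalgebra k (Module.End k V) := Algebra.adjoin k (fE ρ '' N)

theorem mem_env {N : Subgroup G} {n : G} (hn : n ∈ N) : fE ρ n ∈ env ρ N := Algebra.subset_adjoin ⟨n, hn, rfl⟩

variable {ρ}

theorem Inv.env {N : Subgroup G} {W : Submodule k V} (h : Inv ρ N W) {e : Module.End k V} (he : e ∈ env ρ N) :
    ∀ v ∈ W, e v ∈ W := by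
  induction he using Algebra.adjoin_induction with
  | mem x hx => obtain ⟨n, hn, rfl⟩ := hx; exact h n hn
  | algebraMap r => exact fun v hv => W.smul_mem r hv
  | add x y _ _ hx hy => exact fun v hv => W.add_mem (hx v hv) (hy v hv)
  | mul x y _ _ hx hy => exact fun v hv => hx _ (hy v hv)

theorem conj_mem_env {N : Subgroup G} [hN : N.Normal] (g : G) {e : Module.End k V} (he : e ∈ env ρ N) :
    fE ρ g * e * fE ρ g⁻¹ ∈ env ρ N := by
  have h1 : fE ρ g⁻¹ * fE ρ g = 1 := by rw [← map_mul, inv_mul_cancel, map_one]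
  induction he using Algebra.adjoin_induction with
  | mem x hx =>
    obtain ⟨n, hn, rfl⟩ := hx
    rw [← map_mul, ← map_mul]; exact mem_env ρ (hN.conj_mem n hn g)
  | algebraMap r =>
    rw [← Algebra.commutes, mul_assoc, ← map_mul, mul_inv_cancel, map_one, mul_one]
    exact Subalgebra.algebraMap_mem _ r
  | add x y _ _ hx hy => rw [mul_add, add_mul]; exact add_mem hx hy
  | mul x y _ _ hx hy =>
    convert mul_mem hx hy using 1
    simp only [mul_assoc]
    rw [← mul_assoc (fE ρ g⁻¹), h1, one_mul]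

theorem env_comm {N : Subgroup G} (hN : ∀ a ∈ N, ∀ b ∈ N, a * b = b * a) {x y : Module.End k V}
    (hx : x ∈ env ρ N) (hy : y ∈ env ρ N) : x * y = y * x := by
  have := Algebra.isMulCommutative_adjoin k (s := fE ρ '' N) (by
    rintro _ ⟨a, ha, rfl⟩ _ ⟨b, hb, rfl⟩; rw [← map_mul, hN a ha b hb, map_mul])
  exact congrArg Subtype.val (this.is_comm.comm ⟨x, hx⟩ ⟨y, hy⟩)

variable (ρ) in
/-- evaluation at a vector -/
def evE (N : Subgroup G) (v : V) : env ρ N →ₗ[k] V := (LinearMap.applyₗ v).comp (env ρ N).val.toLinearMap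

@[simp] theorem evE_apply (N : Subgroup G) (v : V) (e : env ρ N) : evE ρ N v e = (e : Module.End k V) v := rfl

theorem evE_inv (N : Subgroup G) (v : V) : Inv ρ N (evE ρ N v).range := by
  rintro n hn _ ⟨e, rfl⟩
  exact ⟨⟨_, mem_env ρ hn⟩ * e, rfl⟩

theorem self_mem_evE (N : Subgroup G) (v : V) : v ∈ (evE ρ N v).range := ⟨1, rfl⟩

theorem Inv.evE_le {N : Subgroup G} {W : Submodule k V} (h : Inv ρ N W) {v : V} (hv : v ∈ W) :
    (evE ρ N v).range ≤ W := by
  rintro _ ⟨e, rfl⟩; exact h.env e.2 v hv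

variable [Finite V]

instance finite_End : Finite (Module.End k V) := Finite.of_injective _ (DFunLike.coe_injective (F := Module.End k V))

theorem SRg.card_dvd {N : Subgroup G} (h : SRg ρ N) {W : Submodule k V} (hW : Inv ρ N W) :
    Nat.card N ∣ Nat.card W - 1 := by
  letI : MulAction N {v : W // v ≠ 0} :=
    { smul := fun n v => ⟨⟨ρ n v.1, hW n n.2 _ v.1.2⟩, fun e => v.2 (Subtype.ext (by
        simpa using congrArg Subtype.val e))⟩
      one_smul := fun v => Subtype.ext (Subtype.ext (rho_one ρ _))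
      mul_smul := fun a b v => Subtype.ext (Subtype.ext (rho_mul ρ _ _ _)) }
  have hd := H02.card_dvd_of_free (A := N) (X := {v : W // v ≠ 0}) fun a v e =>
    Subtype.ext (h a a.2 v.1 (fun e => v.2 (Subtype.ext e)) (congrArg (fun x => (x.1 : V)) e))
  classical
  haveI := Fintype.ofFinite W
  rwa [Nat.card_eq_fintype_card (α := {v : W // v ≠ 0}), Fintype.card_subtype_compl, Fintype.card_subtype_eq,
    ← Nat.card_eq_fintype_card] at hd

theorem SRg.isFC [Nontrivial V] {N : Subgroup G} (h : SRg ρ N) : IsFC N :=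
  IsFC.of_lin (ρ.comp N.subtype) fun v hv g e => Subtype.ext (h g g.2 v hv e)

omit [Finite V] in
theorem domain_field {E : Subalgebra k (Module.End k V)} [Finite E] [Nontrivial V]
    (h : ∀ e ∈ E, ∀ v, v ≠ 0 → e v = 0 → e = 0) : IsField E := by
  haveI : NoZeroDivisors E := ⟨fun {a b} e => by
    by_contra hc
    push Not at hc
    refine hc.2 (Subtype.ext (LinearMap.ext fun v => ?_))
    by_contra hv
    exact hc.1 (Subtype.ext (h a a.2 _ hv (congrArg (fun x : E => (x : Module.End k V) v) e)))⟩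
  haveI := NoZeroDivisors.to_isDomain E
  exact Finite.isDomain_to_isField E

/-- Schur's lemma -/
theorem Irr.cent [Nontrivial V] {N : Subgroup G} (h : Irr ρ N) (hρ : Function.Injective ρ) :
    (∀ a ∈ centralizer (N : Set G), ∀ b ∈ centralizer (N : Set G), a * b = b * a) ∧ SRg ρ (centralizer (N : Set G)) := by
  have key : ∀ e ∈ Subalgebra.centralizer k (fE ρ '' N), ∀ v, v ≠ 0 → e v = 0 → e = 0 := fun e he v hv h0 => by
    rcases h (LinearMap.ker e) (fun n hn w hw => by
      have := congrArg (fun x : Module.End k V => x w) (he _ ⟨n, hn, rfl⟩)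
      simpa [LinearMap.mem_ker.1 hw] using this.symm) with h1 | h1
    · exact (hv (by rw [← Submodule.mem_bot k, ← h1]; exact h0)).elim
    · exact LinearMap.ker_eq_top.1 h1
  have mem : ∀ a ∈ centralizer (N : Set G), fE ρ a ∈ Subalgebra.centralizer k (fE ρ '' N) := by
    rintro a ha _ ⟨n, hn, rfl⟩
    rw [← map_mul, ha n hn, map_mul]
  refine ⟨fun a ha b hb => hρ (LinearEquiv.ext fun v => ?_), fun a ha v hv e => hρ (LinearEquiv.ext fun w => ?_)⟩
  · have := congrArg (fun x => (Subtype.val x : Module.End k V) v) ((domain_field key).mul_comm ⟨_, mem a ha⟩ ⟨_, mem b hb⟩)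
    simpa [rho_mul] using this
  · have := key _ (sub_mem (mem a ha) (one_mem _)) v hv (by simp [e])
    simpa [sub_eq_zero] using congrArg (fun x : Module.End k V => x w) this

namespace Tr
variable (h : Tr ρ)
include h

theorem card_evE (N : Subgroup G) [N.Normal] {v w : V} (hv : v ≠ 0) (hw : w ≠ 0) :
    Nat.card (evE ρ N v).range = Nat.card (evE ρ N w).range := by
  have key : ∀ v w : V, v ≠ 0 → w ≠ 0 → Nat.card (evE ρ N v).range ≤ Nat.card (evE ρ N w).range := fun v w hv hw => by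
    obtain ⟨g, rfl⟩ := h v w hv hw
    refine Nat.card_le_card_of_injective (fun x => ⟨ρ g x, ?_⟩) fun x y e => Subtype.ext ((ρ g).injective
      (congrArg Subtype.val e))
    obtain ⟨_, e, rfl⟩ := x
    exact ⟨⟨_, conj_mem_env g e.2⟩, by simp⟩
  exact le_antisymm (key v w hv hw) (key w v hw hv)

theorem evE_eq (N : Subgroup G) [N.Normal] {v w : V} (hv : v ≠ 0) (hw : w ≠ 0) (e : w ∈ (evE ρ N v).range) :
    (evE ρ N w).range = (evE ρ N v).range :=
  SetLike.coe_injective (Set.eq_of_subset_of_ncard_le ((evE_inv N v).evE_le e) (h.card_evE N hv hw).le)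

theorem evE_inf (N : Subgroup G) [N.Normal] {v w : V} (hv : v ≠ 0) (hw : w ≠ 0)
    (e : (evE ρ N v).range ≠ (evE ρ N w).range) : (evE ρ N v).range ⊓ (evE ρ N w).range = ⊥ := by
  rw [eq_bot_iff]
  rintro x ⟨h1, h2⟩
  by_contra h0
  exact e ((h.evE_eq N hv h0 h1).symm.trans (h.evE_eq N hw h0 h2))

theorem ker_eq (N : Subgroup G) [N.Normal] {v w : V} (hv : v ≠ 0) (hw : w ≠ 0)
    (e : (evE ρ N v).range ≠ (evE ρ N w).range) : (evE ρ N v).ker = (evE ρ N w).ker := by
  have h1 := h.evE_inf N hv hw e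
  have h2 : v + w ≠ 0 := fun e => hv (by
    rw [← Submodule.mem_bot k, ← h1]
    exact ⟨self_mem_evE N v, eq_neg_of_add_eq_zero_left e ▸ neg_mem (self_mem_evE N w)⟩)
  have key : ∀ u, u ≠ 0 → (evE ρ N (v + w)).ker ≤ (evE ρ N u).ker → (evE ρ N (v + w)).ker = (evE ρ N u).ker :=
    fun u hu hle => SetLike.coe_injective (Set.eq_of_subset_of_ncard_le hle (le_of_eq (by
      have k1 := Submodule.card_eq_card_quotient_mul_card (evE ρ N u).ker
      have k2 := Submodule.card_eq_card_quotient_mul_card (evE ρ N (v + w)).ker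
      rw [Nat.card_congr (LinearMap.quotKerEquivRange _).toEquiv] at k1 k2
      rw [h.card_evE N hu h2, k2] at k1
      exact (Nat.eq_of_mul_eq_mul_right Nat.card_pos k1).symm)))
  have k3 : ∀ x ∈ (evE ρ N (v + w)).ker, evE ρ N v x = 0 := fun x hx => by
    rw [← Submodule.mem_bot k, ← h1]
    have : evE ρ N v x + evE ρ N w x = 0 := by simpa using hx
    exact ⟨⟨x, rfl⟩, eq_neg_of_add_eq_zero_left this ▸ neg_mem ⟨x, rfl⟩⟩
  refine (key v hv k3).symm.trans (key w hw fun x hx => ?_)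
  have : evE ρ N v x + evE ρ N w x = 0 := by simpa using hx
  rwa [k3 x hx, zero_add] at this

theorem dom_of_red {N : Subgroup G} [N.Normal] (hN : ¬ Irr ρ N) : ∀ e ∈ env ρ N, ∀ v, v ≠ 0 → e v = 0 → e = 0 := by
  simp only [Irr, not_forall, not_or] at hN
  obtain ⟨W, hW, h0, h1⟩ := hN
  obtain ⟨w, hw, hw0⟩ := (Submodule.ne_bot_iff W).1 h0
  obtain ⟨u, hu⟩ : ∃ u, u ∉ W := by
    by_contra hc
    push Not at hc
    exact h1 (eq_top_iff.2 fun x _ => hc x)
  have hu0 : u ≠ 0 := fun e => hu (e ▸ W.zero_mem)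
  have k1 : (evE ρ N u).range ≠ (evE ρ N w).range := fun e => hu (hW.evE_le hw (e ▸ self_mem_evE N u))
  have k2 : ∀ v, v ≠ 0 → (evE ρ N v).ker = (evE ρ N w).ker := fun v hv => by
    by_cases e : (evE ρ N v).range = (evE ρ N w).range
    · exact (h.ker_eq N hv hu0 (e ▸ k1.symm)).trans (h.ker_eq N hu0 hw0 k1)
    · exact h.ker_eq N hv hw0 e
  intro e he v hv hev
  refine LinearMap.ext fun x => ?_
  by_cases hx : x = 0
  · simp [hx]
  · have : (⟨e, he⟩ : env ρ N) ∈ (evE ρ N x).ker := by rw [k2 x hx, ← k2 v hv]; exact hev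
    exact this

theorem irr_of_not_comm [Nontrivial V] (hρ : Function.Injective ρ) {N : Subgroup G} [N.Normal]
    (hN : ¬ IsMulCommutative N) : Irr ρ N := by
  by_contra hc
  refine hN ⟨⟨fun a b => Subtype.ext (hρ (LinearEquiv.ext fun v => ?_))⟩⟩
  have := congrArg (fun x => (Subtype.val x : Module.End k V) v)
    ((domain_field (h.dom_of_red hc)).mul_comm ⟨_, mem_env ρ a.2⟩ ⟨_, mem_env ρ b.2⟩)
  simpa [rho_mul] using this

theorem dom_of_comm {N : Subgroup G} [N.Normal] (hN : ∀ a ∈ N, ∀ b ∈ N, a * b = b * a) :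
    ∀ e ∈ env ρ N, ∀ v, v ≠ 0 → e v = 0 → e = 0 := by
  by_cases hI : Irr ρ N
  · intro e he v hv h0
    rcases hI (LinearMap.ker e) (fun n hn w hw => by
      have := congrArg (fun x : Module.End k V => x w) (env_comm hN he (mem_env ρ hn))
      simpa [LinearMap.mem_ker.1 hw] using this) with h1 | h1
    · exact (hv (by rw [← Submodule.mem_bot k, ← h1]; exact h0)).elim
    · exact LinearMap.ker_eq_top.1 h1
  · exact h.dom_of_red hI

theorem srg_of_comm (hρ : Function.Injective ρ) {N : Subgroup G} [N.Normal] (hN : ∀ a ∈ N, ∀ b ∈ N, a * b = b * a) :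
    SRg ρ N := fun a ha v hv e => hρ (LinearEquiv.ext fun w => by
  have := h.dom_of_comm hN _ (sub_mem (mem_env ρ ha) (one_mem _)) v hv (by simp [e])
  simpa [sub_eq_zero] using congrArg (fun x : Module.End k V => x w) this)

theorem isCyclic_of_comm [Finite G] [Nontrivial V] (hρ : Function.Injective ρ) {N : Subgroup G} [N.Normal]
    (hN : ∀ a ∈ N, ∀ b ∈ N, a * b = b * a) : IsCyclic N :=
  (h.srg_of_comm hρ hN).isFC.isCyclic_aux (Or.inl ⟨⟨fun a b => Subtype.ext (hN a a.2 b b.2)⟩⟩)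

theorem card_dvd [Nontrivial V] : Nat.card V - 1 ∣ Nat.card G := by
  letI : MulAction G V := { smul := fun g v => ρ g v, one_smul := rho_one ρ, mul_smul := rho_mul ρ }
  obtain ⟨v, hv⟩ := exists_ne (0 : V)
  have h1 : MulAction.orbit G v = {0}ᶜ := by
    ext w
    exact ⟨by rintro ⟨g, rfl⟩; exact (ρ g).map_ne_zero_iff.2 hv, fun hw => h v w hv hw⟩
  have h2 := (MulAction.stabilizer G v).index_dvd_card
  rwa [MulAction.index_stabilizer, h1, Set.ncard_compl, Set.ncard_singleton] at h2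

theorem card_eq [Nontrivial V] [Finite G] (hs : SRg ρ ⊤) : Nat.card G = Nat.card V - 1 := by
  refine Nat.dvd_antisymm ?_ h.card_dvd
  have := hs.card_dvd (W := ⊤) fun _ _ _ _ => trivial
  rwa [card_top, Nat.card_congr Submodule.topEquiv.toEquiv] at this

theorem semilinear [Nontrivial V] {A : Subgroup G} [A.Normal] (hA : ∀ a ∈ A, ∀ b ∈ A, a * b = b * a) (hI : Irr ρ A) :
    ∃ (F : Type) (_ : Field F) (_ : Fintype F) (e : V ≃+ F),
      ∀ g : G, ∃ (a : F) (σ : F ≃+* F), ∀ v : V, e (ρ g v) = a * σ (e v) := by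
  have hd := h.dom_of_comm hA
  letI := (domain_field hd).toField
  obtain ⟨v, hv⟩ := exists_ne (0 : V)
  have hb : Function.Bijective (evE ρ A v) := ⟨(injective_iff_map_eq_zero _).2 fun e he => Subtype.ext (hd e e.2 v hv he),
    LinearMap.range_eq_top.1 ((hI _ (evE_inv A v)).resolve_left fun e => hv (by
      rw [← Submodule.mem_bot k, ← e]; exact self_mem_evE A v))⟩
  let e := (LinearEquiv.ofBijective _ hb).symm
  have he : ∀ x : env ρ A, e ((x : Module.End k V) v) = x := fun x => e.apply_symm_apply x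
  let r : Shrink.{0} (env ρ A) ≃+* env ρ A := Shrink.ringEquiv _
  refine ⟨Shrink.{0} (env ρ A), inferInstance, Fintype.ofFinite _, e.toAddEquiv.trans r.symm.toAddEquiv, fun g => ?_⟩
  have h1 : ∀ g : G, fE ρ g⁻¹ * fE ρ g = 1 := fun g => by rw [← map_mul, inv_mul_cancel, map_one]
  let σ : env ρ A ≃+* env ρ A :=
    { toFun := fun x => ⟨_, conj_mem_env g x.2⟩
      invFun := fun x => ⟨_, conj_mem_env g⁻¹ x.2⟩
      left_inv := fun x => Subtype.ext (LinearMap.ext fun w => by simp)
      right_inv := fun x => Subtype.ext (LinearMap.ext fun w => by simp)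
      map_mul' := fun x y => Subtype.ext (LinearMap.ext fun w => by simp)
      map_add' := fun x y => Subtype.ext (LinearMap.ext fun w => by simp) }
  refine ⟨r.symm (e (ρ g v)), (r.trans σ).trans r.symm, fun w => ?_⟩
  obtain ⟨x, rfl⟩ := hb.2 w
  obtain ⟨a, ha⟩ := hb.2 (ρ g v)
  have k1 : e (ρ g (evE ρ A v x)) = e (ρ g v) * σ (e (evE ρ A v x)) := by
    rw [evE_apply] at ha
    rw [evE_apply, he, ← ha, he, mul_comm, ← he (σ x * a)]
    congr 1
    simp [σ, ha]
  simp only [AddEquiv.trans_apply, RingEquiv.trans_apply, LinearEquiv.coe_toAddEquiv, RingEquiv.toAddEquiv_eq_coe,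
    RingEquiv.coe_toAddEquiv, RingEquiv.apply_symm_apply, ← map_mul]
  exact congrArg r.symm k1

/-- a reducible abelian normal subgroup -/
theorem red [Finite G] (hρ : Function.Injective ρ) {A : Subgroup G} [A.Normal] (hA : ∀ a ∈ A, ∀ b ∈ A, a * b = b * a)
    (hI : ¬ Irr ρ A) : ∃ W : Submodule k V, W ≠ ⊥ ∧ W ≠ ⊤ ∧ Inv ρ A W ∧ (∀ W' ≤ W, Inv ρ A W' → W' = ⊥ ∨ W' = W) ∧
      Nat.card A ∣ Nat.card W - 1 ∧ A < centralizer (A : Set G) := by
  simp only [Irr, not_forall, not_or] at hI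
  obtain ⟨W, hW, h0, h1⟩ := hI
  obtain ⟨w, hw, hw0⟩ := (Submodule.ne_bot_iff W).1 h0
  haveI : Nontrivial V := ⟨w, 0, hw0⟩
  obtain ⟨u, hu⟩ : ∃ u, u ∉ W := by
    by_contra hc
    push Not at hc
    exact h1 (eq_top_iff.2 fun x _ => hc x)
  have hu0 : u ≠ 0 := fun e => hu (e ▸ W.zero_mem)
  have k1 : (evE ρ A u).range ≠ (evE ρ A w).range := fun e => hu (hW.evE_le hw (e ▸ self_mem_evE A u))
  have k2 := (h.srg_of_comm hρ hA).card_dvd (evE_inv A w)
  have k0 : (evE ρ A w).range ≠ ⊥ := fun e => hw0 (by rw [← Submodule.mem_bot k, ← e]; exact self_mem_evE A w)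
  refine ⟨_, k0, fun e => h1 (eq_top_iff.2 (e ▸ hW.evE_le hw)), evE_inv A w, fun W' h2 h3 => ?_, k2,
    lt_of_le_of_ne (fun a ha b hb => hA b hb a ha) fun e => ?_⟩
  · refine or_iff_not_imp_left.2 fun h4 => le_antisymm h2 ?_
    obtain ⟨x, hx, hx0⟩ := (Submodule.ne_bot_iff W').1 h4
    exact h.evE_eq A hw0 hx0 (h2 hx) ▸ h3.evE_le hx
  · haveI := h.isCyclic_of_comm hρ hA
    have k3 : Nat.card (evE ρ A w).range * Nat.card (evE ρ A w).range ≤ Nat.card V := by
      nth_rewrite 1 [← h.card_evE A hu0 hw0]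
      rw [← Nat.card_prod]
      refine Nat.card_le_card_of_injective (fun x => (x.1 : V) + x.2) ?_
      rintro ⟨a, b⟩ ⟨c, d⟩ e
      have e' : (a : V) + b = c + d := e
      have : (a : V) - c ∈ (evE ρ A u).range ⊓ (evE ρ A w).range :=
        ⟨sub_mem a.2 c.2, by rw [show (a : V) - c = d - b by linear_combination (norm := abel) e']; exact sub_mem d.2 b.2⟩
      rw [h.evE_inf A hu0 hw0 k1, Submodule.mem_bot, sub_eq_zero] at this
      exact Prod.ext (Subtype.ext this) (Subtype.ext (by rwa [this, add_right_inj] at e'))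
    have k4 : A.index ≤ Nat.card A := by
      have : (MulAut.conjNormal : G →* MulAut A).ker = A := by
        refine le_antisymm (fun g hg => e.ge fun x hx => ?_) fun g hg => MulEquiv.ext fun x => Subtype.ext ?_
        · have : g * x * g⁻¹ = x := congrArg Subtype.val (MulEquiv.congr_fun hg ⟨x, hx⟩)
          exact (mul_inv_eq_iff_eq_mul.1 this).symm
        · exact mul_inv_eq_iff_eq_mul.2 (hA g hg x x.2)
      rw [← this, index_ker, this]
      exact (card_le_card_group _).trans ((IsCyclic.card_mulAut A).le.trans (Nat.totient_le _))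
    have k5 := Nat.le_of_dvd Nat.card_pos h.card_dvd
    have k6 : 1 < Nat.card (evE ρ A w).range := by
      haveI := Submodule.nontrivial_iff_ne_bot.2 k0
      exact Finite.one_lt_card
    have k7 := Nat.le_of_dvd (by omega) k2
    rw [← A.card_mul_index] at k5
    generalize Nat.card (evE ρ A w).range = s at *
    obtain ⟨s, rfl⟩ := Nat.exists_eq_add_of_lt k6
    have k8 : Nat.card A * A.index ≤ (s + 1) * (s + 1) := Nat.mul_le_mul (by omega) (by omega)
    have : (1 + s + 1) * (1 + s + 1) = (s + 1) * (s + 1) + 2 * s + 3 := by ring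
    omega

end Tr

/-- a quaternion group splits the space into two halves -/
theorem q8_sq {p : ℕ} [Fact p.Prime] [Module (ZMod p) V] (ρ : G →* (V ≃ₗ[ZMod p] V)) (hp : p ≠ 2) {i j : G}
    (hi : ∀ v, ρ (i * i) v = -v) (hj : ∀ v, ρ (j * j) v = -v) (hij : ∀ v, ρ (j * i) v = -ρ (i * j) v) :
    ∃ U : Submodule (ZMod p) V, Nat.card V = Nat.card U ^ 2 ∧ Inv ρ (centralizer {i, j}) U := by
  obtain ⟨a, b, hab⟩ := ZMod.sq_add_sq p (-1)
  have h2 : (2 : ZMod p) ≠ 0 := by
    have := (ZMod.natCast_eq_zero_iff 2 p).not.2 fun e =>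
      hp ((Nat.prime_dvd_prime_iff_eq Fact.out Nat.prime_two).1 e)
    exact_mod_cast this
  simp only [rho_mul] at hi hj hij
  let s : Module.End (ZMod p) V := a • fE ρ i + b • fE ρ j
  have hs : ∀ v, s v = a • ρ i v + b • ρ j v := fun v => rfl
  have s2 : ∀ v, s (s v) = v := fun v => by
    simp only [hs, map_add, map_smul, hi, hj, hij]
    have := congrArg (· • v) hab
    linear_combination (norm := module) -this
  have sk : ∀ v, s (ρ i (ρ j v)) = -ρ i (ρ j (s v)) := fun v => by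
    simp only [hs, map_add, map_smul, hi, hj, hij, map_neg]; module
  refine ⟨LinearMap.ker (s - 1), ?_, fun c hc v hv => ?_⟩
  · have hU : ∀ v, v ∈ LinearMap.ker (s - 1) ↔ s v = v := fun v => by simp [sub_eq_zero]
    rw [pow_two, ← Nat.card_prod]
    refine (Nat.card_eq_of_bijective (fun x => (x.1 : V) + ρ i (ρ j x.2)) ⟨?_, fun v => ?_⟩).symm
    · rintro ⟨x, y⟩ ⟨z, w⟩ e
      have e1 : (x : V) + ρ i (ρ j y) = z + ρ i (ρ j w) := e
      have e2 := congrArg s e1
      rw [map_add, map_add, sk, sk, (hU _).1 x.2, (hU _).1 y.2, (hU _).1 z.2, (hU _).1 w.2] at e2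
      have e3 : (x : V) = z := smul_right_injective V h2 (by linear_combination (norm := module) e1 + e2)
      rw [e3, add_right_inj] at e1
      exact Prod.ext (Subtype.ext e3) (Subtype.ext ((ρ j).injective ((ρ i).injective e1)))
    · refine ⟨(⟨(2 : ZMod p)⁻¹ • (v + s v), (hU _).2 ?_⟩, ⟨(2 : ZMod p)⁻¹ • -ρ i (ρ j (v - s v)), (hU _).2 ?_⟩), ?_⟩
      · rw [map_smul, map_add, s2, add_comm]
      · rw [map_smul, map_neg, sk, map_sub s, s2, ← neg_sub, map_neg, map_neg, neg_neg]
      · refine smul_right_injective V h2 ?_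
        simp only [map_smul, map_neg, hij, hi, hj, smul_add, smul_inv_smul₀ h2]
        module
  · have ci : ∀ v, ρ i (ρ c v) = ρ c (ρ i v) := fun v => by rw [← rho_mul, hc i (by simp), rho_mul]
    have cj : ∀ v, ρ j (ρ c v) = ρ c (ρ j v) := fun v => by rw [← rho_mul, hc j (by simp), rho_mul]
    have : s v = v := by simpa [sub_eq_zero] using hv
    simp only [LinearMap.mem_ker, LinearMap.sub_apply, Module.End.one_apply, sub_eq_zero, hs, ci, cj]
    rw [← map_smul (ρ c), ← map_smul (ρ c), ← map_add, ← hs, this]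

end H18
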