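import Mathlib
import Cfsg.Agent.H18.FC6
import Cfsg.Agent.H05.Values
import Cfsg.Agent.H04.Class2

/-!
# Huppert's theorem on solvable transitive linear groups, tools (helper18)

* `sympl_char` : dimension formulas for a group of symplectic type acting in coprime characteristic;
* `Tr.count`, `sq_count`, the arithmetic lemmas `arith_odd`, `arith_two`, `arith_four`;
* `MinN` : a minimal non-abelian normal subgroup centralising a maximal abelian normal subgroup.
-/

set_option autoImplicit false

namespace H18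
open Subgroup Cfsg Module
open scoped commutatorElement

theorem sympl_char {N V : Type*} [Group N] [Finite N] {q r : ℕ} [Fact q.Prime] (hr : r.Prime) [AddCommGroup V]
    [Module (ZMod q) V] [Finite V] [Nontrivial V] (σ : Representation (ZMod q) N V) (hq : ¬ q ∣ Nat.card N)
    (hc : ∀ x, x ∉ center N → ∃ y c, c ∈ center N ∧ y * x * y⁻¹ = c * x ∧ ∀ v, σ c v = v → v = 0) :
    Nat.card N ≤ Nat.card (center N) * finrank (ZMod q) V ^ 2 ∧
    ∀ x, x ∉ center N → orderOf x = r → finrank (ZMod q) V = r * finrank (ZMod q) (LinearMap.ker (σ x - 1)) := by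
  classical
  obtain ⟨χ, hχ, hf⟩ := H24.exists_character_of_zmod_rep hq σ
  have fix : ∀ (x : N) (v : V), σ x v = v → ∀ h ∈ zpowers x, σ h v = v := fun x v hv h hh => by
    obtain ⟨m, rfl⟩ := mem_powers_iff_mem_zpowers.2 hh
    clear hh
    beta_reduce
    induction m with
    | zero => simp
    | succ m ih => rw [pow_succ, map_mul, Module.End.mul_apply, hv, ih]
  have h1 : χ 1 = finrank (ZMod q) V := by
    have := hf ⊥ ⊤ (fun v => ⟨fun _ h hh => by rw [mem_bot.1 hh, map_one]; rfl, fun _ => trivial⟩)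
    simpa [Subsingleton.elim (default : (⊥ : Subgroup N)) 1] using this
  obtain ⟨n, τ, rfl⟩ := hχ
  have van : ∀ x, x ∉ center N → τ.character x = 0 := fun x hx => by
    obtain ⟨y, c, hc1, hc2, hc3⟩ := hc x hx
    haveI := Fintype.ofFinite (zpowers c)
    have k1 := hf (zpowers c) ⊥ (fun v => ⟨fun hv h _ => by rw [hv, map_zero], fun h => hc3 v (h c (mem_zpowers c))⟩)
    haveI : Invertible (Nat.card (zpowers c) : ℂ) := invertibleOfNonzero (by exact_mod_cast Nat.card_pos.ne')
    have k2 := Representation.card_inv_mul_sum_char_eq_finrank (ρ := τ.comp (zpowers c).subtype)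
    have k3 : ∑ x : zpowers c, Representation.character (τ.comp (zpowers c).subtype) x = 0 := by
      rw [finrank_bot, Nat.cast_zero, mul_zero] at k1; exact k1
    rw [k3, mul_zero, eq_comm, Nat.cast_eq_zero, Submodule.finrank_eq_zero] at k2
    have k4 : ∑ h : zpowers c, τ h = 0 := LinearMap.ext fun v => by
      rw [LinearMap.zero_apply, ← Submodule.mem_bot ℂ, ← k2, Representation.mem_invariants]
      intro g
      change τ g _ = _
      simp only [LinearMap.sum_apply, map_sum, ← Module.End.mul_apply, ← map_mul]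
      exact Fintype.sum_equiv (Equiv.mulLeft g) _ _ fun _ => rfl
    have k5 : ∀ h : zpowers c, τ.character (h * x) = τ.character x := by
      rintro ⟨h, hh⟩
      obtain ⟨m, rfl⟩ := mem_powers_iff_mem_zpowers.2 hh
      change τ.character (c ^ m * x) = _
      clear hh
      induction m with
      | zero => simp
      | succ m ih =>
        have : y * c ^ m = c ^ m * y := mem_center_iff.1 (pow_mem hc1 m) y
        rw [pow_succ, mul_assoc, ← hc2, ← mul_assoc, ← mul_assoc, ← this, mul_assoc y, Representation.char_conj, ih]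
    have k6 : ∑ h : zpowers c, τ.character (h * x) = 0 := by
      simp only [Representation.character, map_mul]
      rw [← map_sum, ← Finset.sum_mul, k4, zero_mul, map_zero]
    simpa [k5] using k6
  haveI := Fintype.ofFinite N
  refine ⟨?_, fun x hx ho => ?_⟩
  · haveI : Invertible (Nat.card N : ℂ) := invertibleOfNonzero (by exact_mod_cast Nat.card_pos.ne')
    have k1 := Representation.card_inv_mul_sum_char_mul_char_eq_finrank τ τ
    have hD : 0 < finrank (ZMod q) V := finrank_pos
    have hn : finrank ℂ (Fin n → ℂ) = finrank (ZMod q) V := by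
      rw [Representation.char_one] at h1; exact_mod_cast h1
    haveI : Nontrivial (Fin n → ℂ) := finrank_pos_iff.1 (hn ▸ hD)
    haveI : Nontrivial (Representation.IntertwiningMap τ τ) := ⟨.id τ, 0, fun e => by
      obtain ⟨v, hv⟩ := exists_ne (0 : Fin n → ℂ)
      exact hv (congrArg (fun f : Representation.IntertwiningMap τ τ => f v) e)⟩
    have k2 : 0 < finrank ℂ (Representation.IntertwiningMap τ τ) := finrank_pos
    rw [inv_mul_eq_iff_eq_mul₀ (by exact_mod_cast Nat.card_pos.ne')] at k1
    have k3 : ∑ g : N, τ.character g * τ.character g⁻¹ =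
        ∑ g ∈ Finset.univ.filter (· ∈ center N), τ.character g * τ.character g⁻¹ :=
      (Finset.sum_filter_of_ne fun g _ hg => by_contra fun e => hg (by rw [van g e, zero_mul])).symm
    have k4 := congrArg norm k1
    rw [k3, ← Nat.cast_mul, Complex.norm_natCast] at k4
    have k5 := (norm_sum_le _ _).trans (Finset.sum_le_card_nsmul (Finset.univ.filter (· ∈ center N))
      (fun g => ‖τ.character g * τ.character g⁻¹‖) ((finrank (ZMod q) V : ℝ) ^ 2) fun g _ => by
        rw [norm_mul, pow_two, ← hn]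
        exact mul_le_mul (H05.norm_character_le τ _) (H05.norm_character_le τ _) (norm_nonneg _) (Nat.cast_nonneg _))
    rw [k4, nsmul_eq_mul, ← Fintype.card_subtype, ← Nat.card_eq_fintype_card] at k5
    exact (Nat.le_mul_of_pos_right _ k2).trans (by exact_mod_cast k5)
  · have k1 := hf (zpowers x) (LinearMap.ker (σ x - 1)) (fun v =>
      ⟨fun hv => fix x v (by simpa [sub_eq_zero] using hv), fun h => by simpa [sub_eq_zero] using h x (mem_zpowers x)⟩)
    rw [Finset.sum_eq_single 1 (fun h _ h1 => van _ fun hh => hx ?_) (by simp), Nat.card_zpowers, ho] at k1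
    · exact_mod_cast h1.symm.trans k1
    · haveI := Fact.mk hr
      have : zpowers (h : N) = zpowers x := by
        refine (eq_of_le_of_card_ge (zpowers_le.2 h.2) ?_)
        rw [Nat.card_zpowers, Nat.card_zpowers, ho, orderOf_eq_prime (p := r) (by
          rw [← orderOf_dvd_iff_pow_eq_one, ← ho, ← Nat.card_zpowers x]; exact (zpowers x).orderOf_dvd_natCard h.2)
          (fun e => h1 (Subtype.ext e))]
      exact zpowers_le.2 hh (this.ge (mem_zpowers x))

theorem Tr.count {k V G : Type*} [Field k] [AddCommGroup V] [Module k V] [Group G] {ρ : G →* (V ≃ₗ[k] V)}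
    [Finite V] [Nontrivial V] (h : Tr ρ) (I : Finset G) (hI : ∀ g, ∀ x ∈ I, g * x * g⁻¹ ∈ I) {s : ℕ}
    (hs : ∀ x ∈ I, Nat.card (LinearMap.ker (fE ρ x - 1)) = s) :
    ∃ t, I.card * (s - 1) = (Nat.card V - 1) * t := by
  classical
  haveI := Fintype.ofFinite V
  obtain ⟨v₀, hv₀⟩ := exists_ne (0 : V)
  refine ⟨((I.bipartiteBelow (fun x v => ρ x v = v) v₀)).card, ?_⟩
  rw [Nat.card_eq_fintype_card, ← Finset.card_univ, ← Finset.card_erase_of_mem (Finset.mem_univ (0 : V))]
  refine Finset.card_mul_eq_card_mul (fun x v => ρ x v = v) (fun x hx => ?_) fun v hv => ?_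
  · rw [← hs x hx, Nat.card_eq_fintype_card, Fintype.card_subtype,
      ← Finset.card_erase_of_mem (a := (0 : V)) (by simp)]
    congr 1
    ext v
    simp [Finset.bipartiteAbove, sub_eq_zero]
  · obtain ⟨g, rfl⟩ := h v₀ v hv₀ (Finset.ne_of_mem_erase hv)
    refine (Finset.card_bij (fun x _ => g * x * g⁻¹) (fun x hx => ?_) (fun x _ y _ e => by simpa using e)
      fun x hx => ⟨g⁻¹ * x * g⁻¹⁻¹, ?_, by group⟩).symm
    · rw [Finset.mem_bipartiteBelow] at hx ⊢
      exact ⟨hI g x hx.1, by simp [rho_mul, hx.2]⟩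
    · rw [Finset.mem_bipartiteBelow] at hx ⊢
      exact ⟨hI _ x hx.1, by simp [rho_mul, hx.2]⟩

theorem sq_count {N : Type*} [Group N] [Fintype N] [DecidableEq N] {z : N} (hz : z ∈ center N) (hz2 : z * z = 1)
    (hz1 : z ≠ 1) (hs : ∀ x : N, x * x = 1 ∨ x * x = z) (hc : ∀ x y : N, y * x = x * y ∨ y * x = z * (x * y))
    [DecidablePred (· ∈ center N)] :
    (2 * ((Finset.univ.filter fun x : N => x * x = 1).card : ℤ) - Fintype.card N) ^ 2 =
      Fintype.card N * ∑ u ∈ Finset.univ.filter (· ∈ center N), (if u * u = 1 then (1 : ℤ) else -1) := by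
  let ε : N → ℤ := fun x => if x * x = 1 then 1 else -1
  let β : N → N → ℤ := fun x y => if y * x = x * y then 1 else -1
  have hzc : ∀ x, x * z = z * x := mem_center_iff.1 hz
  have e1 : ∀ x, ε x * ε x = 1 := fun x => by simp only [ε]; split_ifs <;> rfl
  have e2 : ∀ x y, ε (x * y) = ε x * ε y * β x y := fun x y => by
    have k : ∀ c, y * x = c * (x * y) → (∀ x, x * c = c * x) → x * y * (x * y) = c * (x * x * (y * y)) := fun c h1 h2 => by
      rw [mul_assoc, ← mul_assoc y, h1, ← mul_assoc x, ← mul_assoc x, h2]; simp only [mul_assoc]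
    simp only [ε, β]
    by_cases h : y * x = x * y
    · rw [k 1 (by rwa [one_mul]) (by simp), if_pos h]
      rcases hs x with h1 | h1 <;> rcases hs y with h2 | h2 <;> simp [h1, h2, hz1, hz2]
    · rw [k z ((hc x y).resolve_left h) hzc, if_neg h]
      rcases hs x with h1 | h1 <;> rcases hs y with h2 | h2 <;> simp [h1, h2, hz1, hz2]
  have e3 : ∀ u, ∑ x, β x u = if u ∈ center N then (Fintype.card N : ℤ) else 0 := fun u => by
    split_ifs with hu
    · simp [β, (mem_center_iff.1 hu _).symm]
    · obtain ⟨y, hy⟩ : ∃ y, ¬ y * u = u * y := by simpa [mem_center_iff] using hu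
      have k1 : u * y = z * (y * u) := (hc y u).resolve_left fun e => hy e.symm
      have k2 : ∀ x, β (x * y) u = -β x u := fun x => by
        simp only [β]
        rcases hc x u with h | h
        · rw [if_pos h, if_neg]
          rw [← mul_assoc, h, mul_assoc, mul_assoc, mul_right_inj]; exact fun e => hy e.symm
        · have : ¬ u * x = x * u := by rw [h]; simpa using hz1
          rw [if_neg this, if_pos, neg_neg]
          rw [← mul_assoc, h, mul_assoc, mul_assoc, k1, ← mul_assoc x z, hzc, mul_assoc, ← mul_assoc z z, hz2]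
          simp [mul_assoc]
      have := Fintype.sum_equiv (Equiv.mulRight y) (fun x => β (x * y) u) (fun x => β x u) fun _ => rfl
      simp only [k2, Finset.sum_neg_distrib] at this
      omega
  have e4 : ∑ x, ε x = 2 * ((Finset.univ.filter fun x : N => x * x = 1).card : ℤ) - Fintype.card N := by
    have := Finset.card_filter_add_card_filter_not (s := Finset.univ) (fun x : N => x * x = 1)
    simp only [ε, Finset.sum_ite, Finset.sum_const, Finset.card_univ] at this ⊢
    simp only [nsmul_eq_mul]; omega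
  rw [← e4, pow_two, Finset.sum_mul_sum]
  calc _ = ∑ x, ∑ u, ε u * β x u := Finset.sum_congr rfl fun x _ => by
        rw [← Fintype.sum_equiv (Equiv.mulLeft x) (fun u => ε x * ε (x * u)) _ fun _ => rfl]
        exact Finset.sum_congr rfl fun u _ => by rw [e2, ← mul_assoc, ← mul_assoc, e1, one_mul]
    _ = _ := by
        rw [Finset.sum_comm]
        simp only [← Finset.mul_sum, e3, mul_ite, mul_zero, ← Finset.sum_filter]
        rw [← Finset.sum_mul, mul_comm]

theorem pow_ge_aux (a c b : ℕ) (h : ∀ n, c ≤ n → b * (n + 1) ^ 2 ≤ a * (b * n ^ 2)) (h0 : b * c ^ 2 < a ^ c)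
    (ha : 0 < a) : ∀ e, c ≤ e → b * e ^ 2 < a ^ e := fun e he => by
  induction e, he using Nat.le_induction with
  | base => exact h0
  | succ n hn ih => rw [pow_succ a]; exact (h n hn).trans_lt (by rw [mul_comm]; exact Nat.mul_lt_mul_of_pos_right ih ha)

theorem arith_odd {q r e j t : ℕ} (hq : q.Prime) (hr : r.Prime) (h2 : r ≠ 2) (he : 0 < e) (hj : 0 < j)
    (hd : r ∣ q ^ e - 1) (hn : r ^ j ≤ (r * e) ^ 2)
    (h : (r * r ^ j - r) * (q ^ e - 1) = ((q ^ e) ^ r - 1) * t) : False := by
  have hq2 := hq.two_le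
  have s1 : 2 ^ e ≤ q ^ e := Nat.pow_le_pow_left hq2 e
  have s0 : e < 2 ^ e := Nat.lt_two_pow_self
  have s2 : r + 1 ≤ q ^ e := by have := Nat.le_of_dvd (by omega) hd; omega
  have hr3 : 3 ≤ r := by have := hr.two_le; omega
  have n1 : 1 < r ^ j := Nat.one_lt_pow hj.ne' hr.one_lt
  have key : ∀ s n, 2 ≤ s → 1 < n → (r * n - r) * (s - 1) = (s ^ r - 1) * t →
      r * n = r + (∑ i ∈ Finset.range r, s ^ i) * t ∧ 0 < t := fun s n hs hn h => by
    have k1 := Nat.geomSum_eq hs r
    have k2 : s - 1 ∣ s ^ r - 1 := by simpa using Nat.sub_dvd_pow_sub_pow s 1 r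
    rw [← Nat.div_mul_cancel k2, ← k1, mul_right_comm] at h
    have k3 := Nat.eq_of_mul_eq_mul_right (by omega) h
    have k4 : r < r * n := by nlinarith
    refine ⟨by omega, Nat.pos_of_ne_zero ?_⟩
    rintro rfl
    omega
  obtain ⟨k1, k2⟩ := key _ _ (by omega) n1 h
  have k3 : (q ^ e) ^ (r - 1) < r ^ 3 * e ^ 2 := by
    have : (q ^ e) ^ (r - 1) ≤ ∑ i ∈ Finset.range r, (q ^ e) ^ i :=
      Finset.single_le_sum (f := fun i => (q ^ e) ^ i) (fun _ _ => Nat.zero_le _) (Finset.mem_range.2 (by omega))
    nlinarith [Nat.le_mul_of_pos_right (∑ i ∈ Finset.range r, (q ^ e) ^ i) k2]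
  by_cases r3 : r = 3
  · subst r3
    have e5 : e < 5 := by
      by_contra hc
      have := pow_ge_aux 4 5 27 (fun n hn => by nlinarith) (by norm_num) (by norm_num) e (by omega)
      have h4 : 4 ^ e = (2 ^ e) ^ 2 := by rw [← pow_mul, mul_comm, pow_mul]; rfl
      have := Nat.pow_le_pow_left s1 2
      simp only [Nat.add_one_sub_one] at k3
      omega
    have j5 : j < 5 := by
      by_contra hc
      have := Nat.pow_le_pow_right (n := 3) (by norm_num) (not_lt.1 hc)
      nlinarith
    simp only [Finset.sum_range_succ, Finset.sum_range_zero, Nat.add_one_sub_one] at k1 k3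
    have q6 : q < 6 := by
      by_contra hc
      have := Nat.pow_le_pow_left (Nat.pow_le_pow_left (not_lt.1 hc) e) 2
      interval_cases e <;> omega
    interval_cases q <;> interval_cases e <;> first | omega | (norm_num at hq; done) | (interval_cases j <;> omega)
  generalize q ^ e = s at *
  by_cases r5 : r = 5
  · subst r5
    have : 2 * e ≤ 2 ^ e := by
      obtain ⟨e, rfl⟩ := Nat.exists_eq_succ_of_ne_zero he.ne'
      have : e < 2 ^ e := Nat.lt_two_pow_self
      rw [pow_succ]; omega
    have k4 : 6 ^ 2 * (2 * e) ^ 2 ≤ s ^ 2 * s ^ 2 :=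
      Nat.mul_le_mul (Nat.pow_le_pow_left s2 2) (Nat.pow_le_pow_left (by omega) 2)
    simp only [Nat.add_one_sub_one] at k3
    nlinarith
  · have r7 : 5 ≤ r - 1 := by
      have : r ≠ 4 := by rintro rfl; norm_num at hr
      omega
    have k4 : r ^ 3 * e ^ 2 ≤ s ^ 3 * s ^ 2 :=
      Nat.mul_le_mul (Nat.pow_le_pow_left (by omega) 3) (Nat.pow_le_pow_left (by omega) 2)
    have k5 := Nat.pow_le_pow_right (n := s) (by omega) r7
    rw [← pow_add] at k4
    exact absurd (k4.trans k5) (not_le.2 k3)

theorem arith_two {q e j S t : ℕ} (hq : q.Prime) (h2 : q ≠ 2) (he : 0 < e) (hS : 2 < S)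
    (hn : 2 ^ j ≤ (2 * e) ^ 2) (h : S - 2 = (q ^ e + 1) * t)
    (hs : ((S : ℤ) - 2 ^ j) ^ 2 = 2 ^ j ∨ S = 2 * 2 ^ j) : (q ^ e) ^ 2 ∈ ({9, 25, 49, 121, 529, 81} : Set ℕ) := by
  have hq3 : 3 ≤ q := by have := hq.two_le; omega
  have s1 : 3 ^ e ≤ q ^ e := Nat.pow_le_pow_left hq3 e
  have t0 : 0 < t := Nat.pos_of_ne_zero (by rintro rfl; omega)
  have k1 : q ^ e + 3 ≤ S := by have := Nat.le_mul_of_pos_right (q ^ e + 1) t0; omega
  have k2 : S ≤ 2 * 2 ^ j := by
    rcases hs with hs | hs
    · by_contra hc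
      have : (2 : ℤ) * 2 ^ j < S := by exact_mod_cast not_le.1 hc
      have : (0 : ℤ) < 2 ^ j := by positivity
      nlinarith
    · omega
  have e5 : e < 5 := by
    by_contra hc
    have := pow_ge_aux 3 5 8 (fun n hn => by nlinarith) (by norm_num) (by norm_num) e (by omega)
    nlinarith
  have j7 : j < 7 := by
    by_contra hc
    have := Nat.pow_le_pow_right (n := 2) (by norm_num) (not_lt.1 hc)
    nlinarith
  have q6 : q < 6 := by
    by_contra hc
    have := Nat.pow_le_pow_left (not_lt.1 hc) e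
    interval_cases e <;> omega
  have hs' : (∃ m : ℕ, m ^ 2 = 2 ^ j ∧ S ≤ 2 ^ j + m) ∨ S = 2 * 2 ^ j := hs.imp_left fun hs =>
    ⟨((S : ℤ) - 2 ^ j).natAbs, by zify; rwa [sq_abs], by zify; linarith [le_abs_self ((S : ℤ) - 2 ^ j)]⟩
  simp only [Set.mem_insert_iff, Set.mem_singleton_iff]
  rcases hs' with ⟨m, h1, h3⟩ | rfl
  · have m9 : m < 9 := by nlinarith [Nat.pow_le_pow_right (n := 2) (by norm_num) (Nat.le_of_lt_succ j7)]
    interval_cases q <;> interval_cases e <;>
      first | omega | (norm_num at hq; done) | (interval_cases j <;> interval_cases m <;> omega)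
  · interval_cases q <;> interval_cases e <;> first | omega | (norm_num at hq; done) | (interval_cases j <;> omega)

end H18
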