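import Mathlib
import Cfsg.Agent.H18.FC7

/-!
# Huppert's theorem on solvable transitive linear groups (helper18)

* `CS N` (proper characteristic subgroups are central), `MinN A N`, `exists_maxA`, `exists_minN`;
* `IsFC.q8_of_class_two`, `q8_card`, `Tr.huppert`.
-/

set_option autoImplicit false

namespace H18
open Subgroup Cfsg Module
open scoped commutatorElement

/-- proper characteristic subgroups are central -/
def CS (N : Type*) [Group N] : Prop := ∀ K : Subgroup N, K.Characteristic → K = ⊤ ∨ K ≤ center N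

namespace CS
variable {N : Type*} [Group N] (h : CS N) (hp : commutator N ≠ ⊤)
include h hp

theorem comm_mem (x y : N) : ⁅x, y⁆ ∈ center N :=
  (h _ inferInstance).resolve_left hp (commutator_mem_commutator trivial trivial)

theorem pgroup [Finite N] (hna : ¬ IsMulCommutative N) : ∃ r : ℕ, r.Prime ∧ IsPGroup r N := by
  haveI : Group.IsNilpotent N := (Subgroup.nilpotent_iff_lowerCentralSeries).2 ⟨2, by
    rw [eq_bot_iff]
    refine commutator_le.2 fun a ha b _ => ?_
    exact commutatorElement_eq_one_iff_mul_comm.2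
      (mem_center_iff.1 ((h _ inferInstance).resolve_left hp (by simpa [_root_.commutator] using ha)) b).symm⟩
  by_contra hc
  push Not at hc
  refine hna ⟨⟨fun a b => mem_center_iff.1 ((show (⊤ : Subgroup N) ≤ center N from ?_) (mem_top b)) a⟩⟩
  rw [← H02.iSup_pCore_eq_top N, iSup_le_iff]
  rintro ⟨p, hp'⟩
  refine (h _ inferInstance).resolve_left fun e => hc p hp' ?_
  haveI := Fact.mk hp'
  exact (e ▸ H02.pCore_isPGroup p N : IsPGroup p (⊤ : Subgroup N)).of_equiv topEquiv

theorem pow_mem {r : ℕ} [Fact r.Prime] (hr : IsPGroup r N) (hna : ¬ IsMulCommutative N) (x : N) : x ^ r ∈ center N := by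
  let M : Subgroup N :=
    { carrier := {x | x ^ r ∈ center N}
      one_mem' := by simp
      inv_mem' := fun {x} hx => by rw [Set.mem_setOf_eq, inv_pow]; exact inv_mem hx
      mul_mem' := fun {x y} hx hy => by
        rw [Set.mem_setOf_eq, H04.mul_pow_eq_of_commute (H04.commute_of_mem_center (h.comm_mem hp y x) _)
          (H04.commute_of_mem_center (h.comm_mem hp y x) _)]
        exact mul_mem (mul_mem hx hy) (Subgroup.pow_mem _ (h.comm_mem hp y x) _) }
  have : M.Characteristic := characteristic_iff_le_comap.2 fun φ x hx => by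
    change φ x ^ r ∈ center N
    rw [← map_pow]
    exact characteristic_iff_le_comap.1 (inferInstance : (center N).Characteristic) φ hx
  rcases h M this with e | e
  · exact (e.ge trivial : x ∈ M)
  · refine (hna ⟨⟨fun a b => mem_center_iff.1 ?_ a⟩⟩).elim
    obtain ⟨k, hk⟩ := hr b
    have : b ^ r ^ k ∈ center N := hk ▸ one_mem _
    clear hk
    induction k with
    | zero => simpa using this
    | succ k ih => exact ih (e (show (b ^ r ^ k) ^ r ∈ center N by rwa [← pow_mul, ← pow_succ]))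

theorem comm_pow {r : ℕ} [Fact r.Prime] (hr : IsPGroup r N) (hna : ¬ IsMulCommutative N) (x y : N) : ⁅x, y⁆ ^ r = 1 := by
  rw [← H04.commutatorElement_pow_left (H04.commute_of_mem_center (h.comm_mem hp x y) _),
    commutatorElement_eq_one_iff_mul_comm]
  exact (mem_center_iff.1 (h.pow_mem hp hr hna x) y).symm

omit hp in
theorem exp_of {n : ℕ} (hm : ∀ x y : N, x ^ n = 1 → y ^ n = 1 → (x * y) ^ n = 1) {x₀ : N} (h0 : x₀ ∉ center N)
    (h1 : x₀ ^ n = 1) (x : N) : x ^ n = 1 := by
  let M : Subgroup N :=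
    { carrier := {x | x ^ n = 1}
      one_mem' := one_pow n
      inv_mem' := fun {x} hx => by rw [Set.mem_setOf_eq, inv_pow, hx, inv_one]
      mul_mem' := fun {x y} => hm x y }
  have : M.Characteristic := characteristic_iff_le_comap.2 fun φ x hx => by
    change φ x ^ n = 1
    rw [← map_pow, show x ^ n = 1 from hx, map_one]
  exact (((h M this).resolve_right fun e => h0 (e h1)).ge trivial : x ∈ M)

end CS

variable {G : Type*} [Group G]

/-- `A` maximal abelian normal, `N` minimal non-abelian normal in `C(A)` -/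
structure MinN (A N : Subgroup G) : Prop where
  An : A.Normal
  Ac : IsMulCommutative A
  Amax : ∀ B : Subgroup G, B.Normal → IsMulCommutative B → A ≤ B → B = A
  Nn : N.Normal
  le : N ≤ centralizer (A : Set G)
  na : ¬ IsMulCommutative N
  min : ∀ M : Subgroup G, M.Normal → M ≤ N → ¬ IsMulCommutative M → M = N

theorem le_of_max {A B : Subgroup G} (An : A.Normal) (Ac : IsMulCommutative A)
    (Amax : ∀ B : Subgroup G, B.Normal → IsMulCommutative B → A ≤ B → B = A) (Bn : B.Normal)
    (Bc : IsMulCommutative B) (h : B ≤ centralizer (A : Set G)) : B ≤ A := by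
  refine le_sup_right.trans (Amax (A ⊔ B) inferInstance (le_centralizer_iff_isMulCommutative.1 ?_) le_sup_left).le
  refine sup_le (le_centralizer_iff.2 (sup_le (le_centralizer _) h)) (le_centralizer_iff.2 (sup_le ?_ (le_centralizer _)))
  exact le_centralizer_iff.1 h

theorem MinN.cs {A N : Subgroup G} (h : MinN A N) : CS N := fun K hK => by
  haveI := h.Nn
  refine or_iff_not_imp_left.2 fun e x hx => mem_center_iff.2 fun y => Subtype.ext ?_
  have h1 : IsMulCommutative (K.map N.subtype) := by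
    by_contra hc
    exact e (map_injective N.subtype_injective ((h.min _ inferInstance (map_subtype_le _) hc).trans
      (by rw [← MonoidHom.range_eq_map, range_subtype])))
  exact (h.le y.2 x (le_of_max h.An h.Ac h.Amax inferInstance h1 ((map_subtype_le _).trans h.le) ⟨x, hx, rfl⟩)).symm

theorem exists_maxA [Finite G] : ∃ A : Subgroup G, A.Normal ∧ IsMulCommutative A ∧
    ∀ B : Subgroup G, B.Normal → IsMulCommutative B → A ≤ B → B = A := by
  obtain ⟨A, -, hA⟩ := Finite.exists_le_maximal (p := fun A : Subgroup G => A.Normal ∧ IsMulCommutative A) (a := ⊥)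
    ⟨inferInstance, inferInstance⟩
  exact ⟨A, hA.1.1, hA.1.2, fun B h1 h2 h3 => le_antisymm (hA.2 ⟨h1, h2⟩ h3) h3⟩

theorem exists_minN [Finite G] {A : Subgroup G} (An : A.Normal) (Ac : IsMulCommutative A)
    (Amax : ∀ B : Subgroup G, B.Normal → IsMulCommutative B → A ≤ B → B = A) (h : A < centralizer (A : Set G)) :
    ∃ N, MinN A N := by
  obtain ⟨N, h1, hN⟩ := Finite.exists_le_minimal (p := fun N : Subgroup G => N.Normal ∧ ¬ IsMulCommutative N)
    (a := centralizer (A : Set G)) ⟨inferInstance, fun e => h.ne' (Amax _ inferInstance e h.le)⟩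
  exact ⟨N, An, Ac, Amax, hN.1.1, h1, hN.1.2, fun M m1 m2 m3 => le_antisymm m2 (hN.2 ⟨m1, m3⟩ m2)⟩

theorem comm_of {A : Subgroup G} (h : IsMulCommutative A) : ∀ a ∈ A, ∀ b ∈ A, a * b = b * a :=
  fun a ha b hb => congrArg Subtype.val (h.is_comm.comm ⟨a, ha⟩ ⟨b, hb⟩)

theorem IsFC.q8_of_class_two [Finite G] (h : IsFC G) {r : ℕ} [Fact r.Prime] (hr : IsPGroup r G)
    (hna : ¬ IsMulCommutative G) (h2 : ∀ x y : G, ⁅x, y⁆ ∈ center G) : Nonempty (G ≃* QuaternionGroup 2) := by
  rcases h.cyc_or_quat_aux hr with hc | ⟨-, n, ⟨e⟩⟩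
  · exact (hna inferInstance).elim
  rcases n with _ | _ | n
  · haveI := QuaternionGroup.quaternionGroup_one_isCyclic
    haveI := isCyclic_of_surjective e.symm e.symm.surjective
    exact (hna inferInstance).elim
  · exact ⟨e⟩
  · exfalso
    have := congrArg e (mem_center_iff.1 (h2 (e.symm (.a 1)) (e.symm (.xa 0))) (e.symm (.xa 0)))
    simp only [map_mul, map_commutatorElement, MulEquiv.apply_symm_apply] at this
    have h1 : ⁅(QuaternionGroup.a 1 : QuaternionGroup (2 ^ (n + 1 + 1))), (QuaternionGroup.xa 0 : QuaternionGroup (2 ^ (n + 1 + 1)))⁆ =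
        QuaternionGroup.a 2 := by
      rw [commutatorElement_def, mul_inv_eq_iff_eq_mul, mul_inv_eq_iff_eq_mul]; simp; ring
    rw [h1] at this
    simp only [QuaternionGroup.xa_mul_a, QuaternionGroup.a_mul_xa, QuaternionGroup.xa.injEq] at this
    have h3 : ((4 : ℕ) : ZMod (2 * 2 ^ (n + 1 + 1))) = 0 := by push_cast; linear_combination this
    have := Nat.le_of_dvd (by norm_num) ((ZMod.natCast_eq_zero_iff _ _).1 h3)
    have : 0 < 2 ^ n := by positivity
    rw [pow_succ, pow_succ] at *
    omega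

variable {q : ℕ} [Fact q.Prime] {V : Type*} [AddCommGroup V] [Module (ZMod q) V] [Finite V] [Nontrivial V]
  {ρ : G →* (V ≃ₗ[ZMod q] V)}

omit [Finite V] in
theorem neg_of_invol {z : G} (hz : z * z = 1) (hf : ∀ v, v ≠ 0 → ρ z v ≠ v) : q ≠ 2 ∧ ∀ v, ρ z v = -v := by
  have h1 : ∀ v, ρ z v = -v := fun v => by
    by_contra e
    exact hf (ρ z v + v) (fun h => e (eq_neg_of_add_eq_zero_left h)) (by rw [map_add, ← rho_mul, hz, rho_one, add_comm])
  refine ⟨?_, h1⟩
  rintro rfl
  obtain ⟨v, hv⟩ := exists_ne (0 : V)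
  refine hf v hv ?_
  rw [h1, neg_eq_iff_add_eq_zero, ← two_smul (ZMod 2), show (2 : ZMod 2) = 0 from rfl, zero_smul]

theorem q8_card {i j z : G} (hz : z * z = 1) (hf : ∀ v, v ≠ 0 → ρ z v ≠ v) (hi : i * i = z) (hj : j * j = z)
    (hij : j * i = z * (i * j)) : q ≠ 2 ∧ ∃ s, 1 < s ∧ Nat.card V = s ^ 2 ∧
      ∀ C : Subgroup G, C ≤ centralizer {i, j} → SRg ρ C → Nat.card C ∣ s - 1 := by
  obtain ⟨h2, h1⟩ := neg_of_invol hz hf
  obtain ⟨U, h3, h4⟩ := q8_sq ρ h2 (hi ▸ h1) (hj ▸ h1) (fun v => by rw [hij, rho_mul, h1])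
  refine ⟨h2, _, ?_, h3, fun C hC hs => hs.card_dvd fun n hn => h4 n (hC hn)⟩
  have := Finite.one_lt_card (α := V)
  rw [h3] at this
  exact (Nat.one_lt_pow_iff two_ne_zero).1 this

theorem q8_card' {Q : Subgroup G} (e : Q ≃* QuaternionGroup 2) (hs : SRg ρ Q) : q ≠ 2 ∧ ∃ s, 1 < s ∧ Nat.card V = s ^ 2 ∧
    ∀ C : Subgroup G, C ≤ centralizer (Q : Set G) → SRg ρ C → Nat.card C ∣ s - 1 := by
  have k : ∀ a b c : QuaternionGroup 2, a * b = c → (e.symm a : G) * e.symm b = e.symm c := fun a b c h => by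
    rw [← coe_mul, ← map_mul, h]
  obtain ⟨h1, s, h2, h3, h4⟩ := q8_card (ρ := ρ) (i := e.symm (.a 1)) (j := e.symm (.xa 0)) (z := e.symm (.a 2))
    (by rw [k _ _ 1 (by decide), map_one]; rfl)
    (fun v hv h => absurd (e.symm.injective (Subtype.ext (hs _ (e.symm _).2 v hv h) |>.trans (map_one _).symm)) (by decide))
    (k _ _ _ (by decide)) (k _ _ _ (by decide)) (by rw [k _ _ _ rfl, k _ _ _ rfl, k _ _ _ rfl]; congr 2)
  refine ⟨h1, s, h2, h3, fun C hC => h4 C (hC.trans (centralizer_le ?_))⟩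
  rintro _ (rfl | rfl) <;> exact SetLike.coe_mem _

/-- a normal semiregular quaternion subgroup of a transitive group -/
theorem Tr.q8_case [Finite G] (h : Tr ρ) (hρ : Function.Injective ρ) {Q : Subgroup G} [Q.Normal]
    (e : Q ≃* QuaternionGroup 2) (hs : SRg ρ Q) : ∃ s, Nat.card V = s ^ 2 ∧ s ∈ ({3, 5, 7, 11, 23} : Set ℕ) := by
  obtain ⟨h2, s, s1, s2, s3⟩ := q8_card' e hs
  have hna : ¬ IsMulCommutative Q := fun hc => q8_facts.2.2 (e.symm.injective (by
    rw [map_mul, map_mul, hc.is_comm.comm]))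
  obtain ⟨f, hf⟩ := exists_hom_S4 e
  have k1 := s3 _ le_rfl ((h.irr_of_not_comm hρ hna).cent hρ).2
  have k2 : (s + 1) * (s - 1) ∣ 24 * (s - 1) := by
    rw [← Nat.sq_sub_sq s 1, one_pow, ← s2]
    refine h.card_dvd.trans ?_
    rw [← f.ker.index_mul_card, hf]
    refine Nat.mul_dvd_mul ?_ k1
    rw [← hf, index_ker]
    have := f.range.card_subgroup_dvd_card
    rwa [Nat.card_perm, Nat.card_fin] at this
  have k3 := Nat.dvd_of_mul_dvd_mul_right (by omega) k2
  have k4 : Odd (s ^ 2) := by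
    rw [← s2, Module.natCard_eq_pow_finrank (K := ZMod q), Nat.card_zmod]
    exact ((Fact.out : q.Prime).odd_of_ne_two h2).pow
  refine ⟨s, s2, ?_⟩
  have := Nat.le_of_dvd (by norm_num) k3
  have k5 : s < 24 := by omega
  interval_cases s <;> simp_all (config := { decide := true })

theorem Tr.huppert [Finite G] [Group.IsSolvable G] (h : Tr ρ) (hρ : Function.Injective ρ) :
    (∃ (F : Type) (_ : Field F) (_ : Fintype F) (e : V ≃+ F),
        ∀ g : G, ∃ (a : F) (σ : F ≃+* F), ∀ v : V, e (ρ g v) = a * σ (e v)) ∨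
    Nat.card V ∈ ({9, 25, 49, 121, 529, 81} : Set ℕ) := by
  classical
  obtain ⟨A, An, Ac, Amax⟩ := exists_maxA (G := G)
  by_cases hI : Irr ρ A
  · exact Or.inl (h.semilinear (comm_of Ac) hI)
  right
  obtain ⟨-, -, -, -, -, -, hlt⟩ := h.red hρ (comm_of Ac) hI
  obtain ⟨N, hN⟩ := exists_minN An Ac Amax hlt
  haveI := hN.Nn
  have hcs := hN.cs
  have hna := hN.na
  have hp : commutator N ≠ ⊤ := fun e => by
    haveI : Group.IsPerfect N := ⟨e⟩
    haveI : Nontrivial N := not_subsingleton_iff_nontrivial.1 fun _ => hna ⟨⟨fun _ _ => Subsingleton.elim _ _⟩⟩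
    exact Group.IsPerfect.not_isSolvable N inferInstance
  obtain ⟨r, hr, hpg⟩ := hcs.pgroup hp hna
  haveI := Fact.mk hr
  have hZc : ∀ a ∈ (center N).map N.subtype, ∀ b ∈ (center N).map N.subtype, a * b = b * a := by
    rintro _ ⟨a, -, rfl⟩ _ ⟨b, hb, rfl⟩; exact congrArg Subtype.val (mem_center_iff.1 hb a)
  have hZ : ∀ c ∈ center N, c ≠ 1 → ∀ v, ρ c v = v → v = 0 := fun c hc h1 v hv => by_contra fun h0 =>
    h1 (Subtype.ext (h.srg_of_comm hρ hZc c ⟨c, hc, rfl⟩ v h0 hv))
  haveI : IsCyclic (center N) := (H02.isCyclic_map_subtype_iff _).1 (h.isCyclic_of_comm hρ hZc)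
  by_cases hx : ∀ x : N, orderOf x = r → x ∈ center N
  · have hs : SRg ρ N := fun n hn v hv e => by
      by_contra h1
      obtain ⟨k, hk⟩ := IsPGroup.iff_orderOf.1 hpg ⟨n, hn⟩
      have h2 : r ∣ orderOf (⟨n, hn⟩ : N) := by
        rcases k with _ | k
        · exact (h1 (congrArg Subtype.val (orderOf_eq_one_iff.1 hk))).elim
        · exact hk ▸ dvd_pow_self r k.succ_ne_zero
      have h3 := orderOf_pow_orderOf_div (orderOf_pos _).ne' h2
      refine hv (hZ _ (hx _ h3) (fun e => hr.ne_one (by rw [← h3, e, orderOf_one])) v ?_)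
      generalize orderOf (⟨n, hn⟩ : N) / r = m
      induction m with
      | zero => rw [pow_zero]; exact rho_one ρ v
      | succ m ih => rw [pow_succ, coe_mul, rho_mul, e, ih]
    obtain ⟨e⟩ := hs.isFC.q8_of_class_two hpg hna (hcs.comm_mem hp)
    obtain ⟨s, s1, s2⟩ := h.q8_case hρ e hs
    rw [s1]
    rcases s2 with rfl | rfl | rfl | rfl | rfl <;> simp
  push Not at hx
  obtain ⟨x₀, o₀, n₀⟩ := hx
  have p₀ : x₀ ^ r = 1 := o₀ ▸ pow_orderOf_eq_one x₀
  haveI : Nontrivial N := ⟨x₀, 1, fun e => n₀ (e ▸ one_mem _)⟩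
  obtain ⟨z, hz⟩ : ∃ z : center N, orderOf z = r := by
    haveI := hpg.center_nontrivial
    obtain ⟨k, k0, hk⟩ := (hpg.to_subgroup (center N)).nontrivial_iff_card.1 inferInstance
    exact exists_prime_orderOf_dvd_card' r (hk ▸ dvd_pow_self r k0.ne')
  have zs : SRg ρ (zpowers ((z : N) : G)) := fun n hn => h.srg_of_comm hρ hZc n (zpowers_le.2 (show _ ∈ (center N).map N.subtype from ⟨z, z.2, rfl⟩) hn)
  have zc : Nat.card (zpowers ((z : N) : G)) = r := by rw [Nat.card_zpowers, orderOf_coe, orderOf_coe, hz]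
  have hV := Module.natCard_eq_pow_finrank (K := ZMod q) (V := V)
  rw [Nat.card_zmod] at hV
  have hD : 0 < finrank (ZMod q) V := finrank_pos
  have hq : ¬ q ∣ Nat.card N := fun hd => by
    obtain ⟨k, hk⟩ := IsPGroup.iff_card.1 hpg
    obtain rfl := (Nat.prime_dvd_prime_iff_eq Fact.out hr).1 ((Fact.out : q.Prime).dvd_of_dvd_pow (hk ▸ hd))
    have := zs.card_dvd (W := ⊤) fun _ _ _ _ => trivial
    rw [zc, Nat.card_congr Submodule.topEquiv.toEquiv, hV] at this
    have h1 := (Nat.dvd_sub_iff_right (Nat.one_le_pow _ _ hr.pos) (dvd_pow_self q hD.ne')).1 this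
    exact hr.one_lt.ne' (Nat.dvd_one.1 h1)
  obtain ⟨c1, c2⟩ := sympl_char hr ((fE ρ).comp N.subtype) hq fun x hx => by
    obtain ⟨y, hy⟩ : ∃ y, ¬ y * x = x * y := by simpa [mem_center_iff] using hx
    exact ⟨y, ⁅y, x⁆, hcs.comm_mem hp y x, H04.conj_eq_commutatorElement_mul' y x,
      hZ _ (hcs.comm_mem hp y x) (mt commutatorElement_eq_one_iff_mul_comm.1 hy)⟩
  obtain ⟨e, he⟩ : ∃ e, e = finrank (ZMod q) (LinearMap.ker (fE ρ x₀ - 1)) := ⟨_, rfl⟩
  have hDe : finrank (ZMod q) V = r * e := he ▸ c2 x₀ n₀ o₀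
  have e0 : 0 < e := Nat.pos_of_ne_zero (by rintro rfl; omega)
  have fix : ∀ x : N, x ∉ center N → orderOf x = r → Nat.card (LinearMap.ker (fE ρ x - 1)) = q ^ e := fun x h1 h2 => by
    rw [Module.natCard_eq_pow_finrank (K := ZMod q), Nat.card_zmod]
    congr 1
    exact Nat.eq_of_mul_eq_mul_left hr.pos ((c2 x h1 h2).symm.trans hDe)
  haveI := Fintype.ofFinite N
  obtain ⟨t, ht⟩ := h.count ((Finset.univ.filter fun x : N => x ∉ center N ∧ orderOf x = r).map
    (Function.Embedding.subtype _)) (s := q ^ e) (fun g x hx => by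
      simp only [Finset.mem_map, Finset.mem_filter, Finset.mem_univ, true_and] at hx ⊢
      obtain ⟨x, ⟨h1, h2⟩, rfl⟩ := hx
      refine ⟨MulAut.conjNormal g x, ⟨fun hc => h1 ?_, by rwa [MulEquiv.orderOf_eq]⟩, rfl⟩
      exact characteristic_iff_comap_le.1 inferInstance (MulAut.conjNormal g) hc) (fun x hx => by
      simp only [Finset.mem_map, Finset.mem_filter, Finset.mem_univ, true_and] at hx
      obtain ⟨x, ⟨h1, h2⟩, rfl⟩ := hx
      exact fix x h1 h2)
  rw [Finset.card_map, hV, hDe, mul_comm r, pow_mul] at ht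
  obtain ⟨j, hj⟩ := IsPGroup.iff_card.1 (hpg.to_quotient (center N))
  have hNc : Nat.card N = Nat.card (center N) * r ^ j := by rw [← hj, mul_comm]; exact card_eq_card_quotient_mul_card_subgroup _
  have c3 : r ^ j ≤ (r * e) ^ 2 := by
    rw [hNc, hDe] at c1; exact Nat.le_of_mul_le_mul_left c1 Nat.card_pos
  have hZe : ∀ n, (∀ x : N, x ^ n = 1) → Nat.card (center N) ∣ n := fun n hn => by
    rw [← IsCyclic.exponent_eq_card]
    exact Monoid.exponent_dvd_of_forall_pow_eq_one fun x => Subtype.ext (hn x)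
  have hrZ : r ∣ Nat.card (center N) := hz ▸ orderOf_dvd_natCard z
  have hfc : (Finset.univ.filter (· ∈ center N)).card = Nat.card (center N) := by
    rw [Nat.card_eq_fintype_card, Fintype.card_subtype]
  have hq1 : 1 < q ^ e := Nat.one_lt_pow e0.ne' (Fact.out : q.Prime).one_lt
  by_cases r2 : r = 2
  · subst r2
    have z2 : (z : N) * z = 1 := by rw [← coe_mul, mul_self_of_two hz]; rfl
    have z1 : (z : N) ≠ 1 := fun e => by rw [show z = 1 from Subtype.ext e] at hz; simp at hz
    have zz : ∀ c ∈ center N, c * c = 1 → c = 1 ∨ c = z := fun c hc h1 => by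
      have := H07.mem_of_pow_card_eq_one_of_isCyclic (zpowers z) (x := ⟨c, hc⟩) (by
        rw [Nat.card_zpowers, hz, pow_two]; exact Subtype.ext h1)
      rw [mem_zpowers_iff_mem_range_orderOf, hz] at this
      simp only [Finset.mem_image, Finset.mem_range] at this
      obtain ⟨n, hn, e⟩ := this
      interval_cases n
      · exact Or.inl (by simpa using (congrArg Subtype.val e).symm)
      · exact Or.inr (by simpa using (congrArg Subtype.val e).symm)
    have e4 := hcs.exp_of (n := 4) (fun x y hx hy => by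
      rw [H04.mul_pow_eq_of_commute (H04.commute_of_mem_center (hcs.comm_mem hp y x) _)
        (H04.commute_of_mem_center (hcs.comm_mem hp y x) _), hx, hy, show Nat.choose 4 2 = 2 * 3 from rfl, pow_mul,
        hcs.comm_pow hp hpg hna]; simp) n₀ (by rw [show 4 = 2 * 2 from rfl, pow_mul, p₀, one_pow])
    have hs : ∀ x : N, x * x = 1 ∨ x * x = z := fun x =>
      zz _ (pow_two x ▸ hcs.pow_mem hp hpg hna x) (by rw [← e4 x]; simp only [pow_succ, pow_zero, one_mul, mul_assoc])
    have k1 := sq_count z.2 z2 z1 hs fun x y => by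
      rw [H04.mul_eq_commutatorElement_mul y x]
      rcases zz _ (hcs.comm_mem hp y x) (pow_two ⁅y, x⁆ ▸ hcs.comm_pow hp hpg hna y x) with e | e <;> simp [e]
    have k2 : (Finset.univ.filter fun u : N => u ∈ center N ∧ u * u = 1) = {1, (z : N)} := by
      ext u
      simp only [Finset.mem_filter, Finset.mem_univ, true_and, Finset.mem_insert, Finset.mem_singleton]
      exact ⟨fun ⟨a, b⟩ => zz u a b, by rintro (rfl | rfl); exacts [⟨one_mem _, mul_one _⟩, ⟨z.2, z2⟩]⟩
    have k3 : (Finset.univ.filter fun x : N => x * x = 1).card =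
        (Finset.univ.filter fun x : N => x ∉ center N ∧ orderOf x = 2).card + 2 := by
      rw [← Finset.card_filter_add_card_filter_not (fun x : N => x ∉ center N), Finset.filter_filter,
        Finset.filter_filter]
      refine Eq.trans ?_ (congrArg (_ + ·) (k2 ▸ Finset.card_pair z1.symm))
      congr 2 <;> ext x <;> simp only [Finset.mem_filter, Finset.mem_univ, true_and, not_not]
      · exact ⟨fun ⟨a, b⟩ => ⟨b, orderOf_eq_prime (by rwa [pow_two]) fun e => b (e ▸ one_mem _)⟩,
          fun ⟨a, b⟩ => ⟨mul_self_of_two b, a⟩⟩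
      · exact and_comm
    have k4 : 0 < (Finset.univ.filter fun x : N => x ∉ center N ∧ orderOf x = 2).card :=
      Finset.card_pos.2 ⟨x₀, by simp [n₀, o₀]⟩
    have k5 := Finset.card_filter_add_card_filter_not (s := Finset.univ.filter (· ∈ center N)) fun u : N => u * u = 1
    rw [Finset.filter_filter, k2, Finset.card_pair z1.symm, hfc] at k5
    rw [Finset.sum_ite, Finset.filter_filter, k2, Finset.sum_const, Finset.sum_const, Finset.card_pair z1.symm,
      ← Nat.card_eq_fintype_card, hNc] at k1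
    rw [hV, hDe, mul_comm 2, pow_mul]
    rw [show (q ^ e) ^ 2 - 1 = (q ^ e + 1) * (q ^ e - 1) from Nat.sq_sub_sq _ 1, mul_right_comm] at ht
    refine arith_two (j := j) (S := (Finset.univ.filter fun x : N => x * x = 1).card) (t := t) Fact.out
      (neg_of_invol (ρ := ρ) (z := ((z : N) : G)) (congrArg Subtype.val z2) fun v hv e => hv (hZ _ z.2 z1 v e)).1
      e0 (by omega) c3 (by rw [k3]; exact Nat.eq_of_mul_eq_mul_right (by omega) ht) ?_
    generalize (Finset.univ.filter fun x : N => x * x = 1).card = S at *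
    generalize ((Finset.univ.filter (· ∈ center N)).filter fun u : N => ¬ u * u = 1).card = b at *
    have k6 := Nat.le_of_dvd (by norm_num) (hZe 4 e4)
    generalize Nat.card (center N) = m at *
    obtain rfl | rfl : m = 2 ∨ m = 4 := by omega
    · obtain rfl : b = 0 := by omega
      left
      push_cast at k1
      simp only [nsmul_eq_mul] at k1
      push_cast at k1
      refine mul_left_cancel₀ (show (4 : ℤ) ≠ 0 by norm_num) ?_
      linear_combination k1
    · obtain rfl : b = 2 := by omega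
      right
      simp only [nsmul_eq_mul] at k1
      push_cast at k1
      have : (2 * (S : ℤ) - 4 * 2 ^ j) ^ 2 = 0 := by linear_combination k1
      have := pow_eq_zero_iff two_ne_zero |>.1 this
      zify; linarith
  · exfalso
    have er := hcs.exp_of (n := r) (fun x y hx hy => H04.mul_pow_eq_one_of_class_two hr r2
      (H04.commute_of_mem_center (hcs.comm_mem hp y x) _) (H04.commute_of_mem_center (hcs.comm_mem hp y x) _) hx hy) n₀ p₀
    have k1 : Nat.card (center N) = r := Nat.dvd_antisymm (hZe r er) hrZ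
    have k2 : (Finset.univ.filter fun x : N => x ∉ center N ∧ orderOf x = r).card = r * r ^ j - r := by
      have := Finset.card_filter_add_card_filter_not (s := Finset.univ) (· ∈ center N)
      rw [hfc, Finset.card_univ, ← Nat.card_eq_fintype_card, hNc, k1] at this
      rw [← this, Nat.add_sub_cancel_left]
      congr 1
      exact Finset.filter_congr fun x _ =>
        ⟨fun a => a.1, fun a => ⟨a, orderOf_eq_prime (er x) fun e => a (e ▸ one_mem _)⟩⟩
    refine arith_odd (j := j) Fact.out hr r2 e0 (Nat.pos_of_ne_zero ?_) ?_ c3 (k2 ▸ ht)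
    · rintro rfl
      rw [pow_zero, ← index_eq_card, index_eq_one] at hj
      exact n₀ (hj ▸ trivial)
    · rw [← fix x₀ n₀ o₀, ← zc]
      refine zs.card_dvd fun n hn v hv => ?_
      obtain ⟨c, hc, rfl⟩ : n ∈ (center N).map N.subtype :=
        zpowers_le.2 (show _ ∈ (center N).map N.subtype from ⟨z, z.2, rfl⟩) hn
      have h1 : ρ x₀ v = v := by simpa [sub_eq_zero] using hv
      have h2 : (x₀ : G) * c = c * x₀ := congrArg Subtype.val (mem_center_iff.1 hc x₀)
      simp only [LinearMap.mem_ker, LinearMap.sub_apply, fE_apply, Module.End.one_apply, sub_eq_zero, coe_subtype]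
      rw [← rho_mul, h2, rho_mul, h1]

end H18
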