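import Mathlib
import Cfsg.Agent.H18.FC8
import Cfsg.Agent.H08.Counting

/-!
# Linear groups regular on non-zero vectors (helper18)

* `MinN.q8_or`, `Tr.reg_solv`, `Tr.reg_nonsolv`, `Tr.reg_index_two`.
-/

set_option autoImplicit false

namespace H18
open Subgroup Cfsg Module Matrix MatrixGroups

variable {G : Type*} [Group G]

theorem prod_equiv {A B : Subgroup G} (h : ∀ a ∈ A, ∀ b ∈ B, a * b = b * a) (hd : A ⊓ B = ⊥) (ht : A ⊔ B = ⊤) :
    Nonempty (G ≃* A × B) := by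
  have hc : ∀ (a : A) (b : B), Commute (A.subtype a) (B.subtype b) := fun a b => h a a.2 b b.2
  have h1 := MonoidHom.noncommCoprod_range _ _ hc
  rw [range_subtype, range_subtype, ht] at h1
  exact ⟨(MulEquiv.ofBijective _ ⟨(MonoidHom.noncommCoprod_injective _ _ hc).2 ⟨subtype_injective _, subtype_injective _,
    by rwa [range_subtype, range_subtype, disjoint_iff]⟩, MonoidHom.range_eq_top.1 h1⟩).symm⟩

theorem alt_le' {α : Type*} [Fintype α] [DecidableEq α] [Nontrivial α] {H : Subgroup (Equiv.Perm α)}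
    (h : alternatingGroup α ≤ H) : H = ⊤ ∨ H = alternatingGroup α := by
  rcases (Nat.dvd_prime Nat.prime_two).1 (alternatingGroup.index_eq_two (α := α) ▸ index_dvd_of_le h) with e | e
  · exact Or.inl (index_eq_one.1 e)
  · exact Or.inr (Equiv.Perm.eq_alternatingGroup_of_index_eq_two e)

instance sl25_perfect : Group.IsPerfect SL(2, ZMod 5) :=
  ⟨Matrix.SL2.commutator_eq_top (a := (2 : ZMod 5)) (by decide) (by decide)⟩

theorem MinN.q8_or [Finite G] {A N : Subgroup G} (h : MinN A N) (hF : IsFC N) :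
    Nonempty (N ≃* QuaternionGroup 2) ∨ (Group.IsPerfect N ∧ Nontrivial N) := by
  by_cases hp : commutator N = ⊤
  · exact Or.inr ⟨⟨hp⟩, not_subsingleton_iff_nontrivial.1 fun _ => h.na ⟨⟨fun _ _ => Subsingleton.elim _ _⟩⟩⟩
  obtain ⟨r, hr, hpg⟩ := h.cs.pgroup hp h.na
  haveI := Fact.mk hr
  exact Or.inl (hF.q8_of_class_two hpg h.na (h.cs.comm_mem hp))

theorem SRg.mono {k V : Type*} [Field k] [AddCommGroup V] [Module k V] {ρ : G →* (V ≃ₗ[k] V)} (h : SRg ρ ⊤)
    (N : Subgroup G) : SRg ρ N := fun n _ => h n trivial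

variable {q : ℕ} [Fact q.Prime] {V : Type*} [AddCommGroup V] [Module (ZMod q) V] [Finite V] [Nontrivial V]
  {ρ : G →* (V ≃ₗ[ZMod q] V)} [Finite G] (h : Tr ρ) (hρ : Function.Injective ρ) (hs : SRg ρ ⊤)

omit [Nontrivial V] in
theorem odd_of_sq {s : ℕ} (h2 : q ≠ 2) (e : Nat.card V = s ^ 2) : Odd s := by
  have k4 : Odd (s ^ 2) := by
    rw [← e, Module.natCard_eq_pow_finrank (K := ZMod q), Nat.card_zmod]
    exact ((Fact.out : q.Prime).odd_of_ne_two h2).pow
  exact (Nat.odd_pow_iff two_ne_zero).1 k4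

include h hρ hs

theorem Tr.reg_solv [Group.IsSolvable G] {A : Subgroup G} (An : A.Normal) (Ac : IsMulCommutative A)
    (Amax : ∀ B : Subgroup G, B.Normal → IsMulCommutative B → A ≤ B → B = A) (hI : ¬ Irr ρ A) :
    Nat.card V = 25 ∨ Nat.card V = 49 ∨ Nat.card V = 121 ∨ Nat.card V = 529 := by
  obtain ⟨-, -, -, -, -, -, hlt⟩ := h.red hρ (comm_of Ac) hI
  obtain ⟨N, hN⟩ := exists_minN An Ac Amax hlt
  haveI := hN.Nn
  obtain ⟨e⟩ := (hN.q8_or (hs.mono N).isFC).resolve_right fun ⟨_, _⟩ => Group.IsPerfect.not_isSolvable N inferInstance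
  obtain ⟨s, s1, s2⟩ := h.q8_case hρ e (hs.mono N)
  rcases s2 with rfl | rfl | rfl | rfl | rfl
  · exfalso
    have h8 : Nat.card G = 8 := by rw [h.card_eq hs, s1]; rfl
    have h4 : Nat.card (zpowers ((e.symm (.a 1) : N) : G)) = 4 := by
      rw [Nat.card_zpowers, orderOf_coe, MulEquiv.orderOf_eq, q8_facts.2.1]
    have h2 := (zpowers ((e.symm (.a 1) : N) : G)).index_mul_card
    rw [h4, h8] at h2
    have := le_of_max An Ac Amax (normal_of_index_eq_two (by omega)) inferInstance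
      ((zpowers_le.2 (e.symm (.a 1)).2).trans hN.le) (mem_zpowers _)
    exact q8_facts.2.2 (e.symm.injective (by
      rw [map_mul, map_mul]; exact Subtype.ext (hN.le (e.symm (.xa 0)).2 _ this)))
  all_goals simp [s1]

omit hρ in
theorem Tr.reg_nonsolv (hns : ¬ Group.IsSolvable G) : (Nat.card V = 121 ∧ Nonempty (G ≃* SL(2, ZMod 5))) ∨
    (Nat.card V = 841 ∧ Nonempty (G ≃* SL(2, ZMod 5) × Multiplicative (ZMod 7))) ∨
    (Nat.card V = 3481 ∧ Nonempty (G ≃* SL(2, ZMod 5) × Multiplicative (ZMod 29))) := by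
  have hF : IsFC G := hs.isFC.of_equiv topEquiv.symm
  obtain ⟨θ, h1, h2⟩ := hF.sl25_of_not_solvable hns
  obtain ⟨f, k1, k2, -, M, m1, m2, m3, m4, m5, m6⟩ := hF.c5 θ h1 h2
  obtain ⟨i, j, hi, hj, hij⟩ : ∃ i j : SL(2, ZMod 5), i * i = -1 ∧ j * j = -1 ∧ j * i = -1 * (i * j) :=
    ⟨⟨!![2, 0; 0, 3], by decide⟩, ⟨!![0, 1; 4, 0], by decide⟩, by decide⟩
  obtain ⟨q2, s, s1, s2, s3⟩ := q8_card (ρ := ρ) (i := θ i) (j := θ j)
    (z := θ (-1)) (by rw [← map_mul, neg_mul_neg, mul_one, map_one])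
    (fun v hv e => absurd (h1 ((hs _ trivial v hv e).trans (map_one θ).symm)) (by decide))
    (by rw [← map_mul, hi]) (by rw [← map_mul, hj]) (by rw [← map_mul, hij, map_mul, map_mul])
  obtain ⟨t, ht⟩ := s3 f.ker (k1 ▸ centralizer_le (by rintro _ (rfl | rfl) <;> exact h2 ▸ ⟨_, rfl⟩)) (hs.mono _)
  have c1 := f.ker.index_mul_card
  rw [index_ker, h.card_eq hs, s2, m4] at c1
  rw [m4] at ht
  obtain rfl : s = 2 * Nat.card M * t + 1 := by omega
  have m0 : 0 < Nat.card M := Nat.card_pos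
  have c2 : Nat.card f.range = 2 * (t * (Nat.card M * t + 1)) := Nat.eq_of_mul_eq_mul_right (m := 2 * Nat.card M)
    (by omega) (by rw [c1]; exact Nat.sub_eq_of_eq_add (by ring))
  have c3 : ∀ p ∈ ({2, 3, 5} : Set ℕ), ¬ p ∣ Nat.card M := fun p hp hd => by
    have := Nat.dvd_gcd hd (show p ∣ 30 by rcases hp with rfl | rfl | rfl <;> norm_num)
    rw [m3, Nat.dvd_one] at this
    rcases hp with rfl | rfl | rfl <;> omega
  have c4 := c3 2 (by simp)
  have c5 := c3 3 (by simp)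
  rcases alt_le' (k2 ▸ map_le_range f _) with e | e
  · exfalso
    rw [e, card_top, Nat.card_perm, Nat.card_fin, show Nat.factorial 5 = 120 from rfl] at c2
    have t8 : t < 8 := by nlinarith
    have : 2 * Nat.card M * t + 1 = 119 := by interval_cases t <;> omega
    rw [this, Module.natCard_eq_pow_finrank (K := ZMod q), Nat.card_zmod] at s2
    have a1 := (Nat.prime_dvd_prime_iff_eq (by norm_num) Fact.out).1
      ((by norm_num : Nat.Prime 7).dvd_of_dvd_pow (Dvd.intro 2023 s2.symm))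
    have a2 := (Nat.prime_dvd_prime_iff_eq (by norm_num) Fact.out).1
      ((by norm_num : Nat.Prime 17).dvd_of_dvd_pow (Dvd.intro 833 s2.symm))
    omega
  have m7 : L3 G ⊔ M = ⊤ := m5.trans (eq_top_iff.2 fun g _ => (e.le ⟨g, rfl⟩ :))
  let e1 : L3 G ≃* SL(2, ZMod 5) := ((MonoidHom.ofInjective h1).trans (MulEquiv.subgroupCongr h2)).symm
  obtain ⟨e2⟩ := prod_equiv (fun s hs x hx => (k1 ▸ m2 hx) s hs) m6 m7
  have k3 : ∀ p : ℕ, p.Prime → Nat.card M = p → Nonempty (G ≃* SL(2, ZMod 5) × Multiplicative (ZMod p)) :=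
    fun p hp hM => by
      haveI := Fact.mk hp
      exact ⟨e2.trans (e1.prodCongr (mulEquivOfPrimeCardEq hM (by simp)))⟩
  rw [e, H08.card_A5] at c2
  have t8 : t < 6 := by nlinarith
  interval_cases t
  · omega
  · exact Or.inr (Or.inr ⟨by rw [s2, show Nat.card M = 29 by omega]; rfl, k3 29 (by norm_num) (by omega)⟩)
  · exact Or.inr (Or.inl ⟨by rw [s2, show Nat.card M = 7 by omega]; rfl, k3 7 (by norm_num) (by omega)⟩)
  · omega
  · omega
  · refine Or.inl ⟨by rw [s2, show Nat.card M = 1 by omega]; rfl, ⟨?_⟩⟩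
    rw [card_eq_one.1 (show Nat.card M = 1 by omega), sup_bot_eq] at m7
    exact (topEquiv.symm.trans (MulEquiv.subgroupCongr m7.symm)).trans e1

omit hρ in
theorem Tr.reg_index_two [Group.IsSolvable G] (q2 : q ≠ 2) : (∃ N : Subgroup G, N.Normal ∧ N.index = 2) ∨
    (Nat.card V = 25 ∧ Nonempty (G ≃* SL(2, ZMod 3))) ∨
    (Nat.card V = 121 ∧ Nonempty (G ≃* SL(2, ZMod 3) × Multiplicative (ZMod 5))) := by
  have hF : IsFC G := hs.isFC.of_equiv topEquiv.symm
  by_cases h2 : HasNormalPComplement 2 G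
  · obtain ⟨P, N, _, hc⟩ := h2
    obtain ⟨H, hH⟩ := H08.exists_index_eq_prime_of_isComplement P.isPGroup' (P.ne_bot_of_dvd_card (by
      rw [h.card_eq hs, Module.natCard_eq_pow_finrank (K := ZMod q), Nat.card_zmod]
      exact (Nat.Odd.sub_odd ((Fact.out : q.Prime).odd_of_ne_two q2).pow odd_one).two_dvd)) hc
    exact Or.inl ⟨H, normal_of_index_eq_two hH, hH⟩
  obtain ⟨⟨e⟩, g, ⟨n, g1⟩, g2⟩ := hF.q8_normal h2
  obtain ⟨f, k1, -, -, k2, M, m1, m2, m3, m4⟩ := hF.c4 e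
  rcases alt_le' (k2 g ⟨n, g1⟩ g2) with r | r
  · refine Or.inl ⟨(alternatingGroup (Fin 4)).comap f, inferInstance, ?_⟩
    rw [index_comap_of_surjective _ (MonoidHom.range_eq_top.1 r), alternatingGroup.index_eq_two]
  right
  obtain ⟨-, s, s1, s2, s3⟩ := q8_card' e (hs.mono _)
  obtain ⟨t, ht⟩ := s3 f.ker k1.le (hs.mono _)
  have c0 := f.ker.index_mul_card
  rw [index_ker, m4, r, show Nat.card (alternatingGroup (Fin 4)) = 12 by
    rw [nat_card_alternatingGroup, Nat.card_fin]; rfl] at c0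
  have c1 := c0
  rw [h.card_eq hs, s2] at c1
  rw [m4] at ht
  obtain rfl : s = 2 * Nat.card M * t + 1 := by omega
  have m0 : 0 < Nat.card M := Nat.card_pos
  have c2 : 12 = 2 * (t * (Nat.card M * t + 1)) := Nat.eq_of_mul_eq_mul_right (m := 2 * Nat.card M)
    (by omega) (by rw [c1]; exact Nat.sub_eq_of_eq_add (by ring))
  have t3 : t < 3 := by nlinarith
  have c3 : (Nat.card M = 1 ∧ t = 2) ∨ (Nat.card M = 5 ∧ t = 1) := by interval_cases t <;> omega
  have g3 : orderOf g = 3 := by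
    have := orderOf_dvd_natCard g
    rw [g1, ← c0] at this
    rcases n with _ | _ | n
    · exact (g2 (by rw [orderOf_eq_one_iff.1 g1]; exact one_mem _)).elim
    · exact g1
    · have := (pow_dvd_pow 3 (show 2 ≤ n + 1 + 1 by omega)).trans this
      omega
  rcases hF.three with h1 | ⟨θ, h1, h3⟩ | ⟨θ, h1, h3⟩
  · refine (g2 fun x hx => ?_).elim
    rcases h1 (x * g * x⁻¹) g (by rwa [orderOf_cj]) g3 with a | a
    · exact mul_inv_eq_iff_eq_mul.1 a
    · have a1 : x * (g * x⁻¹ * g⁻¹) ∈ pCore 2 G := mul_mem hx (Normal.conj_mem inferInstance _ (inv_mem hx) g)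
      have a2 : x * (g * x⁻¹ * g⁻¹) = g := by
        rw [← mul_assoc, ← mul_assoc, a, ← _root_.mul_inv_rev, inv_eq_iff_mul_eq_one, ← pow_orderOf_eq_one g, g3]
        simp only [pow_succ, pow_zero, one_mul]
      have := (pCore 2 G).orderOf_dvd_natCard (a2 ▸ a1)
      rw [Nat.card_congr e.toEquiv, card_q8, g3] at this
      omega
  · let e1 : L3 G ≃* SL(2, ZMod 3) := ((MonoidHom.ofInjective h1).trans (MulEquiv.subgroupCongr h3)).symm
    have l1 : Nat.card (L3 G) = 24 := by rw [Nat.card_congr e1.toEquiv, card_sl23]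
    rcases c3 with ⟨a, rfl⟩ | ⟨a, rfl⟩
    · refine Or.inl ⟨by rw [s2, a]; rfl, ⟨(topEquiv.symm.trans (MulEquiv.subgroupCongr (eq_top_of_card_eq _ ?_).symm)).trans e1⟩⟩
      omega
    · have l2 : L3 G ⊓ M = ⊥ := inf_eq_bot_of_coprime (by rw [l1, a]; norm_num)
      obtain ⟨e2⟩ := prod_equiv (A := L3 G) (B := M)
        (fun x hx y hy => commute_of_normal_of_disjoint _ _ inferInstance m1 (disjoint_iff.2 l2) x y hx hy) l2 (by
          refine eq_top_of_card_eq _ (Nat.dvd_antisymm (card_subgroup_dvd_card _) ?_)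
          rw [← c0, a]
          exact Nat.Coprime.mul_dvd_of_dvd_of_dvd (m := 24) (n := 5) (by norm_num) (l1 ▸ card_dvd_of_le le_sup_left)
            (a ▸ card_dvd_of_le le_sup_right))
      exact Or.inr ⟨by rw [s2, a]; rfl, ⟨e2.trans (e1.prodCongr (mulEquivOfPrimeCardEq a (by simp)))⟩⟩
  · exact absurd (h1 ((perfect_hom θ (-1)).trans (map_one θ).symm)) (by decide)

omit h hρ hs [Nontrivial V] [Finite G] in
/-- unpacking the hypotheses of S0684–S0688 -/
theorem reg_setup (H : Subgroup (V ≃ₗ[ZMod q] V))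
    (hreg : ∀ v w : V, v ≠ 0 → w ≠ 0 → ∃! h : H, (h : V ≃ₗ[ZMod q] V) v = w) :
    Finite H ∧ Tr H.subtype ∧ SRg H.subtype ⊤ ∧ ((∀ A : Subgroup H, A.Normal → IsCyclic A →
      ∃ W : Submodule (ZMod q) V, W ≠ ⊥ ∧ W ≠ ⊤ ∧ ∀ a ∈ A, ∀ v ∈ W, ((a : H) : V ≃ₗ[ZMod q] V) v ∈ W) →
      Nontrivial V ∧ ∀ A : Subgroup H, A.Normal → IsMulCommutative A → IsCyclic A ∧ ¬ Irr H.subtype A) := by
  haveI : Finite (V ≃ₗ[ZMod q] V) := Finite.of_injective _ (DFunLike.coe_injective (F := V ≃ₗ[ZMod q] V))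
  have h1 : Tr H.subtype := fun v w hv hw => (hreg v w hv hw).exists
  refine ⟨inferInstance, h1, fun n _ v hv e => (hreg v v hv hv).unique e rfl, fun hI => ?_⟩
  obtain ⟨W, h2, -⟩ := hI ⊥ inferInstance inferInstance
  obtain ⟨w, -, hw⟩ := (Submodule.ne_bot_iff W).1 h2
  haveI : Nontrivial V := ⟨w, 0, hw⟩
  refine ⟨inferInstance, fun A An Ac => ?_⟩
  have hc := h1.isCyclic_of_comm H.subtype_injective (comm_of Ac)
  obtain ⟨W, a, b, c⟩ := hI A An hc
  exact ⟨hc, fun e => (e W c).elim a b⟩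

end H18
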