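import Mathlib
import Cfsg.Agent.H18.FC9

/-!
# Huppert's theorem for automorphism groups of elementary abelian groups (helper18)

* `autLin : MulAut V →* GL(V)`, `huppert_aut` (transitive up to inversion).
-/

set_option autoImplicit false

namespace H18
open Subgroup

/-- automorphisms of an elementary abelian group as linear maps -/
def autLin (p : ℕ) (V : Type*) [CommGroup V] [Module (ZMod p) (Additive V)] :
    MulAut V →* (Additive V ≃ₗ[ZMod p] Additive V) where
  toFun φ := { MulEquiv.toAdditive φ with map_smul' := ZMod.map_smul (MulEquiv.toAdditive φ) }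
  map_one' := rfl
  map_mul' _ _ := rfl

theorem autLin_inj (p : ℕ) (V : Type*) [CommGroup V] [Module (ZMod p) (Additive V)] :
    Function.Injective (autLin p V) := fun _ _ e => MulEquiv.ext fun v => LinearEquiv.congr_fun e (Additive.ofMul v)

theorem huppert_aut {p : ℕ} [Fact p.Prime] {V G : Type*} [CommGroup V] [Finite V] [Nontrivial V]
    (hp : ∀ x : V, x ^ p = 1) [Group G] [Group.IsSolvable G] (φ : G →* MulAut V)
    (ht : ∀ x y : V, x ≠ 1 → y ≠ 1 → ∃ g, φ g x = y ∨ φ g x = y⁻¹) :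
    (∃ (F : Type) (_ : Field F) (_ : Fintype F) (e : Additive V ≃+ F),
      ∀ g : G, ∃ (a : F) (σ : F ≃+* F), ∀ v : V, e (.ofMul (φ g v)) = a * σ (e (.ofMul v))) ∨
    Nat.card V ∈ ({9, 25, 49, 121, 529, 81} : Set ℕ) := by
  letI : Module (ZMod p) (Additive V) := AddCommGroup.zmodModule (n := p) fun x => hp x.toMul
  let ψ := φ.noncommCoprod (zpowers (MulEquiv.inv V : MulAut V)).subtype fun g ⟨_, n, rfl⟩ =>
    Commute.zpow_right (MulEquiv.ext fun x => map_inv (φ g) x) n
  haveI : Group.IsSolvable ψ.range := solvable_of_surjective ψ.rangeRestrict_surjective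
  have h : Tr ((autLin p V).comp ψ.range.subtype) := fun x y hx hy => by
    obtain ⟨g, e | e⟩ := ht x.toMul y.toMul hx hy
    · exact ⟨⟨_, (g, 1), rfl⟩, e⟩
    · exact ⟨⟨_, (g, ⟨_, mem_zpowers _⟩), rfl⟩, (map_inv (φ g) _).trans (inv_eq_iff_eq_inv.2 e)⟩
  refine (h.huppert ((autLin_inj p V).comp ψ.range.subtype_injective)).imp ?_ id
  rintro ⟨F, i1, i2, e, he⟩
  exact ⟨F, i1, i2, e, fun g => he ⟨_, (g, 1), rfl⟩⟩

end H18
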