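import Mathlib
import Cfsg.Agent.H18.Loc3

/-!
# The group `3³ : 2²`: finite checks (helper18)

Data for `H18.Col.card_108`.
-/

set_option autoImplicit false

open Cfsg H05 Subgroup DihedralGroup
open scoped ComplexConjugate

namespace H18.Col

namespace S27

abbrev Z3 := Multiplicative (ZMod 3)
abbrev V := Z3 × Z3 × Z3

def i12 : MulAut V where
  toFun v := (v.1⁻¹, v.2.1⁻¹, v.2.2)
  invFun v := (v.1⁻¹, v.2.1⁻¹, v.2.2)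
  left_inv := by decide
  right_inv := by decide
  map_mul' := by decide +kernel

def i13 : MulAut V where
  toFun v := (v.1⁻¹, v.2.1, v.2.2⁻¹)
  invFun v := (v.1⁻¹, v.2.1, v.2.2⁻¹)
  left_inv := by decide
  right_inv := by decide
  map_mul' := by decide +kernel

def α : DihedralGroup 2 →* MulAut V :=
  H08.dihedralHom (r := i12) (s := i13) (MulEquiv.ext (by decide)) (MulEquiv.ext (by decide)) (MulEquiv.ext (by decide))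

abbrev K := V ⋊[α] DihedralGroup 2

instance : Fintype K := Fintype.ofEquiv _ SemidirectProduct.equivProd.symm

def g : Z3 := .ofAdd 1
def x0 : K := ⟨(g, g, g), 1⟩
def rq : Fin 9 → K := ![⟨(g, 1, 1), 1⟩, ⟨(1, g, 1), 1⟩, ⟨(1, 1, g), 1⟩, ⟨(g, g, 1), 1⟩, ⟨(g, 1, g), 1⟩, ⟨(1, g, g), 1⟩,
  ⟨(g, 1, 1), sr 1⟩, ⟨(1, g, 1), sr 0⟩, ⟨(1, 1, g), r 1⟩]
def rp : Fin 14 → K := ![x0, rq 0, rq 1, rq 2, rq 3, rq 4, rq 5, rq 6, rq 7, rq 8, 1, ⟨1, sr 1⟩, ⟨1, sr 0⟩, ⟨1, r 1⟩]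
def gm : Fin 9 → ℕ := ![54, 54, 54, 27, 27, 27, 6, 6, 6]

def cl (x : K) : Fin 14 :=
  if x.right = 1 then
    (if x.left.1 = 1 then (if x.left.2.1 = 1 then (if x.left.2.2 = 1 then 10 else 3) else (if x.left.2.2 = 1 then 2 else 6))
    else (if x.left.2.1 = 1 then (if x.left.2.2 = 1 then 1 else 5) else (if x.left.2.2 = 1 then 4 else 0)))
  else if x.right = sr 1 then (if x.left.1 = 1 then 11 else 7)
  else if x.right = sr 0 then (if x.left.2.1 = 1 then 12 else 8) else (if x.left.2.2 = 1 then 13 else 9)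

def U (d : DihedralGroup 2) (x : K) : Bool := x.right = 1 ∨ x.right = d

theorem m1 : MOk rp cl (U (sr 1)) (fun _ => 0) 1 ![16, 4, 4, 4, 8, 8, 8, 36, 0, 0, 2, 18, 0, 0] 54 := by decide +kernel
theorem m2 : MOk rp cl (U (sr 1)) (fun x => 2 * x.left.1.toAdd.val) ⟨1, r 1⟩
    ![-8, -2, 4, 4, -4, -4, 8, -18, 0, 0, 2, 18, 0, 0] 54 := by decide +kernel
theorem m3 : MOk rp cl (U (sr 0)) (fun _ => 0) 1 ![16, 4, 4, 4, 8, 8, 8, 0, 36, 0, 2, 0, 18, 0] 54 := by decide +kernel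
theorem m4 : MOk rp cl (U (sr 0)) (fun x => 2 * x.left.2.1.toAdd.val) ⟨1, r 1⟩
    ![-8, 4, -2, 4, -4, 8, -4, 0, -18, 0, 2, 0, 18, 0] 54 := by decide +kernel
theorem m5 : MOk rp cl (U (r 1)) (fun _ => 0) 1 ![16, 4, 4, 4, 8, 8, 8, 0, 0, 36, 2, 0, 0, 18] 54 := by decide +kernel
theorem m6 : MOk rp cl (U (r 1)) (fun x => 2 * x.left.2.2.toAdd.val) ⟨1, sr 0⟩
    ![-8, 4, 4, -2, 8, -4, -4, 0, 0, -18, 2, 0, 0, 18] 54 := by decide +kernel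

theorem f0 : ∀ j : Fin 13, rp j.succ ^ 6 = 1 ∧ ∃ g, g * rp j.succ * g⁻¹ = (rp j.succ)⁻¹ := by decide +kernel
theorem f1 : ROk rq gm := by decide +kernel
theorem f2 : COk (rq 0) (rq 1) (rq 0) 0 ∧ COk (rq 0) (rq 2) (rq 0) 0 ∧ COk (rq 0) (rq 1) (rq 1) 0 ∧
    COk (rq 0) (rq 3) (rq 0) 0 ∧ COk (rq 0) (rq 5) (rq 0) 0 ∧ COk (rq 0) (rq 1) (rq 3) 2916 := by decide +kernel
set_option synthInstance.maxSize 2000 in
theorem f3 : x0 ^ 3 = 1 ∧ Sg x0 ∧ Sg x0⁻¹ ∧ (∀ g, g * x0 * g⁻¹ ≠ x0⁻¹) ∧ (∀ i g, g * x0 * g⁻¹ ≠ rq i) ∧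
    (∀ i g, g * x0⁻¹ * g⁻¹ ≠ rq i) ∧ (Finset.univ.filter fun y => y * x0 = x0 * y).card = 27 ∧
    rq 3 ^ 3 = 1 ∧ rq 4 ^ 3 = 1 ∧ rq 5 ^ 3 = 1 := by decide +kernel

def w : Fin 30 → Fin 10 → ℤ :=
  ![![0, 0, 0, 0, 0, 0, 0, 0, 0, 0], ![2, 1, 1, 1, 1, 1, 1, 1, -1, -1], ![2, 1, 1, 1, 1, 1, 1, -1, 1, -1], ![2, 1, 1,
  1, 1, 1, 1, -1, -1, 1], ![-2, -1, 2, 2, -1, -1, 2, 1, 0, 0], ![-2, -1, 2, 2, -1, -1, 2, -1, 0, 0], ![-2, 2, -1, 2,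
  -1, 2, -1, 0, 1, 0], ![-2, 2, -1, 2, -1, 2, -1, 0, -1, 0], ![-2, 2, 2, -1, 2, -1, -1, 0, 0, 1], ![-2, 2, 2, -1, 2,
  -1, -1, 0, 0, -1], ![2, 4, -2, -2, -2, -2, 1, 0, 0, 0], ![2, -2, 4, -2, -2, 1, -2, 0, 0, 0], ![2, -2, -2, 4, 1, -2,
  -2, 0, 0, 0], ![-1, -2, -2, -2, 1, 1, 1, 0, 0, 0], ![1, -4, -4, 2, 2, -1, -1, 0, 0, 0], ![1, -4, 2, -4, -1, 2, -1,
  0, 0, 0], ![-3, -3, 0, 0, 0, 0, 3, -1, 0, 0], ![-3, -3, 0, 0, 0, 0, 3, 1, 0, 0], ![-1, -2, 4, 4, 1, 1, -2, 0, 0,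
  0], ![-2, -1, -1, -1, -1, -1, -1, -1, -1, 1], ![-2, -1, -1, -1, -1, -1, -1, -1, 1, -1], ![-2, -1, -1, -1, -1, -1,
  -1, 1, -1, -1], ![-2, -1, -1, -1, -1, -1, -1, 1, 1, 1], ![-3, 0, -3, 0, 0, 3, 0, 0, -1, 0], ![-3, 0, -3, 0, 0, 3,
  0, 0, 1, 0], ![-3, 0, 0, -3, 3, 0, 0, 0, 0, -1], ![-3, 0, 0, -3, 3, 0, 0, 0, 0, 1], ![0, 0, 0, 0, 0, 0, 0, -2, 0,
  0], ![0, 0, 0, 0, 0, 0, 0, 0, -2, 0], ![0, 0, 0, 0, 0, 0, 0, 0, 0, -2]]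

set_option synthInstance.maxSize 4000 in
theorem types : ∀ u ∈ Finset.Icc (-7 : ℤ) 7, ∀ x ∈ Finset.Icc (-5 : ℤ) 5, (x + u) % 3 = 0 →
    ∀ y ∈ Finset.Icc (-5 : ℤ) 5, (y + u) % 3 = 0 → ∀ z ∈ Finset.Icc (-5 : ℤ) 5, (z + u) % 3 = 0 →
    ∀ a ∈ Finset.Icc (-7 : ℤ) 7, (a + 2 * x + 2 * y + 2 * u) % 9 = 0 →
    ∀ b ∈ Finset.Icc (-7 : ℤ) 7, (b + 2 * x + 2 * z + 2 * u) % 9 = 0 →
    ∀ c ∈ Finset.Icc (-7 : ℤ) 7, (c + 2 * y + 2 * z + 2 * u) % 9 = 0 →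
    u * u + a * a + b * b + c * c + 2 * x * x + 2 * y * y + 2 * z * z ≤ 54 →
    ∀ P ∈ Finset.Icc (-2 : ℤ) 2, (a + P) % 2 = 0 → ∀ Q ∈ Finset.Icc (-2 : ℤ) 2, (b + Q) % 2 = 0 →
    ∀ R ∈ Finset.Icc (-2 : ℤ) 2, (c + R) % 2 = 0 →
    (u * u + a * a + b * b + c * c + 2 * x * x + 2 * y * y + 2 * z * z + 9 * P * P + 9 * Q * Q + 9 * R * R) ^ 2 +
      (2 * u + a + b + c + 2 * x + 2 * y + 2 * z + 9 * P + 9 * Q + 9 * R) ^ 2 ≤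
      54 * (u * u + a * a + b * b + c * c + 2 * x * x + 2 * y * y + 2 * z * z + 9 * P * P + 9 * Q * Q + 9 * R * R) →
    ∃ j, ![u, a, b, c, x, y, z, P, Q, R] = w j ∨ ![u, a, b, c, x, y, z, P, Q, R] = -w j := by
  decide +kernel

def gm' : Fin 10 → ℤ := ![54, 54, 54, 54, 27, 27, 27, 6, 6, 6]
def tr : Fin 10 → ℤ := ![2, 1, 1, 1, 1, 1, 1, 1, 1, 1]
def QQ : List (List (Fin 10 × Fin 10 × ℤ)) :=
  [[(1,8,-27), (1,9,-27), (4,8,-54), (5,9,-54), (7,8,-81), (7,9,-81)], [(0,7,-27), (1,9,-27), (5,9,-54), (6,7,-27),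
  (7,8,-81), (8,9,-81)], [(0,7,-27), (1,8,-27), (4,8,-54), (6,7,-27), (7,9,-81), (8,9,-81)], [(0,4,36), (0,7,-27),
  (1,2,6), (1,4,30), (2,2,-32), (2,4,-68), (2,6,-48), (2,7,81), (3,3,8), (3,5,32), (4,4,28), (4,5,36), (4,6,-96),
  (5,5,32), (6,7,-27)], [(0,4,36), (0,7,27), (1,2,6), (1,4,30), (2,2,-32), (2,4,-68), (2,6,-48), (2,7,-81), (3,3,8),
  (3,5,32), (4,4,28), (4,5,36), (4,6,-96), (5,5,32), (6,7,27)], [(0,4,36), (1,2,6), (1,4,12), (1,8,54), (2,2,-32),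
  (2,4,-50), (2,6,-48), (3,3,8), (3,5,32), (4,4,28), (4,6,-60), (4,8,-54), (5,5,32)], [(0,4,36), (1,2,6), (1,4,12),
  (1,8,-54), (2,2,-32), (2,4,-50), (2,6,-48), (3,3,8), (3,5,32), (4,4,28), (4,6,-60), (4,8,54), (5,5,32)], [(0,4,36),
  (1,2,6), (1,4,12), (1,9,54), (2,2,-20), (2,4,-20), (2,6,-48), (3,3,-4), (3,5,2), (4,4,40), (4,6,-60), (5,5,20),
  (5,9,-54)], [(0,4,36), (1,2,6), (1,4,12), (1,9,-54), (2,2,-20), (2,4,-20), (2,6,-48), (3,3,-4), (3,5,2), (4,4,40),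
  (4,6,-60), (5,5,20), (5,9,54)], [(0,4,36), (1,2,-12), (1,4,-24), (2,2,-8), (2,4,10), (2,6,-30), (3,3,-16),
  (3,5,-28), (4,4,52), (4,6,-24), (5,5,8)], [(0,4,36), (1,2,-12), (1,4,-6), (1,5,18), (2,2,-8), (2,4,-8), (2,6,-48),
  (3,3,-16), (3,5,-28), (4,4,52), (4,6,-24), (5,5,8)], [(0,4,36), (1,2,-12), (1,4,-24), (1,5,36), (2,2,-8), (2,4,28),
  (2,6,-48), (3,3,-16), (3,5,-64), (4,4,52), (4,6,-24), (5,5,8)], [(0,4,108), (1,2,48), (1,4,60), (2,2,-112),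
  (2,4,-184), (2,6,-204), (3,3,28), (3,5,76), (4,4,80), (4,5,108), (4,6,-228), (5,5,112)], [(0,4,-36), (1,4,-18),
  (1,5,-18), (2,2,36), (2,4,36), (2,6,72), (4,4,-36), (4,5,-36), (4,6,72), (5,5,-36)], [(0,4,-36), (1,5,-36),
  (2,2,24), (2,4,24), (2,6,72), (3,3,12), (3,5,12), (4,4,-48), (4,5,-36), (4,6,72), (5,5,-24)], [(0,4,-36), (1,1,18),
  (1,4,18), (1,5,36), (2,7,54), (4,4,-36), (4,5,36), (6,7,-54)], [(0,4,-36), (1,1,18), (1,4,18), (1,5,36), (2,7,-54),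
  (4,4,-36), (4,5,36), (6,7,54)], [(0,4,-36), (2,2,24), (2,4,24), (2,6,36), (3,3,12), (3,5,12), (4,4,-48), (4,6,36),
  (5,5,-24)], [(0,7,27), (1,2,-3), (1,4,-6), (1,8,27), (2,2,16), (2,4,34), (2,6,24), (3,3,-4), (3,5,-16), (4,4,4),
  (4,6,48), (4,8,54), (5,5,-16), (6,7,27), (7,8,81)], [(0,7,27), (1,2,-3), (1,4,-6), (1,9,27), (2,2,16), (2,4,34),
  (2,6,24), (3,3,-4), (3,5,-16), (4,4,4), (4,6,48), (5,5,-16), (5,9,54), (6,7,27), (7,9,81)], [(1,2,-3), (1,4,-6),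
  (1,8,27), (1,9,27), (2,2,16), (2,4,34), (2,6,24), (3,3,-4), (3,5,-16), (4,4,4), (4,6,48), (4,8,54), (5,5,-16),
  (5,9,54), (8,9,81)], [(1,2,-3), (1,4,-6), (2,2,16), (2,4,34), (2,6,24), (3,3,-4), (3,5,-16), (4,4,4), (4,6,48),
  (5,5,-16), (7,8,81), (7,9,81), (8,9,81)], [(0,4,-36), (2,2,18), (2,4,18), (2,6,36), (2,8,54), (4,4,-36), (4,6,36),
  (4,8,-54)], [(0,4,-36), (2,2,18), (2,4,18), (2,6,36), (2,8,-54), (4,4,-36), (4,6,36), (4,8,54)], [(0,4,-36),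
  (2,2,12), (2,4,12), (2,6,36), (3,3,6), (3,5,6), (3,9,54), (4,4,-24), (4,6,36), (5,5,-12), (5,9,-54)], [(0,4,-36),
  (2,2,12), (2,4,12), (2,6,36), (3,3,6), (3,5,6), (3,9,-54), (4,4,-24), (4,6,36), (5,5,-12), (5,9,54)], [(1,1,-9),
  (1,4,-18), (1,5,-18), (4,5,-36), (7,7,81)], [(2,2,-9), (2,4,-18), (2,6,-18), (4,6,-36), (8,8,81)], [(2,2,-12),
  (2,4,-30), (2,6,-18), (3,3,3), (3,5,12), (4,4,-12), (4,6,-36), (5,5,12), (9,9,81)]]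

theorem cert : ∀ j : Fin 29, (∀ i, ((QQ.getD j []).map fun t => t.2.2 * (w i t.1 * w i t.2.1)).sum =
      if i = j.succ then 324 else 0) ∧
    ((QQ.getD j []).map fun t => t.2.2 * ((if t.1 = t.2.1 then gm' t.1 else 0) - tr t.1 * tr t.2.1)).sum =
      324 * ((if j.val < 12 then 1 else if j.val = 12 then 2 else 0 : ℕ) : ℤ) := by decide +kernel

abbrev P9 := Equiv.Perm (Fin 9)
def pa : P9 := Equiv.swap 0 1 * Equiv.swap 1 2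
def pb : P9 := Equiv.swap 3 4 * Equiv.swap 4 5
def pc : P9 := Equiv.swap 6 7 * Equiv.swap 7 8
def ps : P9 := Equiv.swap 0 1 * Equiv.swap 3 4
def pt : P9 := Equiv.swap 0 1 * Equiv.swap 6 7

def φ : V →* P9 := MonoidHom.mk' (fun v => pa ^ v.1.toAdd.val * pb ^ v.2.1.toAdd.val * pc ^ v.2.2.toAdd.val)
  (by decide +kernel)
def ψ : DihedralGroup 2 →* P9 :=
  H08.dihedralHom (r := ps) (s := pt) (by decide +kernel) (by decide +kernel) (by decide +kernel)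
def θ : K →* P9 := SemidirectProduct.lift φ ψ fun d => MonoidHom.ext
  ((by decide +kernel : ∀ d v, φ (α d v) = ψ d * φ v * (ψ d)⁻¹) d)

theorem θ_inj : ∀ x, θ x = 1 → x = 1 := by decide +kernel
theorem θ_gen : θ (rq 0) = pa ∧ θ (rq 1) = pb ∧ θ (rq 2) = pc ∧ θ ⟨1, r 1⟩ = ps ∧ θ ⟨1, sr 0⟩ = pt := by decide +kernel
theorem K_gen : ∀ x : K, ∃ i j k : Fin 3, ∃ l m : Fin 2,
    x = rq 0 ^ i.val * rq 1 ^ j.val * rq 2 ^ k.val * ⟨1, r 1⟩ ^ l.val * ⟨1, sr 0⟩ ^ m.val := by decide +kernel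
theorem K_three : ∀ x : K, x ^ 27 = 1 → x.right = 1 := by decide +kernel
theorem cardK : Fintype.card K = 108 := by decide +kernel

end S27

end H18.Col
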