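import Mathlib
import Cfsg.Agent.H18.Loc4
import Cfsg.Agent.H18.Knap

/-!
# Groups controlled by the Frobenius groups `3² : 2` and `3² : 4` (helper18)

`H18.Col.false_18`, `H18.Col.card_360`.
-/

set_option autoImplicit false

open Cfsg H05 Subgroup

namespace H18.Col

def α2 : Multiplicative (ZMod 2) →* MulAut V9 := pw (MulEquiv.inv V9) (MulEquiv.ext (by decide))
def αc : Multiplicative (ZMod 4) →* MulAut V9 := pw rot (MulEquiv.ext (by decide))

namespace S2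

abbrev K := V9 ⋊[α2] Multiplicative (ZMod 2)

def rp : Fin 5 → K := ![⟨ea, 1⟩, ⟨eb, 1⟩, ⟨ea * eb, 1⟩, ⟨ea * eb⁻¹, 1⟩, 1]
def cl (x : K) : Fin 5 :=
  if x.left.1 = 1 then (if x.left.2 = 1 then 4 else 1) else if x.left.2 = 1 then 0 else if x.left.1 = x.left.2 then 2 else 3
def U (x : K) : Bool := x.right = 1
def t0 : K := ⟨1, .ofAdd 1⟩
def ch (i j : ℕ) (x : K) : ZMod 6 := 2 * (i * x.left.1.toAdd.val + j * x.left.2.toAdd.val)

theorem m0 : MOk rp cl U (ch 0 0) t0 ![4, 4, 4, 4, 2] 9 := by decide +kernel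
theorem m1 : MOk rp cl U (ch 0 1) t0 ![4, -2, -2, -2, 2] 9 := by decide +kernel
theorem m2 : MOk rp cl U (ch 1 0) t0 ![-2, 4, -2, -2, 2] 9 := by decide +kernel
theorem m3 : MOk rp cl U (ch 1 2) t0 ![-2, -2, 4, -2, 2] 9 := by decide +kernel
theorem m4 : MOk rp cl U (ch 1 1) t0 ![-2, -2, -2, 4, 2] 9 := by decide +kernel

def rq (i : Fin 4) : K := rp (i.castAdd 1)
def gm : Fin 4 → ℕ := ![9, 9, 9, 9]

theorem f0 : ∀ j, rp j ^ 6 = 1 ∧ ∃ g, g * rp j * g⁻¹ = (rp j)⁻¹ := by decide +kernel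
theorem f1 : ROk rq gm := by decide +kernel
theorem f2 : COk (rq 0) (rq 1) (rq 0) 0 := by decide +kernel

def w : Fin 6 → Fin 4 → ℤ := ![![0, 0, 0, 0], ![1, 1, 1, 1], ![-2, 1, 1, 1], ![1, -2, 1, 1], ![1, 1, -2, 1], ![1, 1, 1, -2]]

theorem types : ∀ p ∈ Finset.Icc (-3 : ℤ) 3, ∀ q ∈ Finset.Icc (-3 : ℤ) 3, ∀ r ∈ Finset.Icc (-3 : ℤ) 3,
    ∀ s ∈ Finset.Icc (-3 : ℤ) 3, (p - q) % 3 = 0 → (p - r) % 3 = 0 → (p - s) % 3 = 0 →
    (p * p + q * q + r * r + s * s) ^ 2 + (p + q + r + s) ^ 2 ≤ 9 * (p * p + q * q + r * r + s * s) →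
    ∃ j, ![p, q, r, s] = w j ∨ ![p, q, r, s] = -w j := by
  decide +kernel

theorem dec (n : Fin 6 → ℕ) (h : ∀ a b, (if a = b then (gm a : ℤ) else 0) = 1 * 1 + ∑ j, (n j : ℤ) * (w j a * w j b)) :
    List.ofFn (fun j : Fin 5 => n j.succ) = [1, 1, 1, 1, 1] :=
  of_decide_eq_true <| Knap.gram (fun j => w j.succ) (fun a b => (if a = b then (gm a : ℤ) else 0) - 1) _
    (fun a b => by
      rw [h, Fin.sum_univ_succ, show w 0 a = 0 by fin_cases a <;> rfl]; ring) _ _ 20 (fun l => l = [1, 1, 1, 1, 1]) rfl rfl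
    (by decide +kernel)

variable {G : Type*} [Group G] [Finite G] {f : K →* G}

theorem adm (h : Loc f) (hG : ∀ φ : G →* ℂˣ, φ = 1) (χ : IrrCharacter G) (hχ : χ ≠ triv G) :
    ∃ j, ((fun i => iv χ (f (rq i))) = w j ∧ dg χ ≠ 1) ∨ ((fun i => iv χ (f (rq i))) = -w j ∧ -dg χ ≠ 1) := by
  have hv : ∀ j, re2 χ (f (rp j)) = (2 * iv χ (f (rp j)) : ℤ) := fun j => (Loc.rt f (f0 j).1 (f0 j).2).re2 χ
  obtain ⟨n1, h1⟩ := mult_int f m1 χ _ hv
  obtain ⟨n2, h2⟩ := mult_int f m2 χ _ hv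
  obtain ⟨n3, h3⟩ := mult_int f m3 χ _ hv
  obtain ⟨n4, h4⟩ := mult_int f m4 χ _ hv
  have b := bessel (fun χ i => iv χ (f (rq i))) ![1, 1, 1, 1] 9
    (fun a b => by rw [h.orths f1]; fin_cases a <;> fin_cases b <;> rfl) hχ
  have bx := fun a n hn h2 => mem_box (fun a => by fin_cases a <;> decide) b (by norm_num) a (n := n) hn h2
  have ev : (fun i => iv χ (f (rq i))) = ![iv χ (f (rq 0)), iv χ (f (rq 1)), iv χ (f (rq 2)), iv χ (f (rq 3))] := by
    ext i; fin_cases i <;> rfl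
  simp only [Fin.sum_univ_succ, Fin.sum_univ_zero, iv_triv, Matrix.cons_val_zero, Matrix.cons_val_succ,
    Fin.succ_zero_eq_one, Fin.succ_one_eq_two, Fin.reduceSucc, show rp 0 = rq 0 from rfl, show rp 1 = rq 1 from rfl,
    show rp 2 = rq 2 from rfl, show rp 3 = rq 3 from rfl] at h1 h2 h3 h4 b
  obtain ⟨j, hj⟩ := types _ (bx 0 3 (by norm_num) (by decide)) _ (bx 1 3 (by norm_num) (by decide))
    _ (bx 2 3 (by norm_num) (by decide)) _ (bx 3 3 (by norm_num) (by decide))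
    (by omega) (by omega) (by omega) (by linarith)
  have := dg_pos χ
  rw [ev]
  exact ⟨j, hj.imp (fun e => ⟨e, fun e => hχ (eq_triv_of_dg hG e)⟩) fun e => ⟨e, by omega⟩⟩

end S2

open S2 in
theorem false_18 {G : Type*} [Group G] [Finite G] {f : S2.K →* G} (h : Loc f) (hG : ∀ φ : G →* ℂˣ, φ = 1) : False := by
  obtain ⟨M, a1, a2, a3, a4⟩ := extract (fun χ i => iv χ (f (rq i))) w (fun _ d => d ≠ 1) (adm h hG)
  have g0 : Nat.card G ≠ 0 := Nat.card_pos.ne'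
  have nz : ∀ j, ∀ x ∈ M j, x ≠ 0 := fun j x hx e => g0 (by simpa [e] using (a1 j x hx).2.1)
  simp only [h.orths f1, h.orthd f1, iv_triv] at a2 a3 a4
  have c1 := (h.cubs f1 f2).symm.trans (a4 _ _ _)
  have l0 := a3 0
  have l1 := a3 1
  have l2 := a3 2
  have l3 := a3 3
  have hn := dec (fun j => (M j).card) a2
  simp [Fin.sum_univ_succ, w] at c1 l0 l1 l2 l3
  simp only [List.ofFn_succ, List.ofFn_zero, List.cons.injEq, and_true,
    Fin.succ_zero_eq_one, Fin.succ_one_eq_two, Fin.reduceSucc, Multiset.card_eq_one] at hn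
  obtain ⟨⟨A, e1⟩, ⟨B, e2⟩, ⟨C, e3⟩, ⟨D, e4⟩, ⟨E, e5⟩⟩ := hn
  have hA := (a1 1 A (by simp [e1])).1
  have hA0 : (A : ℚ) ≠ 0 := by exact_mod_cast nz 1 A (by simp [e1])
  have hB0 : (B : ℚ) ≠ 0 := by exact_mod_cast nz 2 B (by simp [e2])
  simp only [e1, e2, e3, e4, e5, Multiset.sum_singleton, Multiset.map_singleton] at c1 l0 l1 l2 l3
  obtain rfl : B = C := by omega
  obtain rfl : B = D := by omega
  obtain rfl : B = E := by omega
  have e : (B : ℚ) = -1 - A := by exact_mod_cast (by omega : B = -1 - A)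
  have : 1 + (A : ℚ)⁻¹ + 4 * (B : ℚ)⁻¹ = 0 := by linarith
  field_simp at this
  rw [e] at this
  have : ((A : ℚ) - 1) ^ 2 = 0 := by linear_combination -this
  exact hA (by exact_mod_cast sub_eq_zero.1 (pow_eq_zero_iff two_ne_zero |>.1 this))

namespace SC

abbrev K := V9 ⋊[αc] Multiplicative (ZMod 4)

def rp : Fin 3 → K := ![⟨ea, 1⟩, ⟨ea * eb, 1⟩, 1]
def cl (x : K) : Fin 3 := if x.left = 1 then 2 else if x.left.1 = 1 ∨ x.left.2 = 1 then 0 else 1
def U (x : K) : Bool := x.right = 1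
def t0 : K := ⟨1, .ofAdd 2⟩
def ch (i j : ℕ) (x : K) : ZMod 6 := 2 * (i * x.left.1.toAdd.val + j * x.left.2.toAdd.val)

theorem m0 : MOk rp cl U (ch 0 0) t0 ![8, 8, 2] 9 := by decide +kernel
theorem m1 : MOk rp cl U (ch 0 1) t0 ![2, -4, 2] 9 := by decide +kernel

def rq (i : Fin 2) : K := rp (i.castAdd 1)
def gm : Fin 2 → ℕ := ![9, 9]

theorem f0 : ∀ j, rp j ^ 6 = 1 ∧ ∃ g, g * rp j * g⁻¹ = (rp j)⁻¹ := by decide +kernel
theorem f1 : ROk rq gm := by decide +kernel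
theorem f2 : COk (rq 0) (rq 1) (rq 0) 162 := by decide +kernel

def w : Fin 4 → Fin 2 → ℤ := ![![0, 0], ![1, 1], ![-2, 1], ![1, -2]]

theorem types : ∀ p ∈ Finset.Icc (-3 : ℤ) 3, ∀ q ∈ Finset.Icc (-3 : ℤ) 3, (p - q) % 3 = 0 →
    (p * p + q * q) ^ 2 + (p + q) ^ 2 ≤ 9 * (p * p + q * q) → ∃ j, ![p, q] = w j ∨ ![p, q] = -w j := by
  decide +kernel

variable {G : Type*} [Group G] [Finite G] {f : K →* G}

theorem adm (h : Loc f) (hG : ∀ φ : G →* ℂˣ, φ = 1) (χ : IrrCharacter G) (hχ : χ ≠ triv G) :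
    ∃ j, ((fun i => iv χ (f (rq i))) = w j ∧ dg χ ≠ 1 ∧ (dg χ + 4 * w j 0 + 4 * w j 1) % 9 = 0) ∨
      ((fun i => iv χ (f (rq i))) = -w j ∧ -dg χ ≠ 1 ∧ (-dg χ + 4 * w j 0 + 4 * w j 1) % 9 = 0) := by
  have hv : ∀ j, re2 χ (f (rp j)) = (2 * iv χ (f (rp j)) : ℤ) := fun j => (Loc.rt f (f0 j).1 (f0 j).2).re2 χ
  obtain ⟨n1, h1⟩ := mult_int f m0 χ _ hv
  obtain ⟨n2, h2⟩ := mult_int f m1 χ _ hv
  have b := bessel (fun χ i => iv χ (f (rq i))) ![1, 1] 9
    (fun a b => by rw [h.orths f1]; fin_cases a <;> fin_cases b <;> rfl) hχ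
  have bx := fun a n hn h2 => mem_box (fun a => by fin_cases a <;> decide) b (by norm_num) a (n := n) hn h2
  have e5 : iv χ (f (rp 2)) = dg χ := by rw [show rp 2 = 1 from rfl, map_one]; rfl
  have ev : (fun i => iv χ (f (rq i))) = ![iv χ (f (rq 0)), iv χ (f (rq 1))] := by
    ext i; fin_cases i <;> rfl
  simp only [Fin.sum_univ_succ, Fin.sum_univ_zero, iv_triv, Matrix.cons_val_zero, Matrix.cons_val_succ,
    Fin.succ_zero_eq_one, Fin.succ_one_eq_two, e5, show rp 0 = rq 0 from rfl, show rp 1 = rq 1 from rfl] at h1 h2 b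
  obtain ⟨j, hj⟩ := types _ (bx 0 3 (by norm_num) (by decide)) _ (bx 1 3 (by norm_num) (by decide))
    (by omega) (by linarith)
  have := dg_pos χ
  rw [ev]
  refine ⟨j, hj.imp (fun e => ⟨e, fun e => hχ (eq_triv_of_dg hG e), ?_⟩) fun e => ⟨e, by omega, ?_⟩⟩
  · rw [← e]; simp only [Matrix.cons_val]; omega
  · rw [← neg_eq_iff_eq_neg.2 e]; simp only [Pi.neg_apply, Matrix.cons_val]; omega

theorem inv_ge {x : ℤ} {m : ℕ} (h : x ≤ -m ∨ 0 < x) (hm : 0 < m) : -(m : ℚ)⁻¹ ≤ (x : ℚ)⁻¹ := by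
  have hm' : (0 : ℚ) < m := by exact_mod_cast hm
  rcases h with h | h
  · have h' : (m : ℚ) ≤ -x := by exact_mod_cast (by omega : (m : ℤ) ≤ -x)
    have := inv_anti₀ hm' h'
    rw [inv_neg] at this
    linarith
  · have : (0 : ℚ) < x := by exact_mod_cast h
    have := inv_pos.2 this
    have := inv_pos.2 hm'
    linarith

end SC

open SC in
theorem card_360 {G : Type*} [Group G] [Finite G] {f : SC.K →* G} (h : Loc f) (hG : ∀ φ : G →* ℂˣ, φ = 1)
    (hi : f.range.index ≡ 1 [MOD 9]) : Nat.card G = 360 := by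
  obtain ⟨M, a1, a2, a3, a4⟩ := extract (fun χ i => iv χ (f (rq i))) w
    (fun j d => d ≠ 1 ∧ (d + 4 * w j 0 + 4 * w j 1) % 9 = 0) (adm h hG)
  have g0 : Nat.card G ≠ 0 := Nat.card_pos.ne'
  simp only [h.orths f1, h.orthd f1, iv_triv] at a2 a3 a4
  have c1 := (h.cubs f1 f2).symm.trans (a4 _ _ _)
  have l0 := a3 0
  have l1 := a3 1
  have q := And.intro (a2 0 0) <| And.intro (a2 0 1) (a2 1 1)
  simp [Fin.sum_univ_succ, w, gm] at c1 l0 l1 q
  obtain ⟨A, B, C, e1⟩ := Multiset.card_eq_three.1 (by omega : (M 1).card = 3)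
  obtain ⟨U, e2⟩ := Multiset.card_eq_one.1 (by omega : (M 2).card = 1)
  obtain ⟨V, e3⟩ := Multiset.card_eq_one.1 (by omega : (M 3).card = 1)
  have hA := a1 1 A (by simp [e1])
  have hB := (a1 1 B (by simp [e1])).1
  have hC := (a1 1 C (by simp [e1])).1
  have hU := a1 2 U (by simp [e2])
  simp [e1, e2, e3, w] at c1 l0 l1 hA hB hC hU
  obtain rfl : U = V := by omega
  have iA := inv_ge (x := A) (m := 8) (by omega) (by norm_num)
  have iB := inv_ge (x := B) (m := 8) (by omega) (by norm_num)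
  have iC := inv_ge (x := C) (m := 8) (by omega) (by norm_num)
  have hc : Nat.card G = 36 * f.range.index := by rw [h.card_eq]; rfl
  have hp : (0 : ℚ) < Nat.card G := by exact_mod_cast Nat.card_pos
  have bd : ∀ m : ℕ, 0 < m → (U ≤ -m ∨ 0 < U) → (5 / 8 - 2 * (m : ℚ)⁻¹) * Nat.card G ≤ 162 := fun m hm hU => by
    have := inv_ge hU hm
    rw [← le_div_iff₀ hp, c1]
    push_cast at iA iB iC
    linarith
  unfold Nat.ModEq at hi
  have hA2 : 64 ≤ A * A := by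
    rcases (by omega : A ≤ -8 ∨ 8 ≤ A) with h | h <;> nlinarith
  by_cases h5 : U = -5
  · have := bd 5 (by norm_num) (by omega)
    have : Nat.card G ≤ 720 := by exact_mod_cast (by push_cast at this; linarith : (Nat.card G : ℚ) ≤ 720)
    have : (5 : ℤ) ∣ Nat.card G := by have := hU.2.1; rwa [h5, neg_dvd] at this
    omega
  · have := bd 14 (by norm_num) (by omega)
    have : Nat.card G ≤ 336 := by exact_mod_cast (by push_cast at this; linarith : (Nat.card G : ℚ) ≤ 336)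
    omega

set_option synthInstance.maxSize 2000 in
theorem fpf_dec1 : ∀ R : V9 × V9, ((∀ v, lin R v = v) ∨ ∀ v, lin R v = v → v = 1) →
    ((∀ v, lin R (lin R v) = v) ∨ ∀ v, lin R (lin R v) = v → v = 1) → (∀ v, lin R v = 1 → v = 1) →
    (∀ v, lin R v = v) ∨ (∀ v, lin R v = v⁻¹) ∨
      (lin R ea ∉ [1, ea, ea⁻¹] ∧ ∀ v, lin R (lin R v) = v⁻¹) ∨
      ∀ v w, v ≠ 1 → w ≠ 1 → ∃ k : Fin 8, (lin R)^[k] v = w := by decide +kernel

set_option synthInstance.maxSize 2000 in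
theorem fpf_dec2 : ∀ R : V9 × V9, (∀ v, lin R v = 1 → v = 1) →
    (∀ d, (∀ v, αc d (lin R v) = v) ∨ ∀ v, αc d (lin R v) = v → v = 1) →
    (∃ d, ∀ v, αc d v = lin R v) ∨ ∀ v w, v ≠ 1 → w ≠ 1 → ∃ d, αc d v = w ∨ αc d (lin R v) = w := by decide +kernel

variable {G : Type*} [Group G] [Finite G]

theorem hom_triv [IsSimpleGroup G] (h : 9 ∣ Nat.card G) (φ : G →* ℂˣ) : φ = 1 := by
  rcases φ.normal_ker.eq_bot_or_eq_top with e | e
  · letI : CommGroup G := { (inferInstance : Group G) with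
      mul_comm := fun a b => (φ.ker_eq_bot_iff.1 e) (by rw [map_mul, map_mul, mul_comm]) }
    have := IsSimpleGroup.prime_card (α := G)
    exact absurd (Nat.prime_dvd_prime_iff_eq Nat.prime_three this |>.1 (dvd_trans (by norm_num) h) ▸ h) (by norm_num)
  · ext1 x; exact (e ▸ mem_top x : x ∈ φ.ker)

theorem not_le_cent [IsSimpleGroup G] (T : Sylow 3 G) (hT : Nat.card T = 9) :
    ¬ normalizer ((T : Subgroup G) : Set G) ≤ centralizer ((T : Subgroup G) : Set G) := fun h => by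
  haveI : Fact (Nat.Prime 3) := ⟨by norm_num⟩
  have hc := MonoidHom.ker_transferSylow_isComplement' T h
  rcases (MonoidHom.transferSylow T h).normal_ker.eq_bot_or_eq_top with e | e
  · have e1 := hc.card_mul
    rw [e, card_bot, hT] at e1
    letI := IsPGroup.commGroupOfCardEqPrimeSq (p := 3) (G := G) (by omega)
    have := IsSimpleGroup.prime_card (α := G)
    rw [← e1] at this
    norm_num at this
  · have e1 := hc.card_mul
    rw [e, card_top, hT] at e1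
    have := Nat.card_pos (α := G)
    omega

theorem lin_inj {φ : V9 →* G} (hφ : Function.Injective φ) {n : G} {g : V9 → V9} (hg : ∀ v, n * φ v * n⁻¹ = φ (g v))
    (v : V9) (hv : g v = 1) : v = 1 := hφ (by
  have := hg v
  rw [hv, map_one] at this
  simpa using this)

theorem card_eq_360 [IsSimpleGroup G] (T : Sylow 3 G) (hT : Nat.card T = 9) (he : ∀ t ∈ T, t ^ 3 = 1)
    (hcl : ∃ a b : G, orderOf a = 3 ∧ orderOf b = 3 ∧ ∀ g : G, g * a * g⁻¹ ≠ b)
    (hC : ∀ t ∈ T, t ≠ 1 → centralizer {t} = (T : Subgroup G)) : Nat.card G = 360 := by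
  have hG := hom_triv (G := G) (hT ▸ card_subgroup_dvd_card _)
  have hloc : ∀ t ∈ T, t ≠ 1 → centralizer {t} ≤ normalizer ((T : Subgroup G) : Set G) := fun t a b =>
    (hC t a b).le.trans le_normalizer
  have semi : ∀ {φ : V9 →* G}, Function.Injective φ → φ.range = T → ∀ (n : G) (g : V9 → V9),
      (∀ v, n * φ v * n⁻¹ = φ (g v)) → (n ∈ T ∧ ∀ v, g v = v) ∨ ∀ v, g v = v → v = 1 := by
    intro φ hφ hr n g hg
    refine or_iff_not_imp_right.2 fun h => ?_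
    push Not at h
    obtain ⟨v, h1, h2⟩ := h
    have : n ∈ (T : Subgroup G) := hC (φ v) (hr.le ⟨v, rfl⟩) ((map_ne_one_iff φ hφ).2 h2) ▸
      mem_centralizer_singleton_iff.2 (by rw [← mul_inv_eq_iff_eq_mul, hg, h1])
    refine ⟨this, fun w => hφ ?_⟩
    obtain ⟨u, rfl⟩ := hr.ge this
    rw [← hg, ← map_inv, ← map_mul, ← map_mul, mul_inv_cancel_comm]
  have ntr : ∀ {φ : V9 →* G}, φ.range = T → ¬ ∀ v w, v ≠ 1 → w ≠ 1 → ∃ n, n * φ v * n⁻¹ = φ w := by
    intro φ hr h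
    obtain ⟨a, b, ha, hb, hab⟩ := hcl
    have k : ∀ a : G, orderOf a = 3 → ∃ g v, v ≠ 1 ∧ g * a * g⁻¹ = φ v := fun a ha => by
      obtain ⟨Q, hQ⟩ := (isPGroup_zpowers (ha ▸ pow_orderOf_eq_one a)).exists_le_sylow
      obtain ⟨g, rfl⟩ := MulAction.exists_smul_eq G T Q
      obtain ⟨x, hx, e⟩ := hQ (mem_zpowers a)
      obtain ⟨v, rfl⟩ := hr.ge hx
      refine ⟨g⁻¹, v, fun e1 => ?_, by rw [← e]; simp [mul_assoc]⟩
      rw [← e, e1] at ha
      simp at ha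
    obtain ⟨g, v, h1, e1⟩ := k a ha
    obtain ⟨g', w, h2, e2⟩ := k b hb
    obtain ⟨n, hn⟩ := h v w h1 h2
    exact hab (g'⁻¹ * n * g) (by rw [← e1, ← e2] at hn; rw [← mul_right_inj g', ← mul_left_inj g'⁻¹, ← hn]; group)
  obtain ⟨φ, hφ, hr⟩ := exists_basis hT he
  have hCT : centralizer ((T : Subgroup G) : Set G) ≤ T := (centralizer_le (Set.singleton_subset_iff.2 (hr.le ⟨ea, rfl⟩))).trans
    (hC (φ ea) (hr.le ⟨ea, rfl⟩) ((map_ne_one_iff φ hφ).2 (by decide))).le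
  have it : ∀ {n : G} {g : V9 → V9}, (∀ v, n * φ v * n⁻¹ = φ (g v)) → ∀ k v, n ^ k * φ v * (n ^ k)⁻¹ = φ (g^[k] v) := by
    intro n g hR k
    induction k with
    | zero => simp
    | succ k ih => intro v; rw [Function.iterate_succ_apply', ← hR, ← ih, pow_succ']; group
  have cs : ∀ n ∈ normalizer ((T : Subgroup G) : Set G), (∀ v, n * φ v * n⁻¹ = φ v) ∨ (∀ v, n * φ v * n⁻¹ = φ v⁻¹) ∨
      ∃ b, b ∉ [1, ea, ea⁻¹] ∧ n * φ ea * n⁻¹ = φ b ∧ ∀ v, n * (n * φ v * n⁻¹) * n⁻¹ = φ v⁻¹ := fun n hn => by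
    obtain ⟨R, hR⟩ := exists_lin' (φ := φ) (n := n) (hr ▸ hn)
    rcases fpf_dec1 R ((semi hφ hr _ _ hR).imp_left And.right) ((semi hφ hr _ _ (it hR 2)).imp_left And.right)
      (lin_inj hφ hR) with h | h | h | h
    · exact Or.inl fun v => by rw [hR, h]
    · exact Or.inr (Or.inl fun v => by rw [hR, h])
    · exact Or.inr (Or.inr ⟨_, h.1, hR _, fun v => by rw [hR, hR, h.2]⟩)
    · exact absurd (fun v w a b => (h v w a b).elim fun k e => ⟨n ^ k.1, by rw [it hR, e]⟩) (ntr hr)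
  have fix : ∀ n t : G, t ∈ T → (∀ v, n * φ v * n⁻¹ = φ v⁻¹) → Commute n t → t = 1 := fun n t ht h c => by
    obtain ⟨v, rfl⟩ := hr.ge ht
    have := h v
    rw [c.eq, mul_inv_cancel_right] at this
    rw [(by decide : ∀ v : V9, v = v⁻¹ → v = 1) v (hφ this), map_one]
  have sq : ∀ n : G, (∀ v, n * φ v * n⁻¹ = φ v⁻¹) → n ^ 2 = 1 := fun n h => by
    rcases semi hφ hr _ _ (it h 2) with e | e
    · exact fix n _ e.1 h (Commute.self_pow n 2)
    · exact absurd (e ea (by decide)) (by decide)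
  by_cases h4 : ∃ n ∈ normalizer ((T : Subgroup G) : Set G),
      ∃ b, b ∉ [1, ea, ea⁻¹] ∧ n * φ ea * n⁻¹ = φ b ∧ ∀ v, n * (n * φ v * n⁻¹) * n⁻¹ = φ v⁻¹
  · obtain ⟨n, hn, b, hb, e1, e2⟩ := h4
    have n4 : n ^ 4 = 1 := by
      rw [show 4 = 2 * 2 from rfl, pow_mul]; exact sq _ fun v => by rw [← e2, pow_two]; group
    obtain ⟨φ', i, fa, fb⟩ := exists_rebase hφ (a := ea) (by decide) hb
    have ma : φ' ea ∈ T := by rw [fa]; exact hr.le ⟨_, rfl⟩
    have mb : φ' eb ∈ T := by rw [fb]; exact hr.le ⟨_, rfl⟩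
    have hr' := range_eq hT i ma mb
    have g1 : pw n n4 (.ofAdd 1) = n := pow_one n
    have hrot : ∀ v, n * φ' v * n⁻¹ = φ' (rot v) := fun v =>
      DFunLike.congr_fun (V9.ext (φ := (MulAut.conj n).toMonoidHom.comp φ') (ψ := φ'.comp rot.toMonoidHom)
        (by simpa [fa, e1, show rot ea = eb by decide] using fb.symm)
        (by simp [fb, ← e1, e2, show rot eb = ea⁻¹ by decide, fa])) v
    have hd : ∀ d v, pw n n4 d * φ' v * (pw n n4 d)⁻¹ = φ' (αc d v) := fun d v => by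
      show n ^ d.toAdd.val * _ * (n ^ d.toAdd.val)⁻¹ = φ' ((rot ^ d.toAdd.val) v)
      generalize d.toAdd.val = k
      induction k with
      | zero => simp
      | succ k ih => rw [pow_succ', pow_succ', MulAut.mul_apply, ← hrot, ← ih]; group
    obtain ⟨f, l, e, -⟩ := exists_loc T hT hloc αc (by decide) φ' i ma mb (pw n n4) closure_univ
      (fun d _ => ⟨(hd _ _).symm, (hd _ _).symm⟩) (Or.inr ⟨hCT, fun m hm => by
        obtain ⟨R, hR⟩ := exists_lin' (φ := φ') (n := m) (hr' ▸ hm)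
        have k : ∀ d v, pw n n4 d * m * φ' v * (pw n n4 d * m)⁻¹ = φ' (αc d (lin R v)) := fun d v => by
          rw [← hd, ← hR]; group
        rcases fpf_dec2 R (lin_inj i hR) (fun d => (semi i hr' _ _ (k d)).imp_left And.right) with ⟨d, h⟩ | h
        · exact ⟨d, fun v => by rw [h, hR]⟩
        · refine absurd (fun v w a b => ?_) (ntr hr')
          obtain ⟨d, h | h⟩ := h v w a b
          · exact ⟨_, by rw [hd, h]⟩
          · exact ⟨_, by rw [k, h]⟩⟩)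
    refine card_360 l hG ?_
    rw [e, ← hT]
    exact index_mod T fun w a b g c => sylow_ti T (fun a ha b hb => by
      obtain ⟨a, rfl⟩ := hr.ge ha
      obtain ⟨b, rfl⟩ := hr.ge hb
      rw [← map_mul, mul_comm, map_mul]) hloc a b c
  · exfalso
    obtain ⟨n, hn, hn'⟩ := SetLike.not_le_iff_exists.1 (not_le_cent T hT)
    have h2 : ∀ v, n * φ v * n⁻¹ = φ v⁻¹ := by
      rcases cs n hn with h | h | h
      · refine absurd (fun x hx => ?_) hn'
        obtain ⟨v, rfl⟩ := hr.ge hx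
        rw [eq_comm, ← mul_inv_eq_iff_eq_mul, h]
      · exact h
      · exact absurd ⟨n, hn, h⟩ h4
    have g1 : pw n (sq n h2) (.ofAdd 1) = n := pow_one n
    obtain ⟨f, l, -⟩ := exists_loc T hT hloc α2 (by decide) φ hφ (hr.le ⟨_, rfl⟩) (hr.le ⟨_, rfl⟩) (pw n (sq n h2))
      (cyc_gen 2) (by rintro d rfl; rw [g1, h2, h2]; exact ⟨rfl, rfl⟩) (Or.inr ⟨hCT, fun m hm => by
        rcases cs m hm with h | h | h
        · exact ⟨1, fun v => by rw [h]; simp⟩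
        · exact ⟨.ofAdd 1, fun v => by rw [h]; rfl⟩
        · exact absurd ⟨m, hm, h⟩ h4⟩)
    exact false_18 l hG

end H18.Col
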