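import Mathlib
import Cfsg.Agent.H18.SE2

/-!
# No simple group is controlled by `3² : D₈` (helper18)

`H18.Col.false_72`.
-/

set_option autoImplicit false

open Cfsg H05 Subgroup DihedralGroup

namespace H18.Col

namespace S8

abbrev K := V9 ⋊[α8] DihedralGroup 4

def rp : Fin 7 → K := ![⟨ea, 1⟩, ⟨ea * eb, 1⟩, ⟨ea, sr 0⟩, ⟨ea * eb, sr 3⟩, 1, ⟨1, sr 0⟩, ⟨1, sr 3⟩]

def cl (x : K) : Fin 7 :=
  if x.right = 1 then (if x.left = 1 then 4 else if x.left.1 = 1 ∨ x.left.2 = 1 then 0 else 1)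
  else if x.right = sr 0 then (if x.left.1 = 1 then 5 else 2) else (if x.left.1 * x.left.2 = 1 then 6 else 3)

def Ua (x : K) : Bool := x.right = 1 ∨ x.right = sr 0
def Ub (x : K) : Bool := x.right = 1 ∨ x.right = sr 3
def t0 : K := ⟨1, r 2⟩
def ch (i j k : ℕ) (x : K) : ZMod 6 :=
  2 * (i * x.left.1.toAdd.val + j * x.left.2.toAdd.val) + if x.right = 1 then 0 else 3 * k

theorem m1 : MOk rp cl Ua (ch 0 0 0) t0 ![8, 8, 12, 0, 2, 6, 0] 18 := by decide +kernel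
theorem m2 : MOk rp cl Ua (ch 0 0 1) t0 ![8, 8, -12, 0, 2, -6, 0] 18 := by decide +kernel
theorem m3 : MOk rp cl Ua (ch 1 0 0) t0 ![2, -4, -6, 0, 2, 6, 0] 18 := by decide +kernel
theorem m4 : MOk rp cl Ua (ch 1 0 1) t0 ![2, -4, 6, 0, 2, -6, 0] 18 := by decide +kernel
theorem m5 : MOk rp cl Ub (ch 0 0 0) t0 ![8, 8, 0, 12, 2, 0, 6] 18 := by decide +kernel
theorem m6 : MOk rp cl Ub (ch 0 0 1) t0 ![8, 8, 0, -12, 2, 0, -6] 18 := by decide +kernel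
theorem m7 : MOk rp cl Ub (ch 1 1 0) t0 ![-4, 2, 0, -6, 2, 0, 6] 18 := by decide +kernel
theorem m8 : MOk rp cl Ub (ch 1 1 1) t0 ![-4, 2, 0, 6, 2, 0, -6] 18 := by decide +kernel

def rq (i : Fin 4) : K := rp (i.castAdd 3)
def gm : Fin 4 → ℕ := ![18, 18, 6, 6]

theorem cardK : Fintype.card K = 72 := by decide +kernel
theorem f3 : rp 5 ^ 2 = 1 ∧ rp 6 ^ 2 = 1 := by decide +kernel
theorem f0 : ∀ j, rp j ^ 6 = 1 ∧ ∃ g, g * rp j * g⁻¹ = (rp j)⁻¹ := by decide +kernel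
theorem f1 : ROk rq gm := by decide +kernel
theorem f2 : COk (rq 0) (rq 1) (rq 0) 648 ∧ COk (rq 0) (rq 1) (rq 1) 648 := by decide +kernel

def w : Fin 14 → Fin 4 → ℤ := ![![0, 0, 0, 0], ![3, 0, 1, 0], ![3, 0, -1, 0], ![0, 3, 0, 1], ![0, 3, 0, -1],
  ![2, 2, 0, 0], ![-2, 1, 0, 1], ![-2, 1, 0, -1], ![1, -2, 1, 0], ![1, -2, -1, 0], ![1, 1, 1, 1], ![1, 1, 1, -1],
  ![1, 1, -1, 1], ![1, 1, -1, -1]]

theorem types : ∀ p ∈ Finset.Icc (-4 : ℤ) 4, ∀ q ∈ Finset.Icc (-4 : ℤ) 4,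
    ∀ P ∈ Finset.Icc (-2 : ℤ) 2, ∀ Q ∈ Finset.Icc (-2 : ℤ) 2, (p + 2 * q + 3 * P) % 6 = 0 →
    (q + 2 * p + 3 * Q) % 6 = 0 → ((4 * p + 4 * q) % 9 = 0 → P % 3 = 0 ∧ Q % 3 = 0) →
    (p * p + q * q + 3 * P * P + 3 * Q * Q) ^ 2 + (p + q + 3 * P + 3 * Q) ^ 2 ≤
      18 * (p * p + q * q + 3 * P * P + 3 * Q * Q) →
    ∃ j, ![p, q, P, Q] = w j ∨ ![p, q, P, Q] = -w j := by
  decide +kernel

def sols : List (List ℕ) := [[0, 0, 0, 0, 1, 1, 1, 1, 1, 0, 1, 1, 1], [0, 1, 0, 1, 0, 1, 0, 1, 0, 1, 1, 1, 0],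
  [0, 1, 1, 0, 0, 0, 1, 1, 0, 0, 2, 0, 1], [1, 0, 0, 1, 0, 1, 0, 0, 1, 0, 0, 2, 1]]

theorem dec (n : Fin 14 → ℕ) (h : ∀ a b, (if a = b then (gm a : ℤ) else 0) = 1 * 1 + ∑ j, (n j : ℤ) * (w j a * w j b)) :
    List.ofFn (fun j : Fin 13 => n j.succ) ∈ sols :=
  of_decide_eq_true <| Knap.gram (fun j => w j.succ) (fun a b => (if a = b then (gm a : ℤ) else 0) - 1) _
    (fun a b => by
      rw [h, Fin.sum_univ_succ, show w 0 a = 0 by fin_cases a <;> rfl]; ring) _ _ 20 (fun l => l ∈ sols) rfl rfl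
    (by decide +kernel)

def Ad (v : Fin 4 → ℤ) (d : ℤ) : Prop := (d + 4 * v 0 + 4 * v 1) % 9 = 0 ∧ (v 0 = 1 → v 1 = 1 → d ≠ 1 ∧ d ≠ -8) ∧
  (v 0 = 2 → v 1 = 2 → d ≠ 2 ∧ d ≠ -7) ∧ (v 0 = -2 → v 1 = 1 → v 3 = 1 → d ≠ 4 ∧ d ≠ -5) ∧
  (v 0 = 1 → v 1 = -2 → v 2 = 1 → d ≠ 4 ∧ d ≠ -5)

theorem side {d p q P x : ℤ} {n1 n2 n3 n4 : ℕ} (h1 : d + 4 * p + 4 * q + 3 * x + 6 * P = 18 * n1)
    (h2 : d + 4 * p + 4 * q - 3 * x - 6 * P = 18 * n2) (h3 : d + p - 2 * q + 3 * x - 3 * P = 18 * n3)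
    (h4 : d + p - 2 * q - 3 * x + 3 * P = 18 * n4) (hx : 4 ∣ d - x) :
    (p = -1 → q = -1 → d ≠ 8) ∧ (p = -2 → q = -2 → d ≠ 7) ∧ (p = 1 → q = -2 → P = 1 → d ≠ 4) ∧
      (p = -1 → q = 2 → P = -1 → d ≠ 5) := by
  refine ⟨?_, ?_, ?_, ?_⟩
  · rintro rfl rfl rfl
    have : n1 = 0 ∧ n2 = 0 := by omega
    have : n3 = 0 ∨ n4 = 0 := by omega
    omega
  · omega
  · rintro rfl rfl rfl rfl
    have : n1 = 0 ∧ n2 = 0 := by omega
    omega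
  · rintro rfl rfl rfl rfl
    have : n3 = 0 ∧ n4 = 0 := by omega
    omega

variable {G : Type*} [Group G] [Finite G] {f : K →* G}

theorem adm [IsSimpleGroup G] (h : Loc f) (χ : IrrCharacter G) (hχ : χ ≠ triv G) :
    ∃ j, ((fun i => iv χ (f (rq i))) = w j ∧ Ad (w j) (dg χ)) ∨
      ((fun i => iv χ (f (rq i))) = -w j ∧ Ad (w j) (-dg χ)) := by
  have hG := hom_triv (G := G) (by rw [h.card_eq, cardK]; exact dvd_mul_of_dvd_left (by norm_num) _)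
  have hv : ∀ j, re2 χ (f (rp j)) = (2 * iv χ (f (rp j)) : ℤ) := fun j => (Loc.rt f (f0 j).1 (f0 j).2).re2 χ
  obtain ⟨n1, h1⟩ := mult_int f m1 χ _ hv
  obtain ⟨n2, h2⟩ := mult_int f m2 χ _ hv
  obtain ⟨n3, h3⟩ := mult_int f m3 χ _ hv
  obtain ⟨n4, h4⟩ := mult_int f m4 χ _ hv
  obtain ⟨n5, h5⟩ := mult_int f m5 χ _ hv
  obtain ⟨n6, h6⟩ := mult_int f m6 χ _ hv
  obtain ⟨n7, h7⟩ := mult_int f m7 χ _ hv
  obtain ⟨n8, h8⟩ := mult_int f m8 χ _ hv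
  have b := bessel (fun χ i => iv χ (f (rq i))) ![1, 1, 3, 3] 18
    (fun a b => by rw [h.orths f1]; fin_cases a <;> fin_cases b <;> rfl) hχ
  have bx := fun a n hn h2 => mem_box (fun a => by fin_cases a <;> decide) b (by norm_num) a (n := n) hn h2
  have d3 := h.three_dvd f1 2 (m := 4) cardK (by norm_num) (χ := χ)
  have d4 := h.three_dvd f1 3 (m := 4) cardK (by norm_num) (χ := χ)
  have e5 : iv χ (f (rp 4)) = dg χ := by rw [show rp 4 = 1 from rfl, map_one]; rfl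
  have x1 := mod_four hG (t := f (rp 5)) (by rw [← map_pow, f3.1, map_one]) χ
  have x2 := mod_four hG (t := f (rp 6)) (by rw [← map_pow, f3.2, map_one]) χ
  have x3 := dg_pos χ
  have x4 : iv χ (f (rq 0)) ≠ dg χ := fun e => hχ (eq_triv_of_simple (f1.rt f 0) (h.ne_one (f1.1 0)) e)
  have ev : (fun i => iv χ (f (rq i))) = ![iv χ (f (rq 0)), iv χ (f (rq 1)), iv χ (f (rq 2)), iv χ (f (rq 3))] := by
    ext i; fin_cases i <;> rfl
  simp only [Fin.sum_univ_succ, Fin.sum_univ_zero, iv_triv, Matrix.cons_val_zero, Matrix.cons_val_succ,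
    Fin.succ_zero_eq_one, Fin.succ_one_eq_two, Fin.reduceSucc, e5, show rp 0 = rq 0 from rfl, show rp 1 = rq 1 from rfl,
    show rp 2 = rq 2 from rfl, show rp 3 = rq 3 from rfl] at h1 h2 h3 h4 h5 h6 h7 h8 b
  have b0 := bx 0 4 (by norm_num) (by decide)
  have b1 := bx 1 4 (by norm_num) (by decide)
  have b2 := bx 2 2 (by norm_num) (by decide)
  have b3 := bx 3 2 (by norm_num) (by decide)
  rw [ev]
  clear bx ev hv e5
  generalize iv χ (f (rq 0)) = p, iv χ (f (rq 1)) = q, iv χ (f (rq 2)) = P, iv χ (f (rq 3)) = Q, iv χ (f (rp 5)) = x,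
    iv χ (f (rp 6)) = y, dg χ = d at *
  have s3 : (d + 4 * p + 4 * q) % 9 = 0 := by clear * - h1 h2; omega
  obtain ⟨j, hj⟩ := types _ b0 _ b1 _ b2 _ b3 (by clear * - h1 h3; omega) (by clear * - h5 h7; omega)
    (by clear * - s3 d3 d4; omega) (by linarith)
  have s1 := side (d := d) (p := p) (q := q) (P := P) (n1 := n1) (n2 := n2)
    (n3 := n3) (n4 := n4) (by clear * - h1; omega) (by clear * - h2; omega) (by clear * - h3; omega)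
    (by clear * - h4; omega) x1
  have s2 := side (d := d) (p := q) (q := p) (P := Q) (n1 := n5) (n2 := n6)
    (n3 := n7) (n4 := n8) (by clear * - h5; omega) (by clear * - h6; omega) (by clear * - h7; omega)
    (by clear * - h8; omega) x2
  obtain ⟨t1, t2, -, -⟩ := id s1
  replace s1 := s1.2.2
  replace s2 := s2.2.2
  refine ⟨j, hj.imp (fun e => ⟨e, ?_⟩) fun e => ⟨e, ?_⟩⟩
  · rw [← e]; simp only [Ad, Matrix.cons_val]
    exact ⟨s3, fun a _ => ⟨a ▸ x4.symm, by clear * - x3; omega⟩, fun a _ => ⟨a ▸ x4.symm, by clear * - x3; omega⟩,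
      fun a b c => ⟨s2.1 b a c, by clear * - x3; omega⟩, fun a b c => ⟨s1.1 a b c, by clear * - x3; omega⟩⟩
  · rw [← neg_eq_iff_eq_neg.2 e]; simp only [Ad, Pi.neg_apply, Matrix.cons_val, neg_eq_iff_eq_neg, ne_eq, neg_neg]
    exact ⟨by clear * - s3; omega, fun a b => ⟨by clear * - x3; omega, t1 a b⟩,
      fun a b => ⟨by clear * - x3; omega, t2 a b⟩,
      fun a b c => ⟨by clear * - x3; omega, s2.2 b a c⟩, fun a b c => ⟨by clear * - x3; omega, s1.2 a b c⟩⟩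

noncomputable def cand (r : ℤ) (k : ℕ) : Finset ℤ :=
  (Finset.Icc (-90 : ℤ) 90).filter fun x => x % 9 = r ∧ x ≠ r ∧ x ≠ r - 9 ∧ (72 * (9 * k + 1 : ℕ)) % x = 0

theorem fin1 : ∀ k < 13, ∀ A ∈ cand 1 k, ∀ C ∈ cand 1 k, ∀ E ∈ cand 2 k,
    (72 * (9 * k + 1 : ℕ)) % (1 + A + E) = 0 → (72 * (9 * k + 1 : ℕ)) % (A + C + E) = 0 → A + C + E = 4 := by
  decide +kernel

theorem ar1 {A C E : ℤ} {n : ℕ} (hn : n % 9 = 1) (hA : A % 9 = 1 ∧ A ≠ 1 ∧ A ≠ -8) (hC : C % 9 = 1 ∧ C ≠ 1 ∧ C ≠ -8)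
    (hE : E % 9 = 2 ∧ E ≠ 2 ∧ E ≠ -7) (hF : A + C + E ≠ 4 ∧ A + C + E ≠ -5)
    (dA : A ∣ 72 * n ∧ A * A < 72 * n) (dC : C ∣ 72 * n ∧ C * C < 72 * n) (dE : E ∣ 72 * n ∧ E * E < 72 * n)
    (d1 : 1 + A + E ∣ 72 * n) (d2 : A + C + E ∣ 72 * n)
    (c : 1 + 2 * (A : ℚ)⁻¹ + (C : ℚ)⁻¹ + 8 * (E : ℚ)⁻¹ + 2 * ((A + C + E : ℤ) : ℚ)⁻¹ + 2 * ((1 + A + E : ℤ) : ℚ)⁻¹ =
      9 / n) : False := by
  have iA := SC.inv_ge (x := A) (m := 17) (by omega) (by norm_num)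
  have iC := SC.inv_ge (x := C) (m := 17) (by omega) (by norm_num)
  have iE := SC.inv_ge (x := E) (m := 16) (by omega) (by norm_num)
  have i1 := SC.inv_ge (x := A + C + E) (m := 14) (by omega) (by norm_num)
  have i2 := SC.inv_ge (x := 1 + A + E) (m := 5) (by omega) (by norm_num)
  have pos : ∀ x : ℤ, 0 < x → 0 < (x : ℚ)⁻¹ := fun x hx => inv_pos.2 (by exact_mod_cast hx)
  have : (78 / 1000 : ℚ) ≤ 9 / n := by
    rw [← c]
    simp only [Nat.cast_ofNat] at iA iC iE i1 i2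
    rcases (by omega : 0 < E ∨ (A < 0 ∧ 1 + A + E ≤ -32) ∨ (0 < A ∧ E ≤ -25) ∨ (A = 10 ∧ E = -16) ∨
      (0 < A ∧ 0 < 1 + A + E)) with h | h | h | h | h
    · linarith [pos _ h]
    · have := SC.inv_ge (x := 1 + A + E) (m := 32) (by omega) (by norm_num)
      simp only [Nat.cast_ofNat] at this
      linarith
    · have := SC.inv_ge (x := E) (m := 25) (by omega) (by norm_num)
      simp only [Nat.cast_ofNat] at this
      linarith [pos _ h.1]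
    · have : (A : ℚ)⁻¹ = 10⁻¹ := by rw [h.1]; norm_num
      linarith
    · linarith [pos _ h.1, pos _ h.2]
  have n0 : (0 : ℚ) < n := by exact_mod_cast (by omega : 0 < n)
  rw [le_div_iff₀ n0] at this
  have : n ≤ 116 := by exact_mod_cast (by linarith : (n : ℚ) ≤ 116)
  obtain ⟨k, rfl⟩ : ∃ k, n = 9 * k + 1 := ⟨n / 9, by omega⟩
  have bx : ∀ x : ℤ, x * x < 72 * (9 * k + 1 : ℕ) → x ∈ Finset.Icc (-90 : ℤ) 90 := fun x hx => by
    rw [Finset.mem_Icc]; constructor <;> nlinarith [(by omega : ((9 * k + 1 : ℕ) : ℤ) ≤ 109)]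
  exact hF.1 (fin1 k (by omega)
    A (Finset.mem_filter.2 ⟨bx _ dA.2, hA.1, hA.2.1, hA.2.2, Int.emod_eq_zero_of_dvd dA.1⟩)
    C (Finset.mem_filter.2 ⟨bx _ dC.2, hC.1, hC.2.1, hC.2.2, Int.emod_eq_zero_of_dvd dC.1⟩)
    E (Finset.mem_filter.2 ⟨bx _ dE.2, hE.1, hE.2.1, hE.2.2, Int.emod_eq_zero_of_dvd dE.1⟩)
    (Int.emod_eq_zero_of_dvd d1) (Int.emod_eq_zero_of_dvd d2))

theorem ar2 {A B C F F' : ℤ} {n : ℕ} (hn : n % 9 = 1) (hA : A % 9 = 1 ∧ A ≠ 1 ∧ A ≠ -8)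
    (hB : B % 9 = 1 ∧ B ≠ 1 ∧ B ≠ -8) (hC : C % 9 = 1 ∧ C ≠ 1 ∧ C ≠ -8) (hF : F % 9 = 4 ∧ F ≠ 4 ∧ F ≠ -5)
    (dF : F ∣ 72 * n ∧ F * F < 72 * n)
    (c1 : 1 + (A : ℚ)⁻¹ + (B : ℚ)⁻¹ + (C : ℚ)⁻¹ + 4 * (F : ℚ)⁻¹ - 2 * (F' : ℚ)⁻¹ = 9 / n)
    (c2 : 1 + (A : ℚ)⁻¹ + (B : ℚ)⁻¹ + (C : ℚ)⁻¹ - 2 * (F : ℚ)⁻¹ + 4 * (F' : ℚ)⁻¹ = 9 / n) : False := by
  have iA := SC.inv_ge (x := A) (m := 17) (by omega) (by norm_num)
  have iB := SC.inv_ge (x := B) (m := 17) (by omega) (by norm_num)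
  have iC := SC.inv_ge (x := C) (m := 17) (by omega) (by norm_num)
  have iF := SC.inv_ge (x := F) (m := 14) (by omega) (by norm_num)
  simp only [Nat.cast_ofNat] at iA iB iC iF
  have : (2 / 3 : ℚ) ≤ 9 / n := by linarith
  have n0 : (0 : ℚ) < n := by exact_mod_cast (by omega : 0 < n)
  rw [le_div_iff₀ n0] at this
  have : n ≤ 14 := by exact_mod_cast (by linarith : (n : ℚ) ≤ 14)
  have h1 : F * F < 720 := by omega
  have h2 : -27 < F := by nlinarith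
  have h3 : F < 27 := by nlinarith
  rcases (by omega : F = -23 ∨ F = -14 ∨ F = 13 ∨ F = 22) with rfl | rfl | rfl | rfl <;>
    rcases (by omega : n = 1 ∨ n = 10) with rfl | rfl <;> norm_num at dF

theorem ar3 {A B C E F1 F2 F3 F4 : ℤ} (h1 : F1 % 9 = 4) (h2 : F2 % 9 = 4) (h3 : F3 % 9 = 4) (h4 : F4 % 9 = 4) (hC : C ≠ 1)
    (l0 : 1 + A + B + C + 2 * E - 2 * F1 - 2 * F2 + F3 + F4 = 0)
    (l1 : 1 + A + B + C + 2 * E + F1 + F2 - 2 * F3 - 2 * F4 = 0) (l2 : 1 + A - B - C + F3 - F4 = 0)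
    (l3 : 1 - A + B - C + F1 - F2 = 0) (k : (F1 : ℚ)⁻¹ + (F2 : ℚ)⁻¹ = (F3 : ℚ)⁻¹ + (F4 : ℚ)⁻¹) :
    B = A ∧ F1 = A + C + E ∧ F2 = 1 + A + E ∧ F3 = A + C + E ∧ F4 = 1 + A + E := by
  have q1 : (F1 : ℚ) ≠ 0 := by exact_mod_cast (by omega : F1 ≠ 0)
  have q2 : (F2 : ℚ) ≠ 0 := by exact_mod_cast (by omega : F2 ≠ 0)
  have q3 : (F3 : ℚ) ≠ 0 := by exact_mod_cast (by omega : F3 ≠ 0)
  have q4 : (F4 : ℚ) ≠ 0 := by exact_mod_cast (by omega : F4 ≠ 0)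
  field_simp at k
  have k' : (F2 + F1) * F3 * F4 = F1 * F2 * (F4 + F3) := by exact_mod_cast k
  have k2 : (F1 + F2) * ((F1 - F3) * (F1 - F4)) = 0 := by
    have : F4 = F1 + F2 - F3 := by omega
    subst this; linear_combination k'
  have k3 : F1 = F3 := by
    rcases mul_eq_zero.1 k2 with k | k
    · omega
    · rcases mul_eq_zero.1 k with k | k <;> omega
  omega

end S8

set_option maxHeartbeats 1000000 in
open S8 in
theorem false_72 {G : Type*} [Group G] [Finite G] [IsSimpleGroup G] {f : S8.K →* G} (h : Loc f)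
    (hi : f.range.index ≡ 1 [MOD 9]) : False := by
  obtain ⟨M, a1, a2, a3, a4⟩ := extract (fun χ i => iv χ (f (rq i))) w (fun j d => Ad (w j) d) (adm h)
  have hc : Nat.card G = 72 * f.range.index := by rw [h.card_eq, cardK]
  simp only [h.orths f1, h.orthd f1, iv_triv] at a2 a3 a4
  have c1 := (h.cubs f1 f2.1).symm.trans (a4 _ _ _)
  have c2 := (h.cubs f1 f2.2).symm.trans (a4 _ _ _)
  have l0 := a3 0
  have l1 := a3 1
  have l2 := a3 2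
  have l3 := a3 3
  have hn := dec (fun j => (M j).card) a2
  generalize f.range.index = n at hi hc
  have e9 : (648 : ℚ) / (72 * n : ℕ) = 9 / n := by push_cast; ring
  simp only [hc, Nat.cast_ofNat, e9] at c1 c2 a1
  simp [Fin.sum_univ_succ, w] at c1 c2 l0 l1 l2 l3
  simp only [sols, List.mem_cons, List.not_mem_nil, or_false, List.ofFn_succ, List.ofFn_zero, List.cons.injEq, and_true,
    Fin.succ_zero_eq_one, Fin.succ_one_eq_two, Fin.reduceSucc] at hn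
  simp only [Multiset.card_eq_one, Multiset.card_eq_zero, Multiset.card_eq_two] at hn
  have ad := fun j x (e : M j = {x}) => a1 j x (by simp [e])
  have hn9 : n % 9 = 1 := hi
  rcases hn with ⟨e1, e2, e3, e4, ⟨E, e5⟩, ⟨F1, e6⟩, ⟨F2, e7⟩, ⟨F3, e8⟩, ⟨F4, e9⟩, e10, ⟨A, e11⟩, ⟨B, e12⟩, ⟨C, e13⟩⟩ |
      ⟨e1, ⟨_, e2⟩, e3, ⟨_, e4⟩, e5, ⟨F, e6⟩, e7, ⟨F', e8⟩, e9, ⟨A, e10⟩, ⟨B, e11⟩, ⟨C, e12⟩, e13⟩ |
      ⟨e1, ⟨_, e2⟩, ⟨_, e3⟩, e4, e5, e6, ⟨F', e7⟩, ⟨F, e8⟩, e9, e10, ⟨A, B, e11⟩, e12, ⟨C, e13⟩⟩ |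
      ⟨⟨_, e1⟩, e2, e3, ⟨_, e4⟩, e5, ⟨F, e6⟩, e7, e8, ⟨F', e9⟩, e10, e11, ⟨A, B, e12⟩, ⟨C, e13⟩⟩ <;>
    simp only [e1, e2, e3, e4, e5, e6, e7, e8, e9, e10, e11, e12, e13, Multiset.sum_singleton, Multiset.insert_eq_cons,
      Multiset.map_cons, Multiset.sum_cons, Multiset.map_singleton, Multiset.map_zero, Multiset.sum_zero]
      at c1 c2 l0 l1 l2 l3
  · have hE := ad _ _ e5; have h1 := ad _ _ e6; have h2 := ad _ _ e7; have h3 := ad _ _ e8; have h4 := ad _ _ e9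
    have hA := ad _ _ e11; have hC := ad _ _ e13
    simp [Ad, w] at hE h1 h2 h3 h4 hA hC
    obtain ⟨rfl, rfl, rfl, rfl, rfl⟩ := ar3 (A := A) (B := B) (C := C) (E := E) (F1 := F1) (F2 := F2) (F3 := F3)
      (F4 := F4) (by omega) (by omega) (by omega) (by omega) (by omega) (by linarith) (by linarith) (by linarith)
      (by linarith) (by linarith)
    exact ar1 (A := B) (C := C) (E := E) hn9 (by omega) (by omega) (by omega) (by omega) hA.2 hC.2 hE.2 h2.2.1 h1.2.1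
      (by linarith)
  · have hA := (ad _ _ e10).1; have hB := (ad _ _ e11).1; have hC := (ad _ _ e12).1; have hF := ad _ _ e6
    simp [Ad, w] at hA hB hC hF
    exact ar2 (A := A) (B := B) (C := C) (F := F) (F' := F') hn9 (by omega) (by omega) (by omega) (by omega) hF.2
      (by linarith) (by linarith)
  · have hA := (a1 11 A (by simp [e11])).1; have hB := (a1 11 B (by simp [e11])).1; have hC := (ad _ _ e13).1
    have hF := ad _ _ e8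
    simp [Ad, w] at hA hB hC hF
    exact ar2 (A := A) (B := B) (C := C) (F := F) (F' := F') hn9 (by omega) (by omega) (by omega) (by omega) hF.2
      (by linarith) (by linarith)
  · have hA := (a1 12 A (by simp [e12])).1; have hB := (a1 12 B (by simp [e12])).1; have hC := (ad _ _ e13).1
    have hF := ad _ _ e6
    simp [Ad, w] at hA hB hC hF
    exact ar2 (A := A) (B := B) (C := C) (F := F) (F' := F') hn9 (by omega) (by omega) (by omega) (by omega) hF.2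
      (by linarith) (by linarith)

theorem not_simple_72 {G : Type*} [Group G] [Finite G] [IsSimpleGroup G] (T : Sylow 3 G) (hT : Nat.card T = 9)
    (he : ∀ t ∈ T, t ^ 3 = 1) (hC : centralizer ((T : Subgroup G) : Set G) ≤ T)
    (h : ∀ t ∈ T, t ≠ 1 → centralizer {t} ≤ normalizer ((T : Subgroup G) : Set G))
    (ψ : DihedralGroup 4 →* G) (h1 : ∀ q, ψ q ∈ normalizer ((T : Subgroup G) : Set G)) (h2 : ∀ q, ψ q ∈ T → q = 1)
    (hN : Nat.card (normalizer ((T : Subgroup G) : Set G)) ≤ 72) : False := by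
  obtain ⟨f, l, e, -⟩ := loc_dih T hT he hC h ψ h1 h2 hN
  refine false_72 l ?_
  rw [e, ← hT]
  exact index_mod T fun w a b g c => sylow_ti T (fun a ha b hb => congrArg Subtype.val
    ((IsPGroup.isMulCommutative_of_card_eq_prime_sq (p := 3) (G := T) hT).1.1 ⟨a, ha⟩ ⟨b, hb⟩)) h a b c

end H18.Col
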