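import Mathlib
import Cfsg.Agent.H18.ZassOdd
import Cfsg.Agent.H18.InvCfg

/-!
Sharply 3-transitive groups of even degree (namespace `H18`).
* `sharp3_order_three` : a two-point stabiliser has at most two elements of order 3.
* `sharp3_exists_ker`, `sharp3_card_st2`, `sharp3_exists_index_two` (a two-point stabiliser has a subgroup of index 2),
  `sharp3_exists_hom` (a non-trivial hom `G_ab → ℤˣ` invariant under the swapping involution),
  `sharp3_exists_hom_group` (`G` has a hom to `ℤˣ` which is non-trivial on `G_ab`), `sharp3_commutator_ne_top`,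
  `sharp3_of_card` (a `Z3` group with `|G_ab| = |Ω| - 2` is sharply 3-transitive), `zass_simple_even` .
-/

open MulAction Subgroup Cfsg
open scoped Pointwise IsMulCommutative MatrixGroups commutatorElement

namespace H18

variable {G Ω : Type*} [Group G] [MulAction G Ω]

theorem exists_third_of_card [Fintype Ω] (hm : 3 ≤ Fintype.card Ω) (a b : Ω) : ∃ c, a ≠ c ∧ b ≠ c := by
  classical
  by_contra hc
  push Not at hc
  have : (Finset.univ : Finset Ω) ⊆ {a, b} := by
    intro x _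
    by_cases hx : a = x
    · simp [hx]
    · simp [hc x hx]
  have h2 := (Finset.card_le_card this).trans Finset.card_le_two
  rw [Finset.card_univ] at h2
  omega

theorem Z3.order_three [Finite G] [Fintype Ω] (h : Z3 G Ω) (hm : 3 ≤ Fintype.card Ω) {a b : Ω} (hab : a ≠ b)
    {u v : G} (hu : u ∈ st2 G a b) (hv : v ∈ st2 G a b) (hu3 : orderOf u = 3) (hv3 : orderOf v = 3) :
    v = u ∨ v = u⁻¹ := by
  classical
  by_contra hc
  rw [not_or] at hc
  obtain ⟨x, -, -⟩ := exists_third_of_card hm a b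
  let P := Finset.univ.filter (fun p : Ω × Ω => p.1 ≠ p.2 ∧ p.1 ≠ x ∧ p.2 ≠ x)
  have key : ∀ p : Ω × Ω, ∃ g : G, p.1 ≠ p.2 → g • a = p.1 ∧ g • b = p.2 := fun p => by
    by_cases hp : p.1 = p.2
    · exact ⟨1, fun h => absurd hp h⟩
    · obtain ⟨g, hg⟩ := h.two a b p.1 p.2 hab hp
      exact ⟨g, fun _ => hg⟩
  choose g hg using key
  let K : Finset G := {u, u⁻¹, v}
  have hK : K.card = 3 := by
    rw [Finset.card_eq_three]
    refine ⟨u, u⁻¹, v, fun e => ?_, Ne.symm hc.1, Ne.symm hc.2, rfl⟩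
    rw [eq_inv_iff_mul_eq_one, ← sq, ← orderOf_dvd_iff_pow_eq_one, hu3] at e
    omega
  have hKm : ∀ y ∈ K, y ∈ st2 G a b ∧ orderOf y = 3 := by
    intro y hy
    simp only [K, Finset.mem_insert, Finset.mem_singleton] at hy
    rcases hy with rfl | rfl | rfl
    exacts [⟨hu, hu3⟩, ⟨inv_mem hu, by rw [orderOf_inv, hu3]⟩, ⟨hv, hv3⟩]
  let φ : (Ω × Ω) × G → G := fun q => g q.1 * q.2 * (g q.1)⁻¹
  have hφ : ∀ q ∈ P ×ˢ K, φ q • q.1.1 = q.1.1 ∧ φ q • q.1.2 = q.1.2 ∧ φ q ≠ 1 ∧ φ q * φ q * φ q = 1 := by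
    intro q hq
    simp only [P, Finset.mem_product, Finset.mem_filter, Finset.mem_univ, true_and] at hq
    obtain ⟨h1, h2⟩ := hKm _ hq.2
    obtain ⟨g1, g2⟩ := hg q.1 hq.1.1
    refine ⟨by rw [← g1, mul_smul, mul_smul, inv_smul_smul, show q.2 • a = a from h1.1],
      by rw [← g2, mul_smul, mul_smul, inv_smul_smul, show q.2 • b = b from h1.2], ?_, ?_⟩
    · intro e
      have : q.2 = 1 := by simpa [φ] using e
      rw [this] at h2; simp at h2
    · calc _ = g q.1 * q.2 ^ 3 * (g q.1)⁻¹ := by simp only [φ, pow_three]; group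
        _ = 1 := by rw [← h2, pow_orderOf_eq_one]; group
  have hmv : ∀ q ∈ P ×ˢ K, φ q • x ≠ x := by
    intro q hq e
    obtain ⟨h1, h2, h3, -⟩ := hφ q hq
    simp only [P, Finset.mem_product, Finset.mem_filter, Finset.mem_univ, true_and] at hq
    exact h3 (h.three _ _ _ x hq.1.1 hq.1.2.1 hq.1.2.2 h1 h2 e)
  have hcyc : ∀ q ∈ P ×ˢ K, φ q • φ q • φ q • x = x := fun q hq => by
    rw [← mul_smul, ← mul_smul, (hφ q hq).2.2.2, one_smul]
  have hmap : ∀ q ∈ P ×ˢ K, (φ q • x, φ q • φ q • x) ∈ P := by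
    intro q hq
    simp only [P, Finset.mem_filter, Finset.mem_univ, true_and]
    refine ⟨fun e => hmv q hq (smul_left_cancel _ e).symm, hmv q hq, fun e => hmv q hq ?_⟩
    have := hcyc q hq
    rwa [e] at this
  have hle := Finset.card_le_mul_card_image_of_maps_to hmap 2 (by
    intro p hp
    by_contra hc
    obtain ⟨q1, h1, q2, h2, q3, h3, h12, h13, h23⟩ := Finset.two_lt_card.mp (not_le.mp hc)
    rw [Finset.mem_filter] at h1 h2 h3
    simp only [P, Finset.mem_filter, Finset.mem_univ, true_and] at hp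
    have e : ∀ q q', q ∈ P ×ˢ K ∧ (φ q • x, φ q • φ q • x) = p → q' ∈ P ×ˢ K ∧ (φ q' • x, φ q' • φ q' • x) = p →
        q ≠ q' → q'.1 = (q.1.2, q.1.1) := by
      intro q q' hq hq' hne
      have e1 : φ q • x = p.1 := congrArg Prod.fst hq.2
      have e2 : φ q • φ q • x = p.2 := congrArg Prod.snd hq.2
      have e1' : φ q' • x = p.1 := congrArg Prod.fst hq'.2
      have e2' : φ q' • φ q' • x = p.2 := congrArg Prod.snd hq'.2
      have e3 : φ q = φ q' := h.eq_of_three (a := x) (b := p.1) (c := p.2) hp.2.1.symm hp.2.2.symm hp.1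
        (e1.trans e1'.symm) (by rw [e1] at e2; rw [e1'] at e2'; rw [e2, e2']) (by
          have := hcyc q hq.1
          have := hcyc q' hq'.1
          rw [e2] at *; rw [e2'] at *; simp [*])
      obtain ⟨f1, f2, f3, -⟩ := hφ q hq.1
      obtain ⟨f1', f2', -⟩ := hφ q' hq'.1
      rw [← e3] at f1' f2'
      have n1 := (Finset.mem_filter.1 (Finset.mem_product.1 hq.1).1).2.1
      have n2 := (Finset.mem_filter.1 (Finset.mem_product.1 hq'.1).1).2.1
      have k : ∀ y, φ q • y = y → y = q.1.1 ∨ y = q.1.2 := fun y hy => by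
        by_contra hh
        rw [not_or] at hh
        exact f3 (h.three _ _ _ y n1 (Ne.symm hh.1) (Ne.symm hh.2) f1 f2 hy)
      rcases k _ f1' with k1 | k1 <;> rcases k _ f2' with k2 | k2
      · exact absurd (k1.trans k2.symm) n2
      · exfalso
        have e4 : q.1 = q'.1 := Prod.ext k1.symm k2.symm
        refine hne (Prod.ext e4 ?_)
        simpa [φ, e4] using e3
      · exact Prod.ext k1 k2
      · exact absurd (k1.trans k2.symm) n2
    have n1 := (Finset.mem_filter.1 (Finset.mem_product.1 h2.1).1).2.1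
    have := e q2 q3 h2 h3 h23
    rw [e q1 q3 h1 h3 h13, ← e q1 q2 h1 h2 h12] at this
    exact n1 (congrArg Prod.fst this))
  rw [Finset.card_product, hK] at hle
  have hP : 0 < P.card := by
    obtain ⟨y, hy, -⟩ := exists_third_of_card hm x x
    obtain ⟨w, hw1, hw2⟩ := exists_third_of_card hm x y
    exact Finset.card_pos.2 ⟨(y, w), by simp [P, hw2, hy.symm, hw1.symm]⟩
  omega

theorem sharp3_exists_ker [Fintype Ω] (h : H19.Sharp3 G Ω) (hm : 3 ≤ Fintype.card Ω) (a : Ω) :
    ∃ F : Subgroup G, IsKer a F ∧ IsMulCommutative F := by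
  obtain ⟨p, j, -, -, -, K, h1, h2, h3, h4, h5⟩ := h.kernel hm a
  exact ⟨K, ⟨h1, h2, h4, h5⟩, h3⟩

theorem sharp3_card_st2 [Fintype Ω] (h : H19.Sharp3 G Ω) (hm : 3 ≤ Fintype.card Ω) {a b : Ω} (hab : a ≠ b) :
    Nat.card (st2 G a b) + 2 = Fintype.card Ω := by
  classical
  obtain ⟨c, hac, hbc⟩ := exists_third_of_card hm a b
  have e : st2 G a b ≃ {x : Ω // x ∈ Finset.univ \ {a, b}} := Equiv.ofBijective
    (fun k => ⟨k.1 • c, by
      simp only [Finset.mem_sdiff, Finset.mem_univ, Finset.mem_insert, Finset.mem_singleton, true_and, not_or]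
      exact ⟨fun e => hac (smul_left_cancel k.1 (k.2.1.trans e.symm)),
        fun e => hbc (smul_left_cancel k.1 (k.2.2.trans e.symm))⟩⟩)
    ⟨fun k l e => Subtype.ext ((Z3.of_sharp3 h hm).eq_of_three hab hac hbc (k.2.1.trans l.2.1.symm)
      (k.2.2.trans l.2.2.symm) (congrArg Subtype.val e)), fun y => by
      have hy := y.2
      simp only [Finset.mem_sdiff, Finset.mem_univ, Finset.mem_insert, Finset.mem_singleton, true_and,
        not_or] at hy
      obtain ⟨g, g1, g2, g3⟩ := h.trans a b c a b y hab hac hbc hab (Ne.symm hy.1) (Ne.symm hy.2)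
      exact ⟨⟨g, g1, g2⟩, Subtype.ext g3⟩⟩
  rw [Nat.card_congr e, Nat.card_eq_fintype_card, Fintype.card_coe, Finset.card_univ_diff,
    Finset.card_pair hab]
  omega

theorem sharp3_of_card [Finite G] [Fintype Ω] (h : Z3 G Ω) {a b : Ω} (hab : a ≠ b)
    (hd : Nat.card (st2 G a b) + 2 = Fintype.card Ω) : H19.Sharp3 G Ω := by
  classical
  refine ⟨fun x y w x' y' w' h1 h2 h3 h4 h5 h6 => ?_, h.three⟩
  obtain ⟨g, rfl, rfl⟩ := h.two x y x' y' h1 h4
  rw [← h.card_st2_eq hab h4] at hd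
  let f : st2 G (g • x) (g • y) → {c : Ω // c ∈ Finset.univ \ {g • x, g • y}} := fun k => ⟨k.1 • g • w, by
    simp only [Finset.mem_sdiff, Finset.mem_univ, Finset.mem_insert, Finset.mem_singleton, true_and, not_or]
    exact ⟨fun e => h2 (smul_left_cancel g (smul_left_cancel k.1 (k.2.1.trans e.symm))),
      fun e => h3 (smul_left_cancel g (smul_left_cancel k.1 (k.2.2.trans e.symm)))⟩⟩
  have hf : Function.Bijective f := by
    rw [Nat.bijective_iff_injective_and_card]
    refine ⟨fun k l e => Subtype.ext (h.eq_of_three h4 (fun e => h2 (smul_left_cancel g e))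
      (fun e => h3 (smul_left_cancel g e)) (k.2.1.trans l.2.1.symm)
      (k.2.2.trans l.2.2.symm) (congrArg Subtype.val e)), ?_⟩
    rw [Nat.card_eq_fintype_card (α := {c : Ω // _}), Fintype.card_coe, Finset.card_univ_diff,
      Finset.card_pair h4]
    omega
  obtain ⟨k, hk⟩ := hf.2 ⟨w', by simp [h5.symm, h6.symm]⟩
  exact ⟨k * g, by rw [mul_smul]; exact k.2.1, by rw [mul_smul]; exact k.2.2,
    by rw [mul_smul]; exact congrArg Subtype.val hk⟩

theorem sharp3_exists_index_two [Finite G] [Fintype Ω] (h : H19.Sharp3 G Ω) (hm : 3 ≤ Fintype.card Ω)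
    (hev : Even (Fintype.card Ω)) {a b : Ω} (hab : a ≠ b) : ∃ K : Subgroup (st2 G a b), K.index = 2 := by
  classical
  by_contra hno
  have hno' := hno
  push Not at hno'
  apply hno
  have hz3 := Z3.of_sharp3 h hm
  obtain ⟨F, hF, hFc⟩ := sharp3_exists_ker h hm a
  obtain ⟨c, hac, hbc⟩ := exists_third_of_card hm a b
  have hd := sharp3_card_st2 h hm hab
  have hn := hF.card hab.symm
  rw [Nat.card_eq_fintype_card (α := Ω)] at hn
  have hF1 := hF.ne_bot hab hac hbc
  obtain ⟨r, hr⟩ := hev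
  obtain ⟨⟨z, hz, hz1, hz2, hzu, -⟩, -⟩ := hF.exists_inv hz3 hab hF1 (by omega)
  let σ : G →* ℤˣ := Equiv.Perm.sign.comp (MulAction.toPermHom G Ω)
  have hσ : σ.ker = ⊤ := hF.hom_eq_one hz3 hab hac hbc _ (fun k hk => by
    have h1 : σ k ^ Nat.card F = 1 := by
      rw [← map_pow, show k ^ Nat.card F = 1 from congrArg Subtype.val (pow_card_eq_one' (x := (⟨k, hk⟩ : F))),
        map_one]
    rcases Int.units_eq_one_or (σ k) with e | e
    · exact e
    · rw [e, Odd.neg_one_pow ⟨r - 1, by omega⟩] at h1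
      exact absurd h1 (by decide)) (fun x hx =>
    hom_eq_one_of_no_index_two hno' (σ.comp (st2 G a b).subtype) ⟨x, hx⟩)
  have hsg : ∀ t : G, t * t = 1 → Even ((Fintype.card Ω - Fintype.card
      (Function.fixedPoints (MulAction.toPermHom G Ω t))) / 2) := by
    intro t ht
    have h1 : σ t = 1 := (hσ ▸ mem_top t : t ∈ σ.ker)
    have h2 := Equiv.Perm.sign_of_pow_two_eq_one (σ := MulAction.toPermHom G Ω t)
      (by rw [← map_pow, sq, ht, map_one])
    rw [show Equiv.Perm.sign (MulAction.toPermHom G Ω t) = σ t from rfl, h1] at h2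
    exact (neg_one_pow_eq_one_iff_even (by decide)).1 h2.symm
  have hfix : ∀ t : G, t * t = 1 → ∃ x : Ω, t • x = x := by
    intro t ht
    by_contra hc
    have h1 := hsg t ht
    have h2 := hsg z hz2
    have e1 : Fintype.card (Function.fixedPoints (MulAction.toPermHom G Ω t)) = 0 :=
      Fintype.card_eq_zero_iff.2 ⟨fun x => hc ⟨x.1, x.2⟩⟩
    have e2 : Fintype.card (Function.fixedPoints (MulAction.toPermHom G Ω z)) = 2 := by
      have : Function.fixedPoints (MulAction.toPermHom G Ω z) = {a, b} := by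
        ext x
        constructor
        · intro hx
          by_contra hh
          simp only [Set.mem_insert_iff, Set.mem_singleton_iff, not_or] at hh
          exact hz1 (hz3.three z a b x hab (Ne.symm hh.1) (Ne.symm hh.2) hz.1 hz.2 hx)
        · rintro (rfl | rfl)
          exacts [hz.1, hz.2]
      rw [← Nat.card_eq_fintype_card, this, Nat.card_coe_set_eq, Set.ncard_pair hab]
    rw [e1] at h1
    rw [e2] at h2
    rw [Nat.even_iff] at h1 h2
    omega
  have hsw : ∀ t ∈ pairStab G a b, t ∉ st2 G a b → t • a = b ∧ t • b = a := fun t ht h2 =>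
    ht.resolve_left h2
  have cfg : InvCfg (pairStab G a b) (st2 G a b) z :=
    ⟨st2_le_pairStab a b, fun x hx y hy h1 h2 => ⟨by
      change (x * y) • a = a
      rw [mul_smul, (hsw y hy h2).1, (hsw x hx h1).2], by
      change (x * y) • b = b
      rw [mul_smul, (hsw y hy h2).2, (hsw x hx h1).1]⟩, hz, hz1, hz2, hzu, fun t ht htH ht2 x hx e => by
      obtain ⟨o, ho⟩ := hfix t ht2
      have hao : a ≠ o := by rintro rfl; exact hab (ho.symm.trans (hsw t ht htH).1)
      have hbo : b ≠ o := by rintro rfl; exact hab (ho.symm.trans (hsw t ht htH).2).symm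
      have f1 : ∀ y : Ω, t • y = y → t • x • y = x • y := fun y hy => by rw [← mul_smul, e, mul_smul, hy]
      by_cases e1 : o = x • o
      · exact Or.inl (hz3.three x a b o hab hao hbo hx.1 hx.2 e1.symm)
      by_cases e2 : o = x • x • o
      · have hxx := mul_mem hx hx
        exact hzu x hx (hz3.three _ a b o hab hao hbo hxx.1 hxx.2 (by rw [mul_smul, ← e2]))
      exact absurd (hz3.three t o (x • o) (x • x • o) e1 e2 (fun e => e1 (smul_left_cancel x e)) ho (f1 _ ho)
        (f1 _ (f1 _ ho))) (by rintro rfl; exact htH (one_mem _))⟩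
  obtain ⟨s, s1, s2, s3⟩ := h.trans a b c b a c hab hac hbc hab.symm hbc hac
  exact cfg.exists_index_two (s := s) (Or.inr ⟨s1, s2⟩) (fun hs => hab (hs.1.symm.trans s1))
    (hz3.swap_sq hab s1 s2 s3) hF1 (hF.st2_le_normalizer b) (hF.fpf hz3 hab) (by omega)
    fun u hu v hv => hz3.order_three hm hab hu hv

theorem sharp3_exists_hom [Finite G] [Fintype Ω] (h : H19.Sharp3 G Ω) (hm : 3 ≤ Fintype.card Ω)
    (hev : Even (Fintype.card Ω)) {a b : Ω} (hab : a ≠ b) {s : G} (hs : s ∈ pairStab G a b) (hs2 : s * s = 1) :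
    ∃ φ : st2 G a b →* ℤˣ, (∃ y, φ y ≠ 1) ∧ ∀ x : st2 G a b, φ ⟨_, conj_mem_st2 hs x.2⟩ = φ x := by
  obtain ⟨K, hK⟩ := sharp3_exists_index_two h hm hev hab
  let φ := signHom K hK
  let σ : st2 G a b →* st2 G a b := MonoidHom.mk' (fun x => ⟨_, conj_mem_st2 hs x.2⟩)
    (fun x y => Subtype.ext (by simp [mul_assoc]))
  have hσ : ∀ x, σ (σ x) = x := fun x => Subtype.ext (by
    change s * (s * x * s⁻¹) * s⁻¹ = x
    calc _ = (s * s) * x * (s * s)⁻¹ := by group
      _ = x := by rw [hs2]; group)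
  by_cases hc : ∀ x, φ (σ x) = φ x
  · refine ⟨φ, ?_, hc⟩
    by_contra hh
    push Not at hh
    have : K = ⊤ := eq_top_iff.2 fun x _ => (signHom_eq_one_iff hK).1 (hh x)
    rw [this] at hK
    simp at hK
  · push Not at hc
    obtain ⟨x, hx⟩ := hc
    refine ⟨φ * φ.comp σ, ⟨x, fun e => hx ?_⟩, fun y => ?_⟩
    · change φ x * φ (σ x) = 1 at e
      rcases Int.units_eq_one_or (φ x) with e1 | e1 <;> rcases Int.units_eq_one_or (φ (σ x)) with e2 | e2 <;>
        simp_all
    · change φ (σ y) * φ (σ (σ y)) = φ y * φ (σ y)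
      rw [hσ, mul_comm]

theorem sharp3_exists_hom_group [Finite G] [Fintype Ω] (h : H19.Sharp3 G Ω) (hm : 3 ≤ Fintype.card Ω)
    (hev : Even (Fintype.card Ω)) {a b : Ω} (hab : a ≠ b) :
    ∃ V : G →* ℤˣ, ∃ y ∈ st2 G a b, V y ≠ 1 := by
  classical
  have hz3 := Z3.of_sharp3 h hm
  obtain ⟨c, hac, hbc⟩ := exists_third_of_card hm a b
  obtain ⟨s, s1, s2, s3⟩ := h.trans a b c b a c hab hac hbc hab.symm hbc hac
  have hs : s ∈ pairStab G a b := Or.inr ⟨s1, s2⟩
  have hs2 := hz3.swap_sq hab s1 s2 s3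
  have hsi : s⁻¹ = s := inv_eq_of_mul_eq_one_right hs2
  obtain ⟨φ, ⟨y, hy⟩, hφ⟩ := sharp3_exists_hom h hm hev hab hs hs2
  have hsw : ∀ t ∈ pairStab G a b, t ∉ st2 G a b → s * t ∈ st2 G a b := fun t ht h2 => ⟨by
    change (s * t) • a = a
    rw [mul_smul, (ht.resolve_left h2).1, s2], by
    change (s * t) • b = b
    rw [mul_smul, (ht.resolve_left h2).2, s1]⟩
  have hsH : s ∉ st2 G a b := fun hs => hab (hs.1.symm.trans s1)
  let l : pairStab G a b →* ℤˣ := MonoidHom.mk'
    (fun g => if hg : g.1 ∈ st2 G a b then φ ⟨g, hg⟩ else φ ⟨_, hsw g g.2 hg⟩) (fun x w => by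
      by_cases hx : x.1 ∈ st2 G a b <;> by_cases hw : w.1 ∈ st2 G a b
      · rw [dif_pos hx, dif_pos hw, dif_pos (show (x * w).1 ∈ _ from mul_mem hx hw), ← map_mul]; rfl
      · rw [dif_pos hx, dif_neg hw, dif_neg (by
          change x.1 * w.1 ∉ _
          rwa [mul_mem_cancel_left hx]), ← hφ ⟨x, hx⟩, ← map_mul]
        congr 1
        apply Subtype.ext
        change s * (x * w) = s * x * s⁻¹ * (s * w)
        group
      · rw [dif_neg hx, dif_pos hw, dif_neg (by
          change x.1 * w.1 ∉ _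
          rwa [mul_mem_cancel_right hw]), ← map_mul]
        congr 1
        exact Subtype.ext (mul_assoc _ _ _).symm
      · have hxw : (x * w).1 = s * (s * x) * s⁻¹ * (s * w) := by
          rw [← mul_assoc s s, hs2]; simp
        rw [dif_neg hx, dif_neg hw, dif_pos (by
          rw [hxw]; exact mul_mem (conj_mem_st2 hs (hsw x x.2 hx)) (hsw w w.2 hw)),
          ← hφ ⟨_, hsw x x.2 hx⟩, ← map_mul]
        congr 1
        exact Subtype.ext hxw)
  have hl1 : ∀ x : st2 G a b, l ⟨x, st2_le_pairStab a b x.2⟩ = φ x := fun x => dif_pos x.2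
  have hls : l ⟨s, hs⟩ = 1 := by
    change dite _ _ _ = _
    rw [dif_neg hsH, ← map_one φ]
    congr 1
    exact Subtype.ext hs2
  refine ⟨MonoidHom.transfer l, y, y.2, ?_⟩
  rw [hz3.transfer_two hab l y.2, hl1]
  · exact hy
  intro x hx u n e
  have hx2 : x.1 • b = a := (x.2.resolve_left fun h => hab (h.1.symm.trans hx)).2
  have ho : x.1 • u⁻¹ • a = u⁻¹ • a := by
    rw [e, mul_smul, mul_smul, smul_inv_smul, show y.1 ^ n • a = a from (pow_mem y.2 n).1]
  generalize u⁻¹ • a = o at ho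
  have hao : a ≠ o := by rintro rfl; exact hab (ho.symm.trans hx)
  have hbo : b ≠ o := by rintro rfl; exact hab (ho.symm.trans hx2).symm
  obtain ⟨k, k1, k2, k3⟩ := h.trans a b c a b o hab hac hbc hab hao hbo
  have : x = ⟨k, Or.inl ⟨k1, k2⟩⟩ * ⟨s, hs⟩ * ⟨k, Or.inl ⟨k1, k2⟩⟩⁻¹ := by
    apply Subtype.ext
    change x.1 = k * s * k⁻¹
    refine hz3.eq_of_three hab hao hbo ?_ ?_ ?_
    · rw [hx, mul_smul, mul_smul, inv_smul_eq_iff.2 k1.symm, s1, k2]
    · rw [hx2, mul_smul, mul_smul, inv_smul_eq_iff.2 k2.symm, s2, k1]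
    · rw [ho, mul_smul, mul_smul, inv_smul_eq_iff.2 k3.symm, s3, k3]
  rw [this, map_mul, map_mul, hls, map_inv, mul_one, mul_inv_cancel]

theorem sharp3_commutator_ne_top [Finite G] [Fintype Ω] (h : H19.Sharp3 G Ω) (hm : 3 ≤ Fintype.card Ω)
    (hev : Even (Fintype.card Ω)) : commutator G ≠ ⊤ := by
  obtain ⟨a, b, hab⟩ := Fintype.one_lt_card_iff.1 (show 1 < Fintype.card Ω by omega)
  obtain ⟨V, y, -, hy⟩ := sharp3_exists_hom_group h hm hev hab
  exact fun e => hy (Abelianization.commutator_subset_ker V (e ▸ mem_top y))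

/-- a perfect Zassenhaus group with even two-point stabiliser has `2 |G_ab| = |Ω| - 2` -/
theorem zass_perfect_even [Finite G] [Fintype Ω] (hZ : IsZassenhausGroup G Ω) (hp : commutator G = ⊤)
    {a b : Ω} (hab : a ≠ b) (hev : 2 ∣ Nat.card (st2 G a b)) :
    2 * Nat.card (st2 G a b) ≤ Fintype.card Ω - 2 := by
  have h := Z3.of_zass hZ
  obtain ⟨F, hF⟩ := zass_exists_ker hZ a
  have h1 := hF.card hab.symm
  rw [Nat.card_eq_fintype_card (α := Ω)] at h1
  have h3 := H07.Zass.three_le_card hZ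
  obtain ⟨m, hm⟩ := hF.card_dvd h hab
  have hm0 : m ≠ 0 := by rintro rfl; omega
  have hm1 : m ≠ 1 := by
    rintro rfl
    obtain ⟨r, hr⟩ := hev
    exact sharp3_commutator_ne_top (sharp3_of_card h hab (by omega)) h3 ⟨r + 1, by omega⟩ hp
  have : Nat.card (st2 G a b) * 2 ≤ Nat.card (st2 G a b) * m := Nat.mul_le_mul_left _ (by omega)
  omega

end H18
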