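import Mathlib
import Cfsg.Agent.H18.Feit3
import Cfsg.Agent.H18.Sharp3Even

/-!
Recognition kit for 2-transitive groups whose point stabiliser has an abelian regular normal subgroup (namespace `H18`).
* `isKer_of_free`, `IsKer.two`, `IsKer.z3`, `isKer_sylow` (TI Sylow subgroup with `n_p = |P| + 1`).
* `IsKer.zk_main`: sharply 3-transitive, or `PSL(2, K)` with `|K| + 1 = |Ω|`, or a regular normal elementary abelian
  subgroup.
-/

open MulAction Subgroup Cfsg
open scoped Pointwise IsMulCommutative MatrixGroups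

namespace H18

variable {G Ω : Type*} [Group G] [MulAction G Ω] {a b : Ω} {F : Subgroup G}

theorem isKer_of_free [Finite Ω] (fix : ∀ k ∈ F, k • a = a) (conj : ∀ g : G, g • a = a → ∀ k ∈ F, g * k * g⁻¹ ∈ F)
    (reg : ∀ o, o ≠ a → ∀ k ∈ F, k • o = o → k = 1) (hc : Nat.card F + 1 = Nat.card Ω) : IsKer a F := by
  refine ⟨fix, conj, fun o y ho hy => ?_, reg⟩
  let f : F → {x : Ω // x ≠ a} := fun k => ⟨k.1 • o, fun e => ho (by
    rw [← fix k k.2] at e; exact smul_left_cancel _ e)⟩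
  have hf : Function.Injective f := fun k l e => Subtype.ext (by
    have e1 : k.1 • o = l.1 • o := congrArg Subtype.val e
    have := reg o ho (l.1⁻¹ * k) (mul_mem (inv_mem l.2) k.2) (by rw [mul_smul, e1, inv_smul_smul])
    exact (inv_mul_eq_one.1 this).symm)
  have : Nat.card {x : Ω // x ≠ a} + 1 = Nat.card Ω := by
    have := Fintype.ofFinite Ω
    classical
    have h1 : 0 < Fintype.card Ω := Fintype.card_pos_iff.2 ⟨a⟩
    simp only [Nat.card_eq_fintype_card, Fintype.card_subtype_compl, Fintype.card_unique]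
    omega
  obtain ⟨k, hk⟩ := ((Nat.bijective_iff_injective_and_card f).2 ⟨hf, by omega⟩).2 ⟨y, hy⟩
  exact ⟨k, k.2, congrArg Subtype.val hk⟩

theorem IsKer.two (hF : IsKer a F) [IsPretransitive G Ω] (x y z w : Ω) (h1 : x ≠ y) (h2 : z ≠ w) :
    ∃ g : G, g • x = z ∧ g • y = w := by
  obtain ⟨g, rfl⟩ := exists_smul_eq G a x
  obtain ⟨k, rfl⟩ := exists_smul_eq G a z
  obtain ⟨u, hu, e⟩ := hF.trans (g⁻¹ • y) (k⁻¹ • w) (fun e => h1 (by rw [← e, smul_inv_smul]))
    (fun e => h2 (by rw [← e, smul_inv_smul]))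
  exact ⟨k * u * g⁻¹, by simp [mul_smul, hF.fix u hu], by simp [mul_smul, e]⟩

theorem IsKer.z3 (hF : IsKer a F) [IsPretransitive G Ω]
    (hc : ∀ g : G, g • a = a → ∀ k ∈ F, k ≠ 1 → g * k = k * g → g ∈ F) : Z3 G Ω := by
  refine ⟨hF.two, fun g x y z h1 h2 h3 e1 e2 e3 => ?_⟩
  obtain ⟨t, rfl⟩ := exists_smul_eq G a x
  obtain ⟨y, rfl⟩ := (MulAction.toPerm t).surjective y
  obtain ⟨z, rfl⟩ := (MulAction.toPerm t).surjective z
  simp only [toPerm_apply, ne_eq, smul_left_cancel_iff] at *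
  have k1 : ∀ u : Ω, g • t • u = t • u → (t⁻¹ * g * t) • u = u := fun u e => by simp [mul_smul, e]
  obtain ⟨u, hu, e⟩ := hF.trans y z (Ne.symm h1) (Ne.symm h2)
  have k2 := hF.eq_of_smul_eq (hF.conj _ (k1 _ e1) u hu) hu (Ne.symm h1) (by
    rw [mul_smul, mul_smul, inv_smul_eq_iff.2 (k1 _ e2).symm, e, k1 _ e3])
  have := hF.reg y (Ne.symm h1) _ (hc _ (k1 _ e1) u hu (by rintro rfl; exact h3 (by simpa using e))
    (mul_inv_eq_iff_eq_mul.1 k2)) (k1 _ e2)
  calc g = t * (t⁻¹ * g * t) * t⁻¹ := by group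
    _ = 1 := by rw [this]; group

theorem IsKer.mem_of_comm [FaithfulSMul G Ω] (hF : IsKer a F) [IsMulCommutative F] {g : G} (hg : g • a = a)
    (hc : ∀ k ∈ F, g * k = k * g) : g ∈ F := by
  by_cases h : ∃ o, o ≠ a
  swap
  · push Not at h
    exact (eq_of_smul_eq_smul (α := Ω) (m₁ := g) (m₂ := 1) fun x => (h _).trans (h _).symm) ▸ one_mem F
  obtain ⟨o, ho⟩ := h
  obtain ⟨l, hl, e⟩ := hF.trans o (g • o) ho (fun e => ho (smul_left_cancel g (e.trans hg.symm)))
  refine (eq_of_smul_eq_smul (α := Ω) (m₁ := l) (m₂ := g) fun x => ?_) ▸ hl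
  by_cases hx : x = a
  · rw [hx, hg, hF.fix l hl]
  obtain ⟨k, hk, rfl⟩ := hF.trans o x ho hx
  rw [← mul_smul, ← mul_smul, hc k hk, show l * k = k * l from
    congrArg Subtype.val (mul_comm' (⟨l, hl⟩ : F) ⟨k, hk⟩), mul_smul, mul_smul, e]

theorem IsKer.z3_of_prime [FaithfulSMul G Ω] [IsPretransitive G Ω] (hF : IsKer a F) (hp : (Nat.card F).Prime) :
    Z3 G Ω ∧ IsCyclic F := by
  have := Fact.mk hp
  have hc : IsCyclic F := isCyclic_of_prime_card rfl
  refine ⟨hF.z3 fun g hg k hk k1 e => hF.mem_of_comm hg fun l hl => ?_, hc⟩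
  have : Finite F := Nat.finite_of_card_ne_zero hp.ne_zero
  obtain ⟨n, hn⟩ := mem_zpowers_of_prime_card (G := F) rfl (g := ⟨k, hk⟩) (fun e => k1 (congrArg Subtype.val e))
    (g' := ⟨l, hl⟩)
  rw [← show k ^ n = l from congrArg Subtype.val hn]
  exact (Commute.zpow_right e n).eq

theorem isKer_sylow [Finite G] {p : ℕ} [Fact p.Prime] (P : Sylow p G)
    (hti : ∀ Q : Sylow p G, Q ≠ P → (P : Subgroup G) ⊓ Q = ⊥) (hn : Nat.card (Sylow p G) = Nat.card P + 1) :
    IsKer P (P : Subgroup G) := by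
  refine isKer_of_free (fun k hk => Sylow.smul_eq_iff_mem_normalizer.2 (le_normalizer hk))
    (fun g hg k hk => (mem_normalizer_iff.1 (Sylow.smul_eq_iff_mem_normalizer.1 hg) k).1 hk) (fun Q hQ k hk e => ?_)
    hn.symm
  have h1 : zpowers k ≤ normalizer (Q : Set G) := zpowers_le.2 (Sylow.smul_eq_iff_mem_normalizer.1 e)
  have h2 : IsPGroup p (zpowers k) := P.isPGroup'.to_le (zpowers_le.2 hk)
  have h3 := h2.inf_normalizer_sylow Q
  rw [inf_of_le_left h1] at h3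
  have : k ∈ (P : Subgroup G) ⊓ Q := ⟨hk, (h3.le (mem_zpowers k)).2⟩
  rwa [hti Q hQ] at this

theorem Z3.faithful [Fintype Ω] (h : Z3 G Ω) (hm : 3 ≤ Fintype.card Ω) : FaithfulSMul G Ω := by
  obtain ⟨x, y, z, h1, h2, h3⟩ := Fintype.two_lt_card_iff.1 hm
  exact ⟨fun e => h.eq_of_three h1 h2 h3 (e _) (e _) (e _)⟩

theorem IsKer.zk_main [Finite G] [Fintype Ω] (hF : IsKer a F) (h : Z3 G Ω) (hm : 3 ≤ Fintype.card Ω) (hab : a ≠ b)
    [hFab : IsMulCommutative F] :
    (H19.Sharp3 G Ω ∧ Nat.card (st2 G a b) + 2 = Fintype.card Ω) ∨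
    (Fintype.card Ω = 2 * Nat.card (st2 G a b) + 2 ∧ ∃ (K : Type) (_ : Field K) (_ : Fintype K), ringChar K ≠ 2 ∧
      Fintype.card K + 1 = Fintype.card Ω ∧ Nonempty (G ≃* PSL(2, K))) ∨
    ∃ p j : ℕ, p.Prime ∧ 1 ≤ j ∧ Fintype.card Ω = p ^ j ∧ ∃ K : Subgroup G, K.Normal ∧ IsMulCommutative K ∧
      (∀ x ∈ K, x ^ p = 1) ∧ IsPretransitive K Ω ∧ ∀ c : Ω, stabilizer K c = ⊥ := by
  have := h.faithful hm
  have h2 : IsMultiplyPretransitive G Ω 2 := is_two_pretransitive_iff.2 fun {a b c d} => h.two a b c d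
  by_cases hZ : IsZassenhausGroup G Ω
  swap
  · right; right
    have : ∃ N : Subgroup G, N.Normal ∧ IsPretransitive N Ω ∧
        ∀ g ∈ N, ∀ a b : Ω, a ≠ b → g • a = a → g • b = b → g = 1 := by
      by_contra! hc
      refine hZ ⟨this, h2, fun g a b c h1 h2 h3 => h.three g a b c h1 h3 h2, ?_, fun N hN ht => ?_⟩
      · obtain ⟨g, -, x, y, h1, h2, h3, h4⟩ := hc ⊤ inferInstance ⟨fun x y => by
          by_cases e : x = y
          · exact ⟨1, by simp [e]⟩
          obtain ⟨g, hg, -⟩ := h.two x y y x e (Ne.symm e)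
          exact ⟨⟨g, trivial⟩, hg⟩⟩
        exact ⟨g, h4, x, y, h1, h2, h3⟩
      · obtain ⟨g, hg, x, y, h1, h2, h3, h4⟩ := hc N hN ht
        refine ⟨x, fun e => h4 ?_⟩
        have : (⟨g, hg⟩ : N) ∈ stabilizer N x := h2
        rw [e, mem_bot] at this
        exact congrArg Subtype.val this
    obtain ⟨N, hN, ht, hs⟩ := this
    obtain ⟨p, j, a1, a2, a3, K, a4, -, a5, a6, a7, -, a8, -⟩ := frob_normal_struct h2 (by omega) N ht hs
    exact ⟨p, j, a1, a2, a3, K, a4, a5, a6, a7, a8⟩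
  have h4 := hF.card hab.symm
  rw [Nat.card_eq_fintype_card (α := Ω)] at h4
  by_cases hs : Nat.card (st2 G a b) + 2 = Fintype.card Ω
  · exact Or.inl ⟨sharp3_of_card h hab hs, hs⟩
  right; left
  have hd : 2 * Nat.card (st2 G a b) ≤ Fintype.card Ω - 2 := by
    obtain ⟨k, hk⟩ := hF.card_dvd h hab
    rcases k with _ | _ | k
    · omega
    · omega
    · have : Nat.card (st2 G a b) * 2 ≤ Nat.card (st2 G a b) * (k + 1 + 1) :=
        Nat.mul_le_mul_left _ (by omega)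
      omega
  rcases Nat.even_or_odd (Nat.card (st2 G a b)) with he | he
  · obtain ⟨h1, -, h2, h3⟩ := hF.inverts_of_even_half h hab he.two_dvd hd
    obtain ⟨p, f, K, i1, i2, -, -, h5, h6, h7, h8⟩ := hF.psl2_of_half h hab h1 h2 h3
    exact ⟨h1, K, i1, i2, h5, by omega, h8⟩
  have hle := Nat.le_of_dvd Nat.card_pos (card_st2_dvd (normalClosure (F : Set G)) a b)
  obtain ⟨z1, z2⟩ := zass_normalClosure_simple hZ hF
  rcases zass_feit_closure hZ hab he hF inferInstance with h1 | ⟨-, ⟨u, v, h2⟩, -⟩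
  swap
  · exact absurd (hFab.1.1 u v) h2
  have hF' := hF.subgroupOf (N := normalClosure (F : Set G)) le_normalClosure
  have h5 := hF'.card hab.symm
  rw [Nat.card_eq_fintype_card (α := Ω)] at h5
  have htop : normalClosure (F : Set G) = ⊤ := by
    rw [← card_eq_iff_eq_top, hF.card_group h hab, hF'.card_group (Z3.of_zass z1) hab]
    congr 1
    · congr 1 <;> omega
    · omega
  have := z1.1
  obtain ⟨p, f, K, i1, i2, -, -, h5, h6, h7, ⟨e⟩⟩ := hF'.psl2_of_half (Z3.of_zass z1) hab (by omega)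
    (zass_inverts_of_odd z1 (zass_simple_perfect z1) hab
      (he.of_dvd_nat (card_st2_dvd _ a b))).1 (zass_simple_perfect z1)
  exact ⟨by omega, K, i1, i2, h5, by omega, ⟨((MulEquiv.subgroupCongr htop).trans topEquiv).symm.trans e⟩⟩

end H18
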