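import Mathlib

/-! Pairs of permutations `a`, `b` with `a` transitive and `a * b` a cycle fixing exactly two points; such pairs
generate a non-solvable group. -/

set_option autoImplicit false
set_option linter.unusedSectionVars false

namespace H18.AP
open Equiv hiding sumCongr
open Equiv.Perm Sum

/-- the product is not a `p`-element and the pair generates a non-solvable group -/
def Good {G : Type*} [Group G] (p : ℕ) (a b : G) : Prop :=
  (∀ k, (a * b) ^ p ^ k ≠ 1) ∧ ¬ Group.IsSolvable (Subgroup.closure ({a, b} : Set G))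

section good
variable {G H : Type*} [Group G] [Group H] {p : ℕ} {a b : G}

theorem Good.of_map (f : G →* H) (h : Good p (f a) (f b)) : Good p a b := ⟨fun k e => h.1 k (by
    rw [← map_mul, ← map_pow, e, map_one]), fun _ => h.2 (by
    rw [← Set.image_pair, ← MonoidHom.map_closure]
    exact Group.isSolvable_of_surjective (f.subgroupMap_surjective _))⟩

theorem Good.map (f : G →* H) (hf : Function.Injective f) (h : Good p a b) : Good p (f a) (f b) :=
  ⟨fun k e => h.1 k (hf (by rw [map_pow, map_mul, e, map_one])), fun H => h.2 (by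
    rw [← Set.image_pair, ← MonoidHom.map_closure] at H
    exact Group.isSolvable_of_isSolvable_injective (f := (Subgroup.equivMapOfInjective _ f hf).toMonoidHom)
      (MulEquiv.injective _))⟩

theorem Good.conj (h : Good p a b) (g : G) : Good p (g * a * g⁻¹) (g * b * g⁻¹) :=
  h.map (MulAut.conj g).toMonoidHom (MulEquiv.injective _)

theorem Good.symm (h : Good p a b) : Good p b a := ⟨fun k e => h.1 k (by
  rw [show a * b = a * (b * a) * a⁻¹ by group, conj_pow, e]; simp), by rw [Set.pair_comm]; exact h.2⟩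

theorem not_solv {x : G} {K : Subgroup G} (hx : x ∈ K) (x1 : x ≠ 1) {g h : G} (hg : g ∈ K) (hh : h ∈ K)
    (e : x = g * x * g⁻¹ * (h * x * h⁻¹) * (g * x * g⁻¹)⁻¹ * (h * x * h⁻¹)⁻¹) : ¬ Group.IsSolvable K := by
  refine not_isSolvable_of_mem_derivedSeries (g := ⟨x, hx⟩) (fun e => x1 (congrArg Subtype.val e)) fun n => ?_
  induction n with
  | zero => exact Subgroup.mem_top _
  | succ n ih =>
    have := Subgroup.commutator_mem_commutator ((derivedSeries_normal K n).conj_mem _ ih ⟨g, hg⟩)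
      ((derivedSeries_normal K n).conj_mem _ ih ⟨h, hh⟩)
    rw [derivedSeries_succ]
    convert this using 1
    exact Subtype.ext e

theorem exists_ab (H : Subgroup G) [Group.IsSolvable H] (h : H ≠ ⊥) : ∃ K : Subgroup G, K ≠ ⊥ ∧
    (∀ g ∈ H, ∀ k ∈ K, g * k * g⁻¹ ∈ K) ∧ ∀ k ∈ K, ∀ l ∈ K, k * l = l * k := by
  classical
  have e := Nat.find_spec (Group.IsSolvable.solvable (G := H))
  obtain ⟨n, hn⟩ := Nat.exists_eq_succ_of_ne_zero (n := Nat.find (Group.IsSolvable.solvable (G := H))) fun e0 => by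
    rw [e0, derivedSeries_zero] at e
    exact h ((Subgroup.eq_bot_iff_forall _).2 fun x hx => congrArg Subtype.val (show (⟨x, hx⟩ : H) = 1 from
      Subgroup.mem_bot.1 (e ▸ Subgroup.mem_top _)))
  refine ⟨(derivedSeries H n).map H.subtype, fun e0 => Nat.find_min (Group.IsSolvable.solvable (G := H))
    (show n < _ by omega) ((Subgroup.map_eq_bot_iff_of_injective _ H.subtype_injective).1 e0), ?_, ?_⟩
  · rintro g hg _ ⟨k, hk, rfl⟩
    exact ⟨_, (derivedSeries_normal H n).conj_mem _ hk ⟨g, hg⟩, rfl⟩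
  · rintro _ ⟨k, hk, rfl⟩ _ ⟨l, hl, rfl⟩
    rw [hn, derivedSeries_succ] at e
    exact congrArg Subtype.val (show k * l = l * k from commutatorElement_eq_one_iff_mul_comm.1 (Subgroup.mem_bot.1
      (e ▸ Subgroup.commutator_mem_commutator hk hl)))

end good

variable {X Y : Type} [Fintype X] [DecidableEq X] [Fintype Y] [DecidableEq Y]

/-- a transitive permutation -/
def Tr (a : Perm X) : Prop := ∀ x y, SameCycle a x y

/-- two fixed points and one further cycle -/
structure Q (c : Perm X) (x₀ x₁ s : X) : Prop where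
  n01 : x₀ ≠ x₁
  n0 : s ≠ x₀
  n1 : s ≠ x₁
  f0 : c x₀ = x₀
  f1 : c x₁ = x₁
  cyc : ∀ y, y ≠ x₀ → y ≠ x₁ → SameCycle c s y

theorem Tr.of {a : Perm X} {s : X} (h : ∀ y, SameCycle a s y) : Tr a := fun x y => (h x).symm.trans (h y)

theorem Tr.conj {a : Perm X} (h : Tr a) (g : Perm X) : Tr (g * a * g⁻¹) := fun _ _ => sameCycle_conj.2 (h _ _)

theorem Q.conj {c : Perm X} {x₀ x₁ s : X} (h : Q c x₀ x₁ s) (g : Perm X) : Q (g * c * g⁻¹) (g x₀) (g x₁) (g s) :=
  ⟨g.injective.ne h.n01, g.injective.ne h.n0, g.injective.ne h.n1, by simp [h.f0], by simp [h.f1], fun y h0 h1 => by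
    rw [sameCycle_conj, show g⁻¹ (g s) = s by simp]
    exact h.cyc _ (fun e => h0 (by rw [← e]; simp)) fun e => h1 (by rw [← e]; simp)⟩

theorem Tr.type {a : Perm X} (h : Tr a) (h2 : 2 ≤ Fintype.card X) : a.cycleType = {Fintype.card X} := by
  have a1 : ∀ x, a x ≠ x := fun x e => by
    obtain ⟨y, hy⟩ := Fintype.exists_ne_of_one_lt_card h2 x
    exact hy ((h x y).eq_of_left e).symm
  obtain ⟨x⟩ := Fintype.card_pos_iff.1 (lt_of_lt_of_le two_pos h2)
  rw [IsCycle.cycleType ⟨x, a1 x, fun y _ => h x y⟩, Finset.eq_univ_of_forall fun y => mem_support.2 (a1 y),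
    Finset.card_univ]

theorem Tr.sq {a : Perm X} (h : Tr a) (h2 : 2 ≤ Fintype.card X) (ho : Odd (Fintype.card X)) : Tr (a * a) := by
  obtain ⟨m, hm⟩ := ho
  have e : (a * a) ^ (m + 1) = a := by
    have := pow_orderOf_eq_one a
    rw [← lcm_cycleType, h.type h2, Multiset.lcm_singleton, normalize_eq, hm] at this
    rw [← pow_two, ← pow_mul, show 2 * (m + 1) = 2 * m + 1 + 1 by ring, pow_succ, this, one_mul]
  exact fun x y => SameCycle.of_pow (n := m + 1) (e.symm ▸ h x y)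

theorem fix_card {c : Perm X} {p k : ℕ} (hp : p.Prime) (e : c ^ p ^ k = 1) :
    Fintype.card X ≡ Fintype.card {x // c x = x} [MOD p] :=
  haveI := Fact.mk hp
  let f : Function.End X := ⇑c
  card_fixedPoints_modEq (f := f) (p := p) (n := k) (by
    have : ∀ (n : ℕ) x, (f ^ n) x = (c ^ n) x := fun n => by
      induction n with
      | zero => exact fun _ => rfl
      | succ n ih => intro x; rw [pow_succ, pow_succ]; exact ih (c x)
    funext x
    rw [this, e]; rfl)

theorem good {a b : Perm X} {x₀ x₁ s : X} {p : ℕ} (ha : Tr a) (h : Q (a * b) x₀ x₁ s) (hp : p.Prime) (p3 : 3 ≤ p)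
    (hd : p ∣ Fintype.card X) (h4 : 4 ≤ Fintype.card X) (ho : Odd (Fintype.card X)) : Good p a b := by
  have fx : ∀ y, (a * b) y = y → y = x₀ ∨ y = x₁ := fun y hy => by
    by_contra! H
    have e := (h.cyc y H.1 H.2).eq_of_right hy
    have : Finset.univ ⊆ ({x₀, x₁, s} : Finset X) := fun z _ => by
      by_contra! H'
      simp only [Finset.mem_insert, Finset.mem_singleton, not_or] at H'
      exact H'.2.2 ((h.cyc z H'.1 H'.2.1).eq_of_left (e ▸ hy)).symm
    have := (Finset.card_le_card this).trans Finset.card_le_three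
    rw [Finset.card_univ] at this
    omega
  have ev : ∀ k : Perm X, k * k = 1 → (∀ y, k y ≠ y) → False := fun k h1 h2 => by
    have := fix_card (k := 1) Nat.prime_two (by rw [pow_one, pow_two, h1])
    rw [(Fintype.card_eq_zero_iff (α := {x // k x = x})).2 ⟨fun y => h2 y.1 y.2⟩] at this
    exact Nat.not_even_iff_odd.2 ho (even_iff_two_dvd.2 ((Nat.modEq_zero_iff_dvd).1 this))
  refine ⟨fun k e => ?_, fun _ => ?_⟩
  · have := fix_card hp e
    rw [Fintype.card_of_subtype {x₀, x₁} (fun y => ⟨fun H => by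
      rcases Finset.mem_insert.1 H with rfl | H
      · exact h.f0
      · rw [Finset.mem_singleton.1 H]; exact h.f1, fun H => by simpa using fx y H⟩), Finset.card_pair h.n01] at this
    have := Nat.le_of_dvd two_pos ((this.dvd_iff dvd_rfl).1 hd)
    omega
  have ma : a ∈ Subgroup.closure ({a, b} : Set (Perm X)) := Subgroup.subset_closure (by simp)
  have mc := mul_mem ma (Subgroup.subset_closure (by simp) : b ∈ Subgroup.closure ({a, b} : Set (Perm X)))
  obtain ⟨K, K1, K2, K3⟩ := exists_ab (Subgroup.closure ({a, b} : Set (Perm X))) fun e => by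
    rw [e, Subgroup.mem_bot] at ma
    exact h.n01 ((ha x₀ x₁).eq_of_left (by rw [ma]; rfl))
  have b1 : ∀ x, ∃ k ∈ K, k x ≠ x := fun x => by
    by_contra! H
    refine K1 ((Subgroup.eq_bot_iff_forall _).2 fun k hk => Equiv.ext fun y => ?_)
    obtain ⟨i, rfl⟩ := ha x y
    have := H _ (K2 _ (inv_mem (zpow_mem ma i)) k hk)
    rwa [inv_inv, mul_apply, mul_apply, inv_eq_iff_eq] at this
  have b2 : ∀ x, (a * b) x = x → ∀ k ∈ K, k x ≠ x₀ → k x ≠ x₁ → ∀ y, y ≠ x₀ → y ≠ x₁ → ∃ l ∈ K, l x = y :=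
    fun x hx k hk h0 h1 y y0 y1 => by
      obtain ⟨i, e⟩ := (h.cyc _ h0 h1).symm.trans (h.cyc y y0 y1)
      refine ⟨_, K2 _ (zpow_mem mc i) k hk, ?_⟩
      rw [mul_apply, mul_apply, ← zpow_neg, zpow_apply_eq_self_of_apply_eq_self hx, e]
  obtain ⟨k, hk, e⟩ : ∃ k ∈ K, k x₀ = x₁ := by
    by_contra! H
    obtain ⟨k, hk, e⟩ := b1 x₀
    obtain ⟨l, hl, e'⟩ := b1 x₁
    obtain ⟨k, hk, e⟩ := b2 _ h.f0 k hk e (H k hk) s h.n0 h.n1
    obtain ⟨l, hl, e'⟩ := b2 _ h.f1 l hl (fun e => H _ (inv_mem hl) (by rw [← e]; simp)) e' s h.n0 h.n1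
    exact H _ (mul_mem (inv_mem hl) hk) (by rw [mul_apply, e, ← e']; simp)
  by_cases H : ∃ l ∈ K, l x₀ ≠ x₀ ∧ l x₀ ≠ x₁
  · obtain ⟨l, hl, l0, l1⟩ := H
    have t : ∀ y, ∃ l ∈ K, l x₀ = y := fun y => by
      by_cases y0 : y = x₀
      · exact ⟨1, one_mem _, y0.symm⟩
      by_cases y1 : y = x₁
      · exact ⟨k, hk, e.trans y1.symm⟩
      exact b2 _ h.f0 l hl l0 l1 y y0 y1
    have r : ∀ m ∈ K, ∀ y z, m y = y → m z = z := fun m hm y z hy => by
      obtain ⟨l, hl, rfl⟩ := t y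
      obtain ⟨l', hl', rfl⟩ := t z
      rw [← mul_apply, K3 m hm l hl, mul_apply, l.injective.eq_iff] at hy
      rw [← mul_apply, K3 m hm l' hl', mul_apply, hy]
    have e1 := r _ (mul_mem (inv_mem hk) (K2 _ mc k hk)) x₀ x₁ (by
      rw [mul_apply, mul_apply, mul_apply, inv_eq_iff_eq.2 h.f0.symm, e, h.f1, ← e]; simp)
    rw [mul_apply, mul_apply, mul_apply, inv_eq_iff_eq.2 h.f1.symm, inv_eq_iff_eq] at e1
    have e2 : k x₁ = x₀ := (fx _ e1).resolve_right fun e3 => h.n01 (k.injective (e.trans e3.symm))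
    exact ev k (Equiv.ext fun z => r _ (mul_mem hk hk) x₀ z (by rw [mul_apply, e, e2]))
      fun y hy => h.n01 ((r k hk y x₀ hy).symm.trans e)
  push Not at H
  obtain ⟨d, hd⟩ := ha x₀ x₁
  have r : ∀ (i : ℤ) y z, (a ^ i) y = y → (a ^ i) z = z := fun i y z hy => by
    obtain ⟨j, rfl⟩ := ha y z
    rw [← mul_apply, (Commute.zpow_zpow_self a i j).eq, mul_apply, hy]
  have e1 : (a ^ d * k * (a ^ d)⁻¹ * k) x₀ = (a ^ d) x₁ := by
    rw [mul_apply, mul_apply, mul_apply, e, inv_eq_iff_eq.2 hd.symm, e]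
  have e2 : (a ^ d) x₁ = x₀ := by
    by_contra e3
    exact h.n01 ((a ^ d).injective (hd.trans ((H _ (mul_mem (K2 _ (zpow_mem ma d) k hk) hk) (e1 ▸ e3)).symm.trans e1)))
  exact ev (a ^ d) (Equiv.ext fun z => by
      rw [← zpow_add]; exact r _ x₀ z (by rw [zpow_add, mul_apply, hd, e2]))
    fun y hy => h.n01 ((r d y x₀ hy).symm.trans hd)

theorem join {f : Perm X} {s t : X} (h : ¬ SameCycle f s t) {z : X} (hz : SameCycle f s z ∨ SameCycle f t z) :
    SameCycle (swap s t * f) s z := by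
  have a1 : ∀ z, SameCycle (swap s t * f) s z → SameCycle (swap s t * f) s (swap s t (f z)) :=
    fun z hz => sameCycle_apply_right.2 hz
  have a2 : ∀ z, SameCycle f s z → SameCycle (swap s t * f) s z := fun z hz => by
    obtain ⟨i, -, rfl⟩ := hz.exists_pow_eq'
    induction i with
    | zero => exact SameCycle.refl _ _
    | succ i ih =>
      have := a1 _ (ih ⟨i, by simp⟩)
      rw [pow_succ', mul_apply] at hz ⊢
      by_cases e : f ((f ^ i) s) = s
      · rw [e]
      · rwa [swap_apply_of_ne_of_ne e fun e => h (by rwa [e] at hz)] at this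
  have a3 : SameCycle (swap s t * f) s t := by simpa using a1 _ (a2 (f⁻¹ s) ⟨-1, by simp⟩)
  rcases hz with hz | hz
  · exact a2 z hz
  obtain ⟨i, -, rfl⟩ := hz.exists_pow_eq'
  induction i with
  | zero => exact a3
  | succ i ih =>
    have := a1 _ (ih ⟨i, by simp⟩)
    rw [pow_succ', mul_apply] at hz ⊢
    by_cases e : f ((f ^ i) t) = t
    · rwa [e]
    · rwa [swap_apply_of_ne_of_ne (fun e => h (by rw [e] at hz; exact hz.symm)) e] at this

theorem sum_zpow (a : Perm X) (r : Perm Y) (i : ℤ) : sumCongr a r ^ i = sumCongr (a ^ i) (r ^ i) :=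
  (map_zpow (sumCongrHom X Y) (a, r) i).symm

theorem gl_l (a : Perm X) (r : Perm Y) (s : X) (t : Y) {x : X} (h : SameCycle a s x) :
    SameCycle (swap (inl s) (inr t) * sumCongr a r) (inl s) (inl x) :=
  join (fun ⟨i, e⟩ => by simp [sum_zpow] at e) (Or.inl (h.imp fun i e => by simp [sum_zpow, e]))

theorem gl_r (a : Perm X) (r : Perm Y) (s : X) (t : Y) {y : Y} (h : SameCycle r t y) :
    SameCycle (swap (inl s) (inr t) * sumCongr a r) (inl s) (inr y) :=
  join (fun ⟨i, e⟩ => by simp [sum_zpow] at e) (Or.inr (h.imp fun i e => by simp [sum_zpow, e]))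

theorem Tr.gl {a : Perm X} {r : Perm Y} (ha : Tr a) (hr : Tr r) (s : X) (t : Y) :
    Tr (swap (inl s) (inr t) * sumCongr a r) := Tr.of (s := inl s) (by
  rintro (x | y)
  exacts [gl_l a r s t (ha _ _), gl_r a r s t (hr _ _)])

theorem Q.gl {c : Perm X} {x₀ x₁ s : X} (h : Q c x₀ x₁ s) {r : Perm Y} (hr : Tr r) (t : Y) :
    Q (swap (inl s) (inr t) * sumCongr c r) (inl x₀) (inl x₁) (inl s) :=
  ⟨by simpa using h.n01, by simpa using h.n0, by simpa using h.n1,
    by simp [h.f0, swap_apply_of_ne_of_ne, h.n0.symm], by simp [h.f1, swap_apply_of_ne_of_ne, h.n1.symm], by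
    rintro (x | y) h0 h1
    exacts [gl_l c r s t (h.cyc x (by simpa using h0) (by simpa using h1)), gl_r c r s t (hr _ _)]⟩

theorem type_sum (a : Perm X) (r : Perm Y) : (sumCongr a r).cycleType = a.cycleType + r.cycleType := by
  have e1 : sumCongr a 1 = a.viaFintypeEmbedding (Function.Embedding.inl (β := Y)) := Equiv.ext (by
    rintro (x | y)
    · exact (a.viaFintypeEmbedding_apply_image Function.Embedding.inl x).symm
    · exact (a.viaFintypeEmbedding_apply_notMem_range _ (by simp)).symm)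
  have e2 : sumCongr 1 r = r.viaFintypeEmbedding (Function.Embedding.inr (α := X)) := Equiv.ext (by
    rintro (x | y)
    · exact (r.viaFintypeEmbedding_apply_notMem_range _ (by simp)).symm
    · exact (r.viaFintypeEmbedding_apply_image Function.Embedding.inr y).symm)
  rw [show sumCongr a r = sumCongr a 1 * sumCongr 1 r by simp, Disjoint.cycleType_mul (by rintro (x | y) <;> simp),
    e1, e2]
  exact congrArg₂ _ (cycleType_extendDomain _) (cycleType_extendDomain _)

theorem step {a b : Perm X} {x₀ x₁ s : X} (ha : Tr a) (hb : Tr b) (sb : sign b = 1) (h : Q (a * b) x₀ x₁ s) :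
    ∃ a' b' k : Perm (X ⊕ Bool), Tr a' ∧ Tr b' ∧ sign b' = 1 ∧ sign k = -1 ∧ (∃ x₀ x₁ s, Q (a' * b') x₀ x₁ s) ∧
      ∃ x₀ x₁ s, Q (a' * (k * b' * k⁻¹)) x₀ x₁ s := by
  let ρ : Perm Bool := swap true false
  have hρ : Tr ρ := Tr.of (s := true) (by
    rintro (_ | _)
    exacts [⟨1, rfl⟩, ⟨0, rfl⟩])
  let τ : Perm (X ⊕ Bool) := swap (inl s) (inr true) * sumCongr 1 ρ
  let τ' : Perm (X ⊕ Bool) := swap (inl x₀) (inr false) * sumCongr 1 ρ
  obtain ⟨j, hj⟩ := hb s x₀
  have e1 : τ * τ = swap (inl s) (inr false) * sumCongr 1 ρ := Equiv.ext (by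
    rintro (x | _ | _)
    · by_cases e : x = s <;> simp [τ, ρ, swap_apply_def, e]
    all_goals simp [τ, ρ, swap_apply_def])
  have e2 : τ' * τ = swap (inl s) (inr false) * sumCongr (swap s x₀) 1 := Equiv.ext (by
    have := h.n0
    have := h.n0.symm
    rintro (x | _ | _)
    · by_cases e : x = s <;> by_cases e' : x = x₀ <;> simp_all [τ, τ', ρ, swap_apply_def]
    all_goals simp_all [τ, τ', ρ, swap_apply_def])
  refine ⟨τ * sumCongr a 1, sumCongr b 1 * τ, sumCongr (b ^ j) ρ, ?_, ?_, ?_, ?_, ⟨τ⁻¹ (inl x₀), τ⁻¹ (inl x₁), τ⁻¹ (inl s), ?_⟩,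
    ⟨τ'⁻¹ (inl x₁), τ'⁻¹ (inr true), τ'⁻¹ (inl s), ?_⟩⟩
  · simpa [τ, mul_assoc] using ha.gl hρ s true
  · have := (hb.gl hρ s true).conj τ⁻¹
    rwa [show swap (inl s) (inr true) * sumCongr b ρ = τ * sumCongr b 1 by simp [τ, mul_assoc], inv_inv,
      inv_mul_cancel_left] at this
  · simp [τ, ρ, sb]
  · simp [ρ, sb]
  · have := (h.gl hρ false).conj τ⁻¹
    rwa [show sumCongr (a * b) ρ = sumCongr 1 ρ * (sumCongr a 1 * sumCongr b 1) by simp, ← mul_assoc (swap _ _),
      ← e1, show τ⁻¹ * (τ * τ * (sumCongr a 1 * sumCongr b 1)) * τ⁻¹⁻¹ = τ * sumCongr a 1 * (sumCongr b 1 * τ) by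
        group] at this
  · have q : Q (swap (inl s) (inr false) * sumCongr (swap s x₀ * (a * b)) 1) (inl x₁) (inr true) (inl s) :=
      ⟨by simp, by simpa using h.n1, by simp, by
        simp only [mul_apply (swap _ _), Perm.sumCongr_apply, map_inl, h.f1]
        simp [swap_apply_of_ne_of_ne, h.n1.symm, h.n01.symm], by simp [swap_apply_of_ne_of_ne], by
        rintro (x | _ | _) h0 h1
        · refine gl_l _ _ s false (join (fun H => h.n0 (H.eq_of_right h.f0)) ?_)
          by_cases e : x = x₀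
          · exact Or.inr (e ▸ SameCycle.refl _ _)
          · exact Or.inl (h.cyc x e (by simpa using h0))
        · exact gl_r _ _ s false (SameCycle.refl _ _)
        · exact (h1 rfl).elim⟩
    have := q.conj τ'⁻¹
    rw [show sumCongr (swap s x₀ * (a * b)) 1 = sumCongr (swap s x₀) 1 * (sumCongr a 1 * sumCongr b (1 : Perm Bool)) by
      simp only [sumCongr_mul, mul_one], ← mul_assoc (swap _ _), ← e2, show τ'⁻¹ * (τ' * τ * (sumCongr a 1 * sumCongr b 1)) * τ'⁻¹⁻¹ =
        τ * sumCongr a 1 * (sumCongr b 1 * τ') by group] at this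
    convert this using 2
    have e3 : τ' = sumCongr (b ^ j) ρ * τ * (sumCongr (b ^ j) ρ)⁻¹ := by
      rw [eq_mul_inv_iff_mul_eq, ← mul_assoc, mul_swap_eq_swap_mul]
      simp only [τ', mul_assoc, sumCongr_mul, Perm.sumCongr_apply, map_inl, map_inr, hj, mul_one, one_mul]
      rfl
    rw [e3, ← mul_assoc _ _ τ, ← mul_assoc (sumCongr b 1), ← mul_assoc (sumCongr b 1)]
    simp only [sumCongr_mul, mul_one, one_mul, (Commute.self_zpow b j).eq]

theorem first (j : ℕ) : ∃ (X : Type) (_ : Fintype X) (_ : DecidableEq X) (a b : Perm X),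
    Fintype.card X = 2 * j + 3 ∧ Tr a ∧ Tr b ∧ sign b = 1 ∧ ∃ x₀ x₁ s, Q (a * b) x₀ x₁ s := by
  induction j with
  | zero =>
    exact ⟨Fin 3, inferInstance, inferInstance, c[0, 1, 2], c[0, 2, 1], rfl, by unfold Tr; decide, by unfold Tr; decide,
      by decide, 0, 1, 2, by decide, by decide, by decide, by decide, by decide, by decide⟩
  | succ j ih =>
    obtain ⟨X, _, _, a, b, h1, h2, h3, h4, _, _, _, h5⟩ := ih
    obtain ⟨a', b', _, k1, k2, k3, -, k4, -⟩ := step h2 h3 h4 h5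
    exact ⟨_, _, _, a', b', by simp [h1]; ring, k1, k2, k3, k4⟩

/-- pairs with prescribed second cycle type -/
def Fam (ν : Multiset ℕ) (m : ℕ) : Prop := ∃ (X : Type) (_ : Fintype X) (_ : DecidableEq X) (a b : Perm X),
  Fintype.card X = m ∧ Tr a ∧ b.cycleType = ν ∧ ∃ x₀ x₁ s, Q (a * b) x₀ x₁ s

theorem Fam.add {ν : Multiset ℕ} {m : ℕ} (h : Fam ν m) {r : Perm Y} (h1 : Tr r) (h2 : Tr (r * r)) (t : Y) :
    Fam (ν + r.cycleType) (m + Fintype.card Y) := by
  obtain ⟨X, _, _, a, b, rfl, k1, rfl, _, _, s, k2⟩ := h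
  exact ⟨_, _, _, _, sumCongr b r, by simp, k1.gl h1 s t, type_sum b r, _, _, _, by
    simpa [mul_assoc] using k2.gl h2 t⟩

theorem fam {ν : Multiset ℕ} (h : ∀ l ∈ ν, Odd l ∧ 2 ≤ l) (h0 : ν ≠ 0) {m : ℕ} (hm : ν.sum ≤ m) : Fam ν m := by
  have a1 : ∀ l, Odd l ∧ 2 ≤ l → ∃ j, l = 2 * j + 3 := fun l ⟨⟨j, e⟩, _⟩ => ⟨j - 1, by omega⟩
  have a2 : ∀ ν : Multiset ℕ, (∀ l ∈ ν, Odd l ∧ 2 ≤ l) → ∀ ν₀ m₀, Fam ν₀ m₀ → Fam (ν₀ + ν) (m₀ + ν.sum) := fun ν => by
    induction ν using Multiset.induction_on with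
    | empty => exact fun _ _ _ h => by simpa using h
    | cons l ν ih =>
      intro h ν₀ m₀ k
      obtain ⟨j, rfl⟩ := a1 l (h l (by simp))
      obtain ⟨X, _, _, -, b, h1, -, h3, -, x, -⟩ := first j
      have := ih (fun l hl => h l (by simp [hl])) _ _ (k.add h3 (h3.sq (by omega) ⟨j + 1, by omega⟩) x)
      rwa [h3.type (by omega), h1, add_assoc, add_assoc, Multiset.singleton_add, ← Multiset.sum_cons] at this
  obtain ⟨l, hl⟩ := Multiset.exists_mem_of_ne_zero h0
  obtain ⟨ν, rfl⟩ := Multiset.exists_cons_of_mem hl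
  obtain ⟨j, rfl⟩ := a1 l (h l hl)
  obtain ⟨X, _, _, a, b, h1, h2, h3, -, h4⟩ := first j
  have := a2 ν (fun l hl => h l (by simp [hl])) {2 * j + 3} (2 * j + 3) ⟨X, _, _, a, b, h1, h2, h1 ▸ h3.type (by omega), h4⟩
  rw [Multiset.singleton_add, ← Multiset.sum_cons] at this
  induction m, hm using Nat.le_induction with
  | base => exact this
  | succ m _ ih => simpa using ih.add (r := (1 : Perm Unit)) (fun _ _ => ⟨0, rfl⟩) (fun _ _ => ⟨0, rfl⟩) ()

/-- good pairs with prescribed cycle types -/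
def GG (p : ℕ) (μ ν : Multiset ℕ) (n : ℕ) (o : Prop) : Prop :=
  ∃ (X : Type) (_ : Fintype X) (_ : DecidableEq X) (a b k : Perm X), Fintype.card X = n ∧ a.cycleType = μ ∧
    b.cycleType = ν ∧ Good p a b ∧ (o → sign k = -1 ∧ Good p a (k * b * k⁻¹))

theorem Good.sum {p : ℕ} {a b : Perm X} (h : Good p a b) (a' b' : Perm Y) : Good p (sumCongr a a') (sumCongr b b') :=
  (Good.of_map (a := (a, a')) (b := (b, b')) (MonoidHom.fst _ _) h).map (sumCongrHom X Y) sumCongrHom_injective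

theorem GG.ext {p n : ℕ} {μ ν : Multiset ℕ} {o : Prop} (h : GG p μ ν n o) {μ' ν' : Multiset ℕ} {r : ℕ}
    (h1 : μ'.sum ≤ r) (h2 : ν'.sum ≤ r) (h3 : ∀ l ∈ μ + μ', 2 ≤ l) (h4 : ∀ l ∈ ν + ν', 2 ≤ l) :
    GG p (μ + μ') (ν + ν') (n + r) (o ∨ 2 ≤ r) := by
  obtain ⟨X, _, _, a, b, k, rfl, rfl, rfl, k1, k2⟩ := h
  obtain ⟨a', rfl⟩ := (exists_with_cycleType_iff (Fin r)).2 ⟨by simpa using h1, fun l hl => h3 l (by simp [hl])⟩
  obtain ⟨b', rfl⟩ := (exists_with_cycleType_iff (Fin r)).2 ⟨by simpa using h2, fun l hl => h4 l (by simp [hl])⟩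
  by_cases ho : o
  · exact ⟨_, _, _, _, _, sumCongr k 1, by simp, type_sum a a', type_sum b b', k1.sum _ _, fun _ =>
      ⟨by simp [(k2 ho).1], by simpa using (k2 ho).2.sum a' b'⟩⟩
  by_cases hr : 2 ≤ r
  · obtain ⟨t, ht⟩ : ∃ t : Perm (Fin r), sign t = -1 :=
      ⟨swap ⟨0, by omega⟩ ⟨1, by omega⟩, sign_swap (by simp)⟩
    exact ⟨_, _, _, _, _, sumCongr 1 t, by simp, type_sum a a', type_sum b b',
      k1.sum _ _, fun _ => ⟨by simp [ht], by simpa using k1.sum a' _⟩⟩
  · exact ⟨_, _, _, _, _, 1, by simp, type_sum a a', type_sum b b', k1.sum _ _, fun H => (H.elim ho hr).elim⟩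

theorem GG.fin {p : ℕ} {u w : Perm Y} {o : Prop} (h : GG p u.cycleType w.cycleType (Fintype.card Y) o)
    (ho : o ∨ ¬ Subgroup.centralizer {u} ≤ alternatingGroup Y ∨ ¬ Subgroup.centralizer {w} ≤ alternatingGroup Y) :
    ∃ g : Perm Y, sign g = 1 ∧ Good p u (g * w * g⁻¹) := by
  obtain ⟨X, _, _, a, b, k, k0, k1, k2, k3, k4⟩ := h
  let e := Fintype.equivOfCardEq k0
  have t : ∀ a : Perm X, (e.permCongrHom a).cycleType = a.cycleType := fun a => by
    rw [← cycleType_extendDomain (e.trans (Equiv.subtypeUnivEquiv (p := fun _ => True) fun _ => trivial).symm)]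
    congr 1
  obtain ⟨g, rfl⟩ := isConj_iff.1 (isConj_iff_cycleType_eq.2 ((t a).trans k1))
  obtain ⟨l, rfl⟩ := isConj_iff.1 (isConj_iff_cycleType_eq.2 ((t b).trans k2))
  have a1 := (k3.map e.permCongrHom.toMonoidHom e.permCongrHom.injective).conj g
  simp only [MulEquiv.toMonoidHom_eq_coe, MonoidHom.coe_coe] at a1
  rcases Int.units_eq_one_or (sign (g * l⁻¹)) with s | s
  · exact ⟨_, s, by convert a1 using 1; group⟩
  have o1 : ∀ x : Perm Y, ¬ Subgroup.centralizer {x} ≤ alternatingGroup Y → ∃ y, sign y = -1 ∧ y * x * y⁻¹ = x :=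
    fun x H => by
      obtain ⟨y, h1, h2⟩ := SetLike.not_le_iff_exists.1 H
      exact ⟨y, (Int.units_eq_one_or _).resolve_left h2,
        mul_inv_eq_iff_eq_mul.2 (Subgroup.mem_centralizer_singleton_iff.1 h1)⟩
  rcases ho with ho | ho | ho
  · have a2 := ((k4 ho).2.map e.permCongrHom.toMonoidHom e.permCongrHom.injective).conj g
    simp only [MulEquiv.toMonoidHom_eq_coe, MonoidHom.coe_coe, map_mul, map_inv] at a2
    refine ⟨g * e.permCongrHom k * l⁻¹, ?_, by convert a2 using 1; group⟩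
    rw [map_mul, map_mul, mul_right_comm, ← map_mul, s, show sign (e.permCongrHom k) = sign k from sign_permCongr e k,
      (k4 ho).1]
    rfl
  · obtain ⟨y, h1, h2⟩ := o1 _ ho
    have := a1.conj y
    rw [h2] at this
    exact ⟨y * (g * l⁻¹), by rw [map_mul, s, h1]; rfl, by convert this using 1; group⟩
  · obtain ⟨y, h1, h2⟩ := o1 _ ho
    refine ⟨g * l⁻¹ * y, by rw [map_mul, s, h1]; rfl, ?_⟩
    rw [show ∀ x, g * l⁻¹ * y * x * (g * l⁻¹ * y)⁻¹ = g * l⁻¹ * (y * x * y⁻¹) * (g * l⁻¹)⁻¹ from fun x => by group, h2]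
    convert a1 using 1; group

theorem subsum {p : ℕ} (hp : p.Prime) (ν : Multiset ℕ) : ∀ t, (∀ l ∈ ν, (∃ i, l = p ^ i) ∧ l ∣ t) → t ≤ ν.sum →
    ∃ ν₁ ≤ ν, ν₁.sum = t := by
  induction ν using Multiset.strongInductionOn with
  | ih ν ih =>
  intro t h ht
  rcases Nat.eq_zero_or_pos t with rfl | t0
  · exact ⟨0, Multiset.zero_le _, rfl⟩
  obtain ⟨l, hl, hm⟩ := Multiset.exists_max_image (s := ν) id (by rintro rfl; simp at ht; omega)
  obtain ⟨ν', rfl⟩ := Multiset.exists_cons_of_mem hl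
  have := Nat.le_of_dvd t0 (h l hl).2
  obtain ⟨ν₁, h1, h2⟩ := ih ν' (Multiset.lt_cons_self _ _) (t - l) (fun x hx => by
    have hx' := Multiset.mem_cons_of_mem (b := l) hx
    refine ⟨(h x hx').1, Nat.dvd_sub (h x hx').2 ?_⟩
    obtain ⟨i, rfl⟩ := (h x hx').1
    obtain ⟨j, rfl⟩ := (h l hl).1
    exact pow_dvd_pow _ ((Nat.pow_le_pow_iff_right hp.one_lt).1 (hm _ hx'))) (by simp at ht; omega)
  exact ⟨l ::ₘ ν₁, Multiset.cons_le_cons _ h1, by simp [h2]; omega⟩

theorem small {a b : Perm X} (h1 : a * b ≠ 1) (h2 : (a * b) ^ 5 = 1) (h3 : a ≠ 1) (l l' : List Bool)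
    (e : a = (l.map fun x => cond x a b).prod * a * ((l.map fun x => cond x a b).prod)⁻¹ *
      ((l'.map fun x => cond x a b).prod * a * ((l'.map fun x => cond x a b).prod)⁻¹) *
      ((l.map fun x => cond x a b).prod * a * ((l.map fun x => cond x a b).prod)⁻¹)⁻¹ *
      ((l'.map fun x => cond x a b).prod * a * ((l'.map fun x => cond x a b).prod)⁻¹)⁻¹) : Good 3 a b := by
  have m : ∀ l : List Bool, (l.map fun x => cond x a b).prod ∈ Subgroup.closure ({a, b} : Set (Perm X)) := fun l =>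
    list_prod_mem fun x hx => by
      obtain ⟨_ | _, -, rfl⟩ := List.mem_map.1 hx <;> exact Subgroup.subset_closure (by simp)
  exact ⟨fun k e => h1 (by simpa [Nat.Coprime.pow_left k (show Nat.Coprime 3 5 by norm_num)] using pow_gcd_eq_one.2 ⟨e, h2⟩),
    not_solv (Subgroup.subset_closure (by simp)) h3 (m l) (m l') e⟩

theorem g11 : GG 3 {3} {3} 5 False := ⟨Fin 5, inferInstance, inferInstance, c[0, 1, 2], c[2, 3, 4], 1, rfl, by decide, by decide,
  small (by decide +kernel) (by decide +kernel) (by decide +kernel) [false] [true, false, false, true, false]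
    (by decide +kernel), False.elim⟩

theorem g21 : GG 3 {3, 3} {3} 6 False := ⟨Fin 6, inferInstance, inferInstance, c[0, 1, 2] * c[3, 4, 5], c[0, 2, 3], 1, rfl, by decide,
  by decide, small (by decide +kernel) (by decide +kernel) (by decide +kernel) [false, true, false, false]
    [false, true, false] (by decide +kernel), False.elim⟩

theorem g22 : GG 3 {3, 3} {3, 3} 6 False := ⟨Fin 6, inferInstance, inferInstance, c[0, 1, 2] * c[3, 4, 5], c[0, 1, 3] * c[2, 5, 4], 1, rfl,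
  by decide, by decide, small (by decide +kernel) (by decide +kernel) (by decide +kernel) [false]
    [true, false, false, true, false] (by decide +kernel), False.elim⟩

theorem g12 : GG 3 {3} {3, 3} 6 False :=
  let ⟨X, i, j, a, b, k, h1, h2, h3, h4, _⟩ := g21
  ⟨X, i, j, b, a, k, h1, h3, h2, h4.symm, False.elim⟩

theorem main {p m : ℕ} (hp : p.Prime) (p3 : 3 ≤ p) (h5 : 5 ≤ Fintype.card Y) {u w : Perm Y} (w1 : w ≠ 1)
    (hm : m ∈ u.cycleType) (h : ∀ l ∈ u.cycleType + w.cycleType, (∃ i, l = p ^ i) ∧ l ≤ m) :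
    ∃ g : Perm Y, sign g = 1 ∧ Good p u (g * w * g⁻¹) := by
  have su := sum_cycleType_le u
  have sw := sum_cycleType_le w
  have tu : ∀ l ∈ u.cycleType, 2 ≤ l := fun _ => two_le_of_mem_cycleType
  have tw : ∀ l ∈ w.cycleType, 2 ≤ l := fun _ => two_le_of_mem_cycleType
  have w0 : w.cycleType ≠ 0 := fun e => w1 (cycleType_eq_zero.1 e)
  have po := hp.odd_of_ne_two (by omega)
  have pd : ∀ l ∈ u.cycleType + w.cycleType, p ∣ l ∧ Odd l := fun l hl => by
    have := (Multiset.mem_add.1 hl).elim (tu l) (tw l)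
    obtain ⟨i, rfl⟩ := (h l hl).1
    exact ⟨dvd_pow_self p (by rintro rfl; simp at this), po.pow⟩
  have hm' := Multiset.mem_add.2 (Or.inl hm : _ ∨ m ∈ w.cycleType)
  by_cases m4 : m < 4
  · have a3 : ∀ l ∈ u.cycleType + w.cycleType, l = 3 := fun l hl => by
      have := (h l hl).2
      have := Nat.le_of_dvd (pd l hl).2.pos (pd l hl).1
      omega
    obtain rfl : p = 3 := le_antisymm (Nat.le_of_dvd (by norm_num) (a3 m hm' ▸ (pd m hm').1)) p3
    have a4 : ∀ ν : Multiset ℕ, ν ≠ 0 → (∀ l ∈ ν, l = 3) → ν = {3} + 0 ∨ ∃ ν', ν = {3, 3} + ν' := fun ν h0 h => by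
      rw [Multiset.eq_replicate_card.2 h]
      obtain ⟨_ | i, e⟩ := Nat.exists_eq_succ_of_ne_zero (Multiset.card_eq_zero.not.2 h0) <;> rw [e]
      exacts [Or.inl rfl, Or.inr ⟨Multiset.replicate i 3, by simp [Multiset.replicate_succ]⟩]
    suffices H : ∃ o, GG 3 u.cycleType w.cycleType (Fintype.card Y) o from
      H.elim fun o H => H.fin (Or.inr (Or.inl fun c => by
        obtain ⟨-, c1, c2⟩ := centralizer_le_alternating_iff.1 c
        have := c2 3
        rw [Multiset.eq_replicate_card.2 fun l hl => a3 l (Multiset.mem_add.2 (Or.inl hl))] at c1 this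
        simp only [Multiset.sum_replicate, Multiset.count_replicate_self, smul_eq_mul] at c1 this
        omega))
    rcases a4 _ (fun e => by simp [e] at hm) fun l hl => a3 l (Multiset.mem_add.2 (Or.inl hl)) with e | ⟨μ, e⟩ <;>
      rcases a4 _ w0 fun l hl => a3 l (Multiset.mem_add.2 (Or.inr hl)) with e' | ⟨ν, e'⟩ <;>
      rw [e] at su tu ⊢ <;> rw [e'] at sw tw ⊢ <;> simp at su sw
    · exact ⟨_, Nat.add_sub_cancel' h5 ▸ g11.ext (by simp) (by simp) tu tw⟩
    · exact ⟨_, Nat.add_sub_cancel' (show 6 ≤ Fintype.card Y by omega) ▸ g12.ext (by simp) (by omega) tu tw⟩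
    · exact ⟨_, Nat.add_sub_cancel' (show 6 ≤ Fintype.card Y by omega) ▸ g21.ext (by omega) (by simp) tu tw⟩
    · exact ⟨_, Nat.add_sub_cancel' (show 6 ≤ Fintype.card Y by omega) ▸ g22.ext (by omega) (by omega) tu tw⟩
  obtain ⟨μ, e⟩ := Multiset.exists_cons_of_mem hm
  rw [← Multiset.singleton_add] at e
  have s1 : m + μ.sum ≤ Fintype.card Y := by simpa [e] using su
  have e0 := Nat.add_sub_cancel' (show m ≤ Fintype.card Y by omega)
  by_cases mw : m ∈ w.cycleType
  · obtain ⟨ν, e'⟩ := Multiset.exists_cons_of_mem mw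
    rw [← Multiset.singleton_add] at e'
    have s2 : m + ν.sum ≤ Fintype.card Y := by simpa [e'] using sw
    obtain ⟨j, hj⟩ := (pd m hm').2
    obtain ⟨X, _, _, a, b, h1, h2, h3, h4, _, _, _, h5⟩ := first (j - 2)
    obtain ⟨a', b', k, k1, k2, -, k3, ⟨_, _, _, k4⟩, _, _, _, k5⟩ := step h2 h3 h4 h5
    have c : Fintype.card (X ⊕ Bool) = m := by simp [h1]; omega
    have g : GG p {m} {m} m True := ⟨_, _, _, a', b', k, c, c ▸ k1.type (by omega), c ▸ k2.type (by omega),
      good k1 k4 hp p3 (c ▸ (pd m hm').1) (by omega) (c ▸ (pd m hm').2), fun _ =>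
        ⟨k3, good k1 k5 hp p3 (c ▸ (pd m hm').1) (by omega) (c ▸ (pd m hm').2)⟩⟩
    have := g.ext (r := Fintype.card Y - m) (by omega) (by omega) (e ▸ tu) (e' ▸ tw)
    rw [← e, ← e', e0] at this
    exact this.fin (Or.inl (Or.inl trivial))
  obtain ⟨i, hi⟩ := (h m hm').1
  have d : ∀ l ∈ w.cycleType, ∃ j < i, l = p ^ j := fun l hl => by
    obtain ⟨⟨j, rfl⟩, h2⟩ := h l (Multiset.mem_add.2 (Or.inr hl))
    exact ⟨j, (Nat.pow_lt_pow_iff_right hp.one_lt).1 (hi ▸ lt_of_le_of_ne h2 fun e => mw (e ▸ hl)), rfl⟩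
  obtain ⟨ν₁, ν, e', n0, n1, n2⟩ : ∃ ν₁ ν, w.cycleType = ν₁ + ν ∧ ν₁ ≠ 0 ∧ ν₁.sum ≤ m ∧
      ν.sum ≤ Fintype.card Y - m := by
    by_cases H : m ≤ w.cycleType.sum
    · obtain ⟨ν₁, h1, h2⟩ := subsum hp _ m (fun l hl => by
        obtain ⟨j, hj, rfl⟩ := d l hl
        exact ⟨⟨j, rfl⟩, hi ▸ pow_dvd_pow p hj.le⟩) H
      obtain ⟨ν, e'⟩ := Multiset.le_iff_exists_add.1 h1
      rw [e', Multiset.sum_add] at sw
      exact ⟨ν₁, ν, e', by rintro rfl; simp at h2; omega, h2.le, by omega⟩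
    · exact ⟨_, 0, (add_zero _).symm, w0, by omega, by simp⟩
  obtain ⟨X, _, _, a, b, c, k1, k2, _, _, _, k3⟩ := fam (ν := ν₁) (fun l hl => by
    have : l ∈ w.cycleType := e' ▸ Multiset.mem_add.2 (Or.inl hl)
    exact ⟨(pd l (Multiset.mem_add.2 (Or.inr this))).2, tw l this⟩) n0 n1
  have g : GG p {m} ν₁ m False := ⟨_, _, _, a, b, 1, c, c ▸ k1.type (by omega), k2,
    good k1 k3 hp p3 (c ▸ (pd m hm').1) (by omega) (c ▸ (pd m hm').2), False.elim⟩
  have := g.ext (r := Fintype.card Y - m) (by omega) n2 (e ▸ tu) (e' ▸ tw)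
  rw [← e, ← e', e0] at this
  refine this.fin (or_iff_not_imp_left.2 fun H => Or.inr fun c => ?_)
  obtain ⟨-, c1, c2⟩ := centralizer_le_alternating_iff.1 c
  have b1 : w.cycleType.sum < m := by
    rw [← Multiset.toFinset_val _ |>.trans (Multiset.dedup_eq_self.2 (Multiset.nodup_iff_count_le_one.2 c2)), hi]
    refine lt_of_le_of_lt ?_ (Nat.geomSum_lt hp.two_le fun k (hk : k ∈ Finset.range i) => Finset.mem_range.1 hk)
    rw [← Finset.sum_image (f := fun x => x) (g := fun k => p ^ k) fun a _ b _ e => Nat.pow_right_injective hp.two_le e,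
      Finset.sum_val]
    exact Finset.sum_le_sum_of_subset (f := id) fun l hl => by
      obtain ⟨j, hj, rfl⟩ := d l (Multiset.mem_toFinset.1 hl)
      exact Finset.mem_image_of_mem _ (Finset.mem_range.2 hj)
  have b2 : p ∣ w.cycleType.sum := Multiset.dvd_sum fun l hl => (pd l (Multiset.mem_add.2 (Or.inr hl))).1
  have := Nat.le_of_dvd (by omega) (Nat.dvd_sub (pd m hm').1 b2)
  omega

end H18.AP
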