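import Mathlib
import Cfsg.Agent.BG.Api
import Cfsg.Agent.H16.PiHall
import Cfsg.Agent.L.SL2Loc
import Cfsg.Agent.L.DicksonF
import Cfsg.Agent.H08.Simp

/-!
# π-homogeneous groups

* `H18.PH.Hom π G` (π'-elements normalizing a π-subgroup centralize it), `Cl π G` (the π'-elements form a subgroup)
* `Hom.of_inj`, `Hom.quot`, `Cl.ext`, `red`: reduction to simple groups
* `IV`: no non-trivial π-element of odd order is real; `IV.cent`, `psl`, `burn`
-/

set_option autoImplicit false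
set_option linter.unusedSectionVars false
open Cfsg BG Subgroup
open scoped MatrixGroups Pointwise

namespace H18.PH
universe u
variable {G : Type u} [Group G] [Finite G] {π : Set ℕ} {H K M N P : Subgroup G} {d x y : G} {p : ℕ}

/-- π-homogeneous -/
def Hom (π : Set ℕ) (G : Type*) [Group G] : Prop :=
  ∀ H : Subgroup G, IsPiSubgroup π H → ∀ x ∈ N_(H), IsPiElt πᶜ x → x ∈ C_(H)

/-- π'-closed -/
def Cl (π : Set ℕ) (G : Type*) [Group G] : Prop := ∃ K : Subgroup G, ∀ x : G, x ∈ K ↔ ∀ p : ℕ, p.Prime → p ∣ orderOf x → p ∉ π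

theorem hom_of (h : ∀ H : Subgroup G, H ≠ ⊥ → (∀ p : ℕ, p.Prime → p ∣ Nat.card H → p ∈ π) →
    ∀ p : ℕ, p.Prime → p ∣ (C_(H)).relIndex N_(H) → p ∈ π) : Hom π G := fun H hH x hx ho => by
  by_cases hb : H = ⊥
  · subst hb; intro h hh; rw [mem_bot.1 hh]; simp
  exact H16.automizer_of_relIndex (π := πᶜ) (fun p hp hd j => j (h H hb hH p hp hd)) hx ho

theorem Cl.hall (h : Cl π G) : ∃ K : Subgroup G, K.Normal ∧ IsPiHall πᶜ K := h.imp fun _ k => H16.normal_hall_of_mem_iff (π := πᶜ) k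

theorem cl_of_hall [K.Normal] (h : IsPiHall πᶜ K) : Cl π G := ⟨K, H16.mem_iff_of_normal_hall (π := πᶜ) h⟩

theorem Cl.rel (h : Cl π G) (hH : IsPiSubgroup π H) (hp : p.Prime) (hd : p ∣ (C_(H)).relIndex N_(H)) : p ∈ π := by
  obtain ⟨K, _, hK⟩ := h.hall
  by_contra j
  have hK' : IsPiSubgroup πᶜ K := hK.1
  have h1 : K ⊓ N_(H) ≤ C_(H) := le_cent_of_disj inf_le_right (norm_inf le_normalizer_of_normal (norm_norm (le_norm H)))
    (eq_bot_mono (hK'.inf_eq_bot' hH) (inf_le_inf_right _ inf_le_left))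
  refine hK.2 p hp j (hd.trans ((relIndex_dvd_left _ h1).trans ?_))
  rw [inf_relIndex_right]
  exact relIndex_dvd_index_of_normal K _

theorem cl_of_pi (h : ∀ p : ℕ, p.Prime → p ∣ Nat.card G → p ∈ π) : Cl π G :=
  cl_of_hall (K := ⊥) ⟨fun p hp hd => absurd (by simpa using hd) hp.ne_one, fun p hp j hd => j (h p hp (by simpa using hd))⟩

theorem cl_of_pi' (h : ∀ p : ℕ, p.Prime → p ∣ Nat.card G → p ∉ π) : Cl π G :=
  cl_of_hall (K := ⊤) ⟨fun p hp hd => h p hp (by simpa using hd), fun p hp _ hd => hp.ne_one (by simpa using hd)⟩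

theorem Cl.simple [IsSimpleGroup G] (h : Cl π G) :
    (∀ p : ℕ, p.Prime → p ∣ Nat.card G → p ∈ π) ∨ ∀ p : ℕ, p.Prime → p ∣ Nat.card G → p ∉ π := by
  obtain ⟨K, hn, hK⟩ := h.hall
  rcases hn.eq_bot_or_eq_top with rfl | rfl
  · exact .inl fun p hp hd => by_contra fun j => hK.2 p hp j (by simpa using hd)
  · exact .inr fun p hp hd => hK.1 p hp (by simpa using hd)

theorem Hom.of_inj {X : Type*} [Group X] (h : Hom π G) (f : X →* G) (hf : Function.Injective f) : Hom π X := fun H hH x hx ho y hy =>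
  hf (by
    rw [map_mul, map_mul]
    exact h _ (hH.map f) _ (le_normalizer_map f (mem_map_of_mem f hx)) (fun p hp hd => ho p hp (orderOf_injective f hf x ▸ hd)) _
      (mem_map_of_mem f hy))

theorem Cl.map {X : Type*} [Group X] [Finite X] (h : Cl π G) (f : G →* X) (hf : Function.Surjective f) : Cl π X := by
  obtain ⟨K, hn, hK⟩ := h.hall
  have := hn.map f hf
  exact cl_of_hall (H01.isPiHall_map hK f hf)

theorem exists_lift [N.Normal] (hN : IsPiSubgroup π N ∨ IsPiSubgroup πᶜ N) {X : Subgroup (G ⧸ N)} (hX : IsPiSubgroup π X) {x : G ⧸ N}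
    (hx : x ∈ N_(X)) : ∃ H : Subgroup G, IsPiSubgroup π H ∧ H.map (QuotientGroup.mk' N) = X ∧ x ∈ (N_(H)).map (QuotientGroup.mk' N) := by
  have hf := QuotientGroup.mk'_surjective N
  set K := X.comap (QuotientGroup.mk' N) with hK
  obtain ⟨g, rfl⟩ := hf x
  have hg : g ∈ N_(K) := mem_normalizer_fintype fun y hy => by simpa [hK] using conj_mem_of_norm hx hy
  have e := map_comap_eq_self_of_surjective hf X
  rcases hN with hN | hN
  · refine ⟨K, fun p hp hd => ?_, e, mem_map_of_mem _ hg⟩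
    rw [H01.card_comap_mk'] at hd
    exact (hp.dvd_mul.1 hd).elim (hN p hp) (hX p hp)
  · have le : N ≤ K := fun y hy => by simp [hK, (QuotientGroup.eq_one_iff y).2 hy]
    have ri : N.relIndex K = Nat.card X := H16.relIndex_comap_mk' N X
    obtain ⟨H, hH⟩ := exists_compl_of_coprime le le_normalizer_of_normal (ri ▸ (H01.PiNum.coprime (π := π) hX hN).symm)
    have hp : IsPiSubgroup π H := fun p hp hd => hX p hp (ri ▸ hH.relIndex_left ▸ hd)
    have cop := hp.coprime hN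
    obtain ⟨n, hn, e1⟩ := H01.conj_of_le_sup (B := cj g H) hH.norm cop (H16.sol_or_of_coprime cop)
      (by rw [sup_comm, hH.sup]; exact cj_le_of_mem_norm hH.le_right hg) (by simp)
    refine ⟨H, hp, ?_, n⁻¹ * g, ?_, by simp [(QuotientGroup.eq_one_iff n).2 hn]⟩
    · rw [← e, ← hK, ← hH.sup, Subgroup.map_sup, (map_eq_bot_iff N).2 (QuotientGroup.ker_mk' N).ge, bot_sup_eq]
    · exact cj_eq_cj_iff.1 (by rw [← e1, cj_eq_smul])

theorem Hom.quot (h : Hom π G) [N.Normal] (hN : IsPiSubgroup π N ∨ IsPiSubgroup πᶜ N) : Hom π (G ⧸ N) := by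
  intro X hX x hx ho
  obtain ⟨H, h1, h2, h3⟩ := exists_lift hN hX hx
  obtain ⟨g, hg, rfl, ho'⟩ := H16.exists_lift_primes _ h3
  rw [← h2]
  rintro _ ⟨y, hy, rfl⟩
  rw [← map_mul, ← map_mul, h H h1 g hg (fun r hr hd => ho r hr (ho' r hr hd)) y hy]

theorem Hom.ext (h : Hom π G) [N.Normal] (hN : IsPiSubgroup π N ∨ IsPiSubgroup πᶜ N) (hQ : Cl π (G ⧸ N)) : Cl π G := by
  obtain ⟨M, hMn, hM⟩ := hQ.hall
  have hs : H01.PiSep πᶜ G := by
    refine H01.piSep_of_chain (n := 3) ![⊥, N, M.comap (QuotientGroup.mk' N), ⊤] rfl rfl (fun i => ?_) (fun i => ?_)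
    · fin_cases i
      · exact (inferInstance : (⊥ : Subgroup G).Normal)
      · exact (inferInstance : N.Normal)
      · exact (inferInstance : (M.comap (QuotientGroup.mk' N)).Normal)
      · exact (inferInstance : (⊤ : Subgroup G).Normal)
    · fin_cases i
      · show H01.PiNum πᶜ ((⊥ : Subgroup G).relIndex N) ∨ H01.PiNum πᶜᶜ ((⊥ : Subgroup G).relIndex N)
        rw [relIndex_bot_left, compl_compl]
        exact hN.symm
      · left
        show H01.PiNum πᶜ (N.relIndex (M.comap (QuotientGroup.mk' N)))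
        rw [H16.relIndex_comap_mk']
        exact hM.1
      · right
        show H01.PiNum πᶜᶜ ((M.comap (QuotientGroup.mk' N)).relIndex ⊤)
        rw [relIndex_top_right, index_comap_of_surjective _ (QuotientGroup.mk'_surjective N)]
        exact (H01.isPiHall_iff.1 hM).2

  exact cl_of_hall (H16.piCore_hall_of_automizers hs fun H hH x hx ho => h H (compl_compl π ▸ hH) x hx ho)

theorem Cl.ex [N.Normal] (h : Cl π N) (h0 : N ≠ ⊥) :
    ∃ M : Subgroup G, M.Normal ∧ M ≠ ⊥ ∧ (IsPiSubgroup π M ∨ IsPiSubgroup πᶜ M) := by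
  obtain ⟨K, hK⟩ := h
  obtain ⟨-, h1⟩ := H16.normal_hall_of_mem_iff (π := πᶜ) hK
  by_cases e : K = ⊥
  · subst e
    exact ⟨N, inferInstance, h0, .inl fun p hp hd => by_contra fun j => h1.2 p hp j (by simpa using hd)⟩
  · refine ⟨K.map N.subtype, ⟨?_⟩, by rwa [Ne, map_eq_bot_iff_of_injective _ N.subtype_injective], .inr
      fun p hp hd => h1.1 p hp (by rwa [card_subtype] at hd)⟩
    rintro _ ⟨x, hx, rfl⟩ g
    refine ⟨⟨_, Normal.conj_mem inferInstance _ x.2 g⟩, (hK _).2 fun p hp hd => (hK x).1 hx p hp ?_, rfl⟩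
    rw [← orderOf_coe] at hd ⊢
    exact ((MulAut.conj g).orderOf_eq (x : G)) ▸ hd

theorem cl_of_comm [IsSimpleGroup G] (h : IsMulCommutative G) : Cl π G := by
  have hp : (Nat.card G).Prime := by
    let _ : CommGroup G := { mul_comm := h.1.1 }
    exact IsSimpleGroup.prime_card
  by_cases j : Nat.card G ∈ π
  · exact cl_of_pi fun p h1 h2 => (Nat.prime_dvd_prime_iff_eq h1 hp).1 h2 ▸ j
  · exact cl_of_pi' fun p h1 h2 => (Nat.prime_dvd_prime_iff_eq h1 hp).1 h2 ▸ j

/-- reduction to simple groups; `Q` passes to quotients and makes proper normal subgroups π'-closed -/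
theorem red (Q : ∀ (G : Type u) [Group G] [Finite G], Prop)
    (hq : ∀ (G : Type u) [Group G] [Finite G] (N : Subgroup G) [N.Normal], IsPiSubgroup π N ∨ IsPiSubgroup πᶜ N → Q G → Q (G ⧸ N))
    (hs : ∀ (G : Type u) [Group G] [Finite G], Q G → Hom π G → Nontrivial G →
      (∀ (X : Type u) [Group X] [Finite X], Nat.card X < Nat.card G → Q X → Hom π X → Cl π X) →
      Cl π G ∨ ∃ N : Subgroup G, N.Normal ∧ N ≠ ⊥ ∧ Cl π N)
    (G : Type u) [Group G] [Finite G] (h1 : Q G) (h2 : Hom π G) : Cl π G := by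
  induction hn : Nat.card G using Nat.strong_induction_on generalizing G with
  | _ n ih =>
  subst hn
  rcases subsingleton_or_nontrivial G with h | h
  · exact cl_of_pi fun p hp hd => absurd (by simpa [Nat.card_of_subsingleton (1 : G)] using hd) hp.ne_one
  rcases hs G h1 h2 h (fun X _ _ k a b => ih _ k X a b rfl) with k | ⟨N, _, h0, k⟩
  · exact k
  obtain ⟨M, _, h0, hM⟩ := k.ex h0
  refine h2.ext hM (ih _ ?_ _ (hq G M hM h1) (h2.quot hM) rfl)
  rw [card_eq_card_quotient_mul_card_subgroup M]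
  exact lt_mul_of_one_lt_right Nat.card_pos (one_lt_card h0)

theorem lt_card (h : H ≠ ⊤) : Nat.card H < Nat.card G := card_top (G := G) ▸ card_lt (lt_top_iff_ne_top.2 h)

/-- reduction to simple groups for a class closed under sections -/
theorem red' (Q : ∀ (G : Type u) [Group G] [Finite G], Prop)
    (hq : ∀ (G : Type u) [Group G] [Finite G] (N : Subgroup G) [N.Normal], IsPiSubgroup π N ∨ IsPiSubgroup πᶜ N → Q G → Q (G ⧸ N))
    (hb : ∀ (G : Type u) [Group G] [Finite G] (H : Subgroup G), Q G → Q H)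
    (hs : ∀ (G : Type u) [Group G] [Finite G] [IsSimpleGroup G], ¬ IsMulCommutative G → Q G → Hom π G →
      (∀ H : Subgroup G, H ≠ ⊤ → Cl π H) → Cl π G)
    (G : Type u) [Group G] [Finite G] (h1 : Q G) (h2 : Hom π G) : Cl π G := by
  refine red Q hq (fun G _ _ h1 h2 _ ih => ?_) G h1 h2
  have k : ∀ H : Subgroup G, H ≠ ⊤ → Cl π H := fun H h => ih H (lt_card h) (hb G H h1) (h2.of_inj _ H.subtype_injective)
  by_cases s : IsSimpleGroup G
  · exact .inl (by_cases cl_of_comm fun na => hs G na h1 h2 k)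
  · obtain ⟨N, hN, h⟩ : ∃ N : Subgroup G, N.Normal ∧ ¬ (N = ⊥ ∨ N = ⊤) := by
      by_contra! j
      exact s ⟨j⟩
    exact .inr ⟨N, hN, fun e => h (.inl e), k N fun e => h (.inr e)⟩

theorem Hom.rel (h : Hom π G) (hH : IsPiSubgroup π H) (hp : p.Prime) (hd : p ∣ (C_(H)).relIndex N_(H)) : p ∈ π := by
  by_contra j
  have := Fact.mk hp
  have : ((C_(H)).subgroupOf N_(H)).Normal := H.normalizerMonoidHom_ker ▸ inferInstance
  obtain ⟨y, hy⟩ := exists_prime_orderOf_dvd_card' (G := N_(H) ⧸ (C_(H)).subgroupOf N_(H)) p hd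
  obtain ⟨x, -, rfl, k⟩ := H16.exists_lift_primes (QuotientGroup.mk' _) (L := ⊤) (y := y)
    (by rw [map_top_of_surjective _ (QuotientGroup.mk'_surjective _)]; trivial)
  have : x.1 ∈ C_(H) := h H hH _ x.2 fun r hr hd => by
    rw [orderOf_coe] at hd
    exact (Nat.prime_dvd_prime_iff_eq hr hp).1 (hy ▸ k r hr hd) ▸ j
  rw [QuotientGroup.mk'_apply, (QuotientGroup.eq_one_iff x).2 this, orderOf_one] at hy
  exact hp.ne_one hy.symm

theorem Cl.mul (h : Cl π H) (hx : x ∈ H) (hy : y ∈ H) (h1 : IsPiElt πᶜ x) (h2 : IsPiElt πᶜ y) : IsPiElt πᶜ (x * y) := by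
  obtain ⟨K, hK⟩ := h
  have := (hK _).1 (K.mul_mem ((hK ⟨x, hx⟩).2 (by rw [← orderOf_coe]; exact h1)) ((hK ⟨y, hy⟩).2 (by rw [← orderOf_coe]; exact h2)))
  rw [← orderOf_coe] at this
  exact this

/-- Burnside's argument for the least prime of `π` -/
theorem burn [IsSimpleGroup G] (hna : ¬ IsMulCommutative G) (h : Hom π G) [hp : Fact p.Prime] (hπ : p ∈ π) (hd : p ∣ Nat.card G)
    (P : Sylow p G) (hc : IsCyclic P) (hm : ∀ q : ℕ, q.Prime → q ∣ Nat.card G → q ∣ p - 1 → q ∉ π) : False := by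
  have hP : IsPiSubgroup π (P : Subgroup G) := isPi_of_pg hp.1 P.2 hπ
  have le : N_((P : Subgroup G)) ≤ C_((P : Subgroup G)) := by
    refine relIndex_eq_one.1 (by_contra fun j => ?_)
    obtain ⟨q, hq, hqd⟩ := Nat.exists_prime_and_dvd j
    have key := card_dvd_of_injective _ (QuotientGroup.kerLift_injective P.normalizerMonoidHom)
    rw [normalizerMonoidHom_ker, ← index, ← relIndex] at key
    obtain ⟨k, hk⟩ := P.2.exists_card_eq
    have k1 := hqd.trans key
    rw [hc.card_mulAut, hk] at k1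
    rcases k with _ | k
    · exact hq.ne_one (by simpa using k1)
    rw [Nat.totient_prime_pow_succ hp.1] at k1
    rcases hq.dvd_mul.1 k1 with k1 | k1
    · obtain rfl := (Nat.prime_dvd_prime_iff_eq hq hp.1).1 (hq.dvd_of_dvd_pow k1)
      exact P.not_dvd_index (hqd.trans ((relIndex_dvd_of_le_left _ P.le_centralizer).trans (relIndex_dvd_index_of_le P.le_normalizer)))
    · exact hm q hq (hqd.trans ((BG.relIndex_dvd_card ..).trans (card_subgroup_dvd_card _))) k1 (h.rel hP hq hqd)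
  have c := MonoidHom.ker_transferSylow_isComplement' P le
  rcases (inferInstance : (MonoidHom.transferSylow P le).ker.Normal).eq_bot_or_eq_top with e | e <;> rw [e] at c
  · rw [isComplement'_bot_left.1 c] at hc
    exact H08.NA.not_cyc hna (isCyclic_of_surjective _ topEquiv.surjective)
  · exact P.ne_bot_of_dvd_card hd (isComplement'_top_left.1 c)

/-- all odd Sylow subgroups cyclic -/
theorem cl_of_cyc [IsSimpleGroup G] (hna : ¬ IsMulCommutative G) (h : Hom π G) (h2 : 2 ∉ π)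
    (hc : ∀ (p : ℕ) [Fact p.Prime], p ≠ 2 → ∀ P : Sylow p G, IsCyclic P) : Cl π G := by
  classical
  refine cl_of_pi' (by_contra fun j => ?_)
  have ex : ∃ p : ℕ, p.Prime ∧ p ∣ Nat.card G ∧ p ∈ π := by simpa using j
  obtain ⟨h1, h3, h4⟩ := Nat.find_spec ex
  have := Fact.mk h1
  refine burn hna h h4 h3 default (hc _ (fun e => h2 (e ▸ h4)) _) fun q hq hd k j => Nat.find_min ex ?_ ⟨hq, hd, j⟩
  have := Nat.le_of_dvd (by have := h1.one_lt; omega) k
  have := h1.one_lt
  omega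

/-- no non-trivial π-element of odd order is real -/
def IV (π : Set ℕ) (G : Type*) [Group G] : Prop := ∀ x y : G, IsPiElt π x → Odd (orderOf x) → y * x * y⁻¹ = x⁻¹ → x = 1

/-- all π-subgroups are 2-closed -/
def TC (π : Set ℕ) (G : Type*) [Group G] : Prop := ∀ H : Subgroup G, IsPiSubgroup π H → Cl {2}ᶜ H

theorem odd_iff : Odd (orderOf x) ↔ IsPiElt {2}ᶜ x :=
  ⟨fun h p _ hd e => by rw [Set.mem_singleton_iff.1 e] at hd; exact h.not_two_dvd_nat hd,
    fun h => Nat.not_even_iff_odd.1 fun k => h 2 Nat.prime_two k.two_dvd rfl⟩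

theorem mem_zp_sq (h : Odd (orderOf x)) : x ∈ zpowers (x ^ 2) := mem_zpowers_pow_iff.2 (by simpa using h)

theorem eq_one_of_sq (h : Odd (orderOf x)) (e : x ^ 2 = 1) : x = 1 := by simpa [e] using mem_zp_sq h

theorem inv_two (h : y * x * y⁻¹ = x⁻¹) : ∃ z : G, IsPiElt {2} z ∧ z * x * z⁻¹ = x⁻¹ := by
  refine ⟨piPart {2} y, isPiElt_piPart _ _, ?_⟩
  have h1 : y ^ 2 ∈ C_[x] := mem_cent1.2 (by
    have : y * x⁻¹ * y⁻¹ = x := by simpa [mul_assoc] using congrArg (·⁻¹) h
    have e : y * (y * x * y⁻¹) * y⁻¹ = x := by rw [h, this]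
    calc y ^ 2 * x = (y * (y * x * y⁻¹) * y⁻¹) * y ^ 2 := by rw [sq]; group
      _ = x * y ^ 2 := by rw [e])
  have h2 : piPart {2}ᶜ y ∈ C_[x] := by
    obtain ⟨k, hk⟩ := piPart_mem_zpowers {2}ᶜ y
    refine (zpowers_le.2 ?_ : _ ≤ C_[x]) (mem_zp_sq (odd_iff.2 (isPiElt_piPart _ _)))
    rw [← hk]
    show (y ^ k) ^ 2 ∈ _
    rw [← zpow_natCast, ← zpow_mul, mul_comm, zpow_mul, zpow_natCast]
    exact zpow_mem h1 k
  rw [← h]
  conv_rhs => rw [← piPart_mul_compl {2} y]
  rw [show ∀ a b : G, a * b * x * (a * b)⁻¹ = a * (b * x * b⁻¹) * a⁻¹ from fun a b => by group, mem_cent1.1 h2, mul_inv_cancel_right]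

theorem norm_zp (h : y * x * y⁻¹ = x⁻¹) : y ∈ N_(zpowers x) := mem_normalizer_fintype fun _ ⟨k, hk⟩ => ⟨-k, by
  rw [← hk]; show _ = y * x ^ k * y⁻¹; rw [← conj_zpow, h]; simp⟩

theorem iv_odd (h : Hom π G) (h2 : 2 ∉ π) : IV π G := fun x y hx ho e => by
  obtain ⟨z, hz, e⟩ := inv_two e
  have := h _ (isPiElt_iff.1 hx) z (norm_zp e) (hz.mono (by rintro _ rfl; exact h2)) x (mem_zpowers x)
  rw [← this, mul_inv_cancel_right] at e
  exact eq_one_of_sq ho (by rw [sq, mul_eq_one_iff_eq_inv]; exact e)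

theorem iv_two (h : TC π G) (h2 : 2 ∈ π) : IV π G := fun x y hx ho e => by
  obtain ⟨z, hz, e⟩ := inv_two e
  have hH := (isPiElt_iff.1 hx).sup (isPiElt_iff.1 (hz.mono (by rintro _ rfl; exact h2))) (zpowers_le.2 (norm_zp e))
  have mx : x ∈ zpowers x ⊔ zpowers z := mem_sup_left (mem_zpowers x)
  have mz : z ∈ zpowers x ⊔ zpowers z := mem_sup_right (mem_zpowers z)
  have := (h _ hH).mul mz (mul_mem (mul_mem mx (inv_mem mz)) (inv_mem mx)) (by rwa [compl_compl]) (by rw [compl_compl]; exact hz.inv.conj x)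
  rw [show z * (x * z⁻¹ * x⁻¹) = z * x * z⁻¹ * x⁻¹ by group, e, ← sq] at this
  exact eq_one_of_sq ho (by simpa using ((odd_iff.1 ho).inv.pow 2).eq_one this)

theorem IV.cent (iv : IV π G) (h : Hom π G) (hP : IsPiSubgroup π P) (hd : d ∈ N_(P)) (ho : 2 ∈ π → Odd (orderOf d))
    (e : y * d * y⁻¹ = d⁻¹) : d ∈ C_(P) := by
  refine h P hP d hd (isPiElt_of_piPart_eq_one (iv _ y (isPiElt_piPart _ _) ?_ ?_))
  · by_cases h2 : 2 ∈ π
    · exact odd_iff.2 ((odd_iff.1 (ho h2)).of_mem_zpowers (piPart_mem_zpowers _ _))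
    · exact odd_iff.2 ((isPiElt_piPart π d).mono fun p hp e => h2 (Set.mem_singleton_iff.1 e ▸ hp))
  · rw [← piPart_conj, e]
    conv_lhs => rw [← piPart_mul_compl π d, (commute_piPart π πᶜ d).eq, mul_inv_rev]
    exact piPart_mul_of_commute (isPiElt_piPart _ _).inv (isPiElt_piPart _ _).inv (commute_piPart π πᶜ d).inv_inv

theorem IV.of_inj {X : Type*} [Group X] (h : IV π G) (f : X →* G) (hf : Function.Injective f) : IV π X := fun x y hx ho e =>
  hf (by
    rw [map_one]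
    exact h _ (f y) (fun p hp hd => hx p hp (orderOf_injective f hf x ▸ hd)) ((orderOf_injective f hf x).symm ▸ ho)
      (by rw [← map_inv, ← map_mul, ← map_mul, e, map_inv]))

theorem TC.of_inj {X : Type*} [Group X] [Finite X] (h : TC π G) (f : X →* G) (hf : Function.Injective f) : TC π X := fun H hH =>
  (h _ (hH.map f)).map (H.equivMapOfInjective f hf).symm.toMonoidHom (H.equivMapOfInjective f hf).symm.surjective

theorem TC.quot (h : TC π G) [N.Normal] (hN : IsPiSubgroup π N ∨ IsPiSubgroup πᶜ N) : TC π (G ⧸ N) := fun X hX => by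
  obtain ⟨H, h1, rfl, -⟩ := exists_lift hN hX (one_mem _)
  exact (h H h1).map _ (MonoidHom.subgroupMap_surjective _ H)

section PSL
variable {F : Type*} [Field F] [Fintype F]
open L L.SLc

theorem real_mk {s : SL(2, F)} (h : (s : M2 F).trace ^ 2 ≠ 4) :
    ∃ y : PSL(2, F), y * QuotientGroup.mk s * y⁻¹ = (QuotientGroup.mk s)⁻¹ := by
  obtain ⟨c, hc⟩ := isConj_iff.1 (isConj_SL_of_disc (h := s⁻¹) h (by
    rw [Matrix.trace_fin_two, Matrix.trace_fin_two]; simp [Matrix.SpecialLinearGroup.SL2_inv_expl, add_comm]))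
  exact ⟨QuotientGroup.mk c, by rw [← QuotientGroup.mk_inv, ← QuotientGroup.mk_inv, ← QuotientGroup.mk_mul, ← QuotientGroup.mk_mul, hc]⟩

/-- `L₂(q)` : no odd prime divisor of the order lies in `π` -/
theorem psl (e : G ≃* PSL(2, F)) (h : Hom π G) (iv : IV π G) {r : ℕ} (hr : r.Prime) (h2 : r ≠ 2) (hπ : r ∈ π) (hd : r ∣ Nat.card G)
    (ha : CharP F r → ∃ a : Fˣ, a ^ 2 ≠ 1 ∧ (2 ∈ π → Odd (orderOf a))) : False := by
  replace h := h.of_inj e.symm.toMonoidHom e.symm.injective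
  replace iv := iv.of_inj e.symm.toMonoidHom e.symm.injective
  rw [Nat.card_congr e.toEquiv] at hd
  obtain ⟨p, hp⟩ := CharP.exists F
  have := Fact.mk (CharP.char_is_prime F p)
  have := Fact.mk hr
  by_cases c : r = p
  · subst c
    obtain ⟨a, a1, a2⟩ := ha hp
    let f : Multiplicative F →* PSL(2, F) := MonoidHom.mk' (fun b => QuotientGroup.mk (un b.toAdd)) fun b c => by
      rw [toAdd_mul, un_add, QuotientGroup.mk_mul]
    have k : ∀ b : F, dg a * un b * (dg a)⁻¹ = un (a ^ 2 * b) := fun b => by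
      rw [mul_inv_eq_iff_eq_mul]
      ext i j
      fin_cases i <;> fin_cases j <;> simp [coe_dg, coe_un, Matrix.mul_apply, Fin.sum_univ_two, sq, mul_assoc, mul_left_comm (a : F) b]
    obtain ⟨y, hy⟩ := real_mk (trace_sq_dg a1)
    have := iv.cent h (P := f.range) (d := QuotientGroup.mk (dg a)) (isPi_of_elt (by
      rintro _ ⟨b, rfl⟩ q hq hd
      exact (Nat.prime_dvd_prime_iff_eq hq hr).1 (hd.trans (orderOf_dvd_of_pow_eq_one (Dk.mk_pow_char r (by rw [trace_un]; norm_num)))) ▸ hπ))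
      (mem_normalizer_fintype (by
        rintro _ ⟨b, rfl⟩
        exact ⟨Multiplicative.ofAdd (a ^ 2 * b.toAdd), by
          show QuotientGroup.mk _ = _ * QuotientGroup.mk _ * _
          rw [← QuotientGroup.mk_inv, ← QuotientGroup.mk_mul, ← QuotientGroup.mk_mul, k, toAdd_ofAdd]⟩))
      (fun j => (a2 j).of_dvd_nat (orderOf_map_dvd ((QuotientGroup.mk' _).comp dgHom) a)) hy _ ⟨Multiplicative.ofAdd 1, rfl⟩
    have e1 : (QuotientGroup.mk (un (a ^ 2 * 1 + -1 : F)) : PSL(2, F)) = 1 := by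
      have u : un (-1 : F) = (un 1)⁻¹ := eq_inv_of_mul_eq_one_left (by rw [← un_add, neg_add_cancel, un_zero])
      rw [un_add, ← k, u]
      simp only [QuotientGroup.mk_mul, QuotientGroup.mk_inv]
      rw [mul_inv_eq_one, mul_inv_eq_iff_eq_mul]
      exact this.symm
    rw [H09.PSL2.mk_eq_one_iff, ← SL2_scal_iff, isScal_un] at e1
    exact a1 (Units.ext (by push_cast; linear_combination e1))
  · obtain ⟨x, hx⟩ := exists_prime_orderOf_dvd_card' r hd
    obtain ⟨s, rfl⟩ := QuotientGroup.mk_surjective x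
    obtain ⟨y, hy⟩ := real_mk (s := s) fun j =>
      c ((Nat.prime_dvd_prime_iff_eq hr Fact.out).1 (hx ▸ orderOf_dvd_of_pow_eq_one (Dk.mk_pow_char p j)))
    have := iv _ y (fun q hq hd => (Nat.prime_dvd_prime_iff_eq hq hr).1 (hx ▸ hd) ▸ hπ) (hx ▸ hr.odd_of_ne_two h2) hy
    rw [this, orderOf_one] at hx
    exact hr.ne_one hx.symm

end PSL

end H18.PH
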