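import Mathlib
import Cfsg.Agent.H18.KW2
import Cfsg.Agent.L.Jt0
import Cfsg.Agent.L.Fz3

/-! Weak closure of `z` in `C(δ)` for groups of Janko-four type (namespace `H18.TW2`). -/

set_option autoImplicit false
open Cfsg BG Subgroup H01.XS Cfsg.Agent.H06.J Cfsg.Agent.H23.K

namespace H18.TW2
universe u

theorem w2 : L.Jt.W2Stmt.{u} := by
  intro G _ _ z Q V _ _ _ Γ _ _ f π ν T d M β q s K Y B A δ c c2 lc hn e eδ ez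
  have l := s.md.lx
  have zδ : z ∈ C_[δ] := mem_cent1.2 (mem_cent1.1 c.δz).symm
  have zA : z ∈ A := (c2.e3.ge (show z ∈ Q ∧ ν z ∈ B from ⟨l.aes.mem, s.md.zz ▸ zero_mem B⟩)).1
  have a1 : e⁻¹ * z * e ∈ C_[z] := mem_cent1.2 (by
    have := mem_cent1.1 ez
    rw [show e⁻¹ * z * e * z = e⁻¹ * (z * (e * z * e⁻¹)) * e by group, ← this]; group)
  have a2 : e⁻¹ * z * e ∈ C_[δ] := mul_mem (mul_mem (inv_mem eδ) zδ) eδ
  have a3 : e⁻¹ * z * e * (e⁻¹ * z * e) = 1 := by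
    rw [show e⁻¹ * z * e * (e⁻¹ * z * e) = e⁻¹ * (z * z) * e by group, l.zz]; group
  obtain ⟨m, mM, ym⟩ := c.hk.oc _ (lc.inM _ a1 a2) (by
    rw [← JE.mul s _ a1 _ a1, a3]; exact (s.ker 1 (one_mem _)).2 (one_mem _))
  obtain ⟨c0, i0, j0, rfl⟩ := lc.lift m mM
  have w1 := mul_mem (mul_mem i0 a1) (inv_mem i0)
  have w2 := mul_mem (mul_mem j0 a2) (inv_mem j0)
  rw [← JE.inv s _ i0, ← JE.mul s _ i0 _ a1, ← JE.mul s _ (mul_mem i0 a1) _ (inv_mem i0)] at ym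
  obtain ⟨a, aA, aδ, ea⟩ := c2.YA _ ym
  have wA : c0 * (e⁻¹ * z * e) * c0⁻¹ ∈ A := by
    rcases lc.qz _ ((s.ker _ (mul_mem w1 (inv_mem (c.Az aA)))).1 (by
      rw [JE.mul s _ w1 _ (inv_mem (c.Az aA)), JE.inv s _ (c.Az aA), ea, mul_inv_cancel])) (mul_mem w2 (inv_mem aδ)) with r | r
    · exact mul_inv_eq_one.1 r ▸ aA
    · exact mul_inv_eq_iff_eq_mul.1 r ▸ mul_mem zA aA
  have cm : ∀ x ∈ A, ∀ y ∈ A, x * y = y * x := fun x i y j => by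
    rw [← inv_eq_of_mul_eq_one_right (c.A2 _ (mul_mem i j)), mul_inv_rev, inv_eq_of_mul_eq_one_right (c.A2 _ i),
      inv_eq_of_mul_eq_one_right (c.A2 _ j)]
  obtain ⟨k, kz, kN⟩ := L.Fz.fc (g := e * c0⁻¹) c.u c.A2 c.cA c.Az (by
    rintro _ ⟨x, i, rfl⟩
    have := cm x i _ wA
    refine mem_cent1.2 ?_
    show e * c0⁻¹ * x * (e * c0⁻¹)⁻¹ * z = z * (e * c0⁻¹ * x * (e * c0⁻¹)⁻¹)
    rw [show e * c0⁻¹ * x * (e * c0⁻¹)⁻¹ * z = e * c0⁻¹ * (x * (c0 * (e⁻¹ * z * e) * c0⁻¹)) * (e * c0⁻¹)⁻¹ by group, this]; group)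
  obtain ⟨x, xz, xδ, ex⟩ : ∃ x ∈ C_[z], x * δ * x⁻¹ ∈ zpowers δ ∧ π x = π k := by
    by_cases j : π k ∈ M
    · obtain ⟨x, i, o, t⟩ := lc.lift _ j
      exact ⟨x, i, by rw [mem_cent1.1 o, mul_inv_cancel_right]; exact mem_zpowers δ, t⟩
    · obtain ⟨x, i, o, t⟩ := KW.su2 s c.δz c.δd c.δ3 j
      exact ⟨x, i, o ▸ inv_mem (mem_zpowers δ), t⟩
  have xQ : x * k⁻¹ ∈ Q := (s.ker _ (mul_mem xz (inv_mem kz))).1 (by
    rw [JE.mul s _ xz _ (inv_mem kz), JE.inv s _ kz, ex, mul_inv_cancel])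
  have b1 := hn _ (mul_mem (lc.QN xQ) kN) (by
    rwa [show x * k⁻¹ * (k * (e * c0⁻¹)) * δ * (x * k⁻¹ * (k * (e * c0⁻¹)))⁻¹ = x * (e * c0⁻¹ * δ * (e * c0⁻¹)⁻¹) * x⁻¹ by group,
      mem_cent1.1 (mul_mem eδ (inv_mem j0)), mul_inv_cancel_right])
  rw [show x * k⁻¹ * (k * (e * c0⁻¹)) * z * (x * k⁻¹ * (k * (e * c0⁻¹)))⁻¹ = x * (e * (c0⁻¹ * z) * c0 * e⁻¹) * x⁻¹ by group,
    mem_cent1.1 (inv_mem i0), mul_inv_eq_iff_eq_mul, ← mem_cent1.1 xz] at b1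
  rw [← mul_left_cancel b1]; 
  have := mul_left_cancel b1
  rw [this]
  calc e * z * e⁻¹ = e * (z * c0⁻¹) * c0 * e⁻¹ := by group
    _ = z := this

end H18.TW2
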